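import Mathlib
import Cfsg.Agent.Lib.ZStar.Final
import Cfsg.Agent.Lib.Isolated.Basic
import Cfsg.Agent.Lib.PSolvable.Core

/-!
A group in which the centralisers of the non-trivial elements of an elementary abelian group `R` of order 64 lie in
`N = N(R)`, with `N` inducing enough symplectic transvections on `R`, is equal to `N`.
-/

set_option autoImplicit false
set_option linter.unusedSectionVars false

namespace Cfsg.Agent.Lib.ExtraEight

open Cfsg

universe u

variable {P : Type u} [Group P] [Finite P]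

/-- The abstract situation. -/
structure Fused (G N R : Subgroup P) : Prop where
  rn : R ≤ N
  ng : N ≤ G
  comm : ∀ x ∈ R, ∀ y ∈ R, x * y = y * x
  sq : ∀ x ∈ R, x * x = 1
  card : Nat.card R = 64
  norm : ∀ n ∈ N, ∀ x ∈ R, n * x * n⁻¹ ∈ R
  self : ∀ n ∈ N, (∀ x ∈ R, n * x = x * n) → n ∈ R
  trans : ∀ x ∈ R, ∀ y ∈ R, x ≠ 1 → y ≠ 1 → ∃ n ∈ N, n * x * n⁻¹ = y
  cent : ∀ x ∈ R, x ≠ 1 → ∀ g ∈ G, g * x = x * g → g ∈ N
  form : ∃ β : P → P → ZMod 2, (∀ x ∈ R, (∀ y ∈ R, β y x = 0) → x = 1) ∧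
    (∀ x ∈ R, ∀ y ∈ R, ∀ z ∈ R, β (x * y) z = β x z + β y z) ∧
    (∀ x ∈ R, ∀ y ∈ R, ∀ z ∈ R, β x (y * z) = β x y + β x z) ∧
    (∀ n ∈ N, ∀ x ∈ R, ∀ y ∈ R, β (n * x * n⁻¹) (n * y * n⁻¹) = β x y)
  root : ∀ y ∈ N, y ∉ R → y * y = 1 → ∃ v ∈ R, v ≠ 1 ∧ v * y = y * v ∧ ∃ s ∈ N, s * y = y * s ∧ s * s = v

namespace Fused

variable {G N R : Subgroup P} (h : Fused G N R)
include h

theorem inv_eq {x : P} (hx : x ∈ R) : x⁻¹ = x := inv_eq_of_mul_eq_one_right (h.sq x hx)

/-- Conjugation by an element of `G` preserves the situation. -/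
theorem conj {g : P} (hg : g ∈ G) :
    Fused G (N.map (MulAut.conj g).toMonoidHom) (R.map (MulAut.conj g).toMonoidHom) := by
  set e := MulAut.conj g with he
  have hmem : ∀ {H : Subgroup P} {x : P}, x ∈ H.map e.toMonoidHom ↔ e.symm x ∈ H := by
    intro H x
    rw [Subgroup.mem_map_equiv]
  have heG : ∀ {x : P}, x ∈ G → e.symm x ∈ G := fun {x} hx => by
    simp only [he, MulAut.conj_symm_apply]; exact mul_mem (mul_mem (inv_mem hg) hx) hg
  have hEG : ∀ {x : P}, e.symm x ∈ G → x ∈ G := fun {x} hx => by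
    have : x = g * e.symm x * g⁻¹ := by simp [he, mul_assoc]
    rw [this]; exact mul_mem (mul_mem hg hx) (inv_mem hg)
  refine ⟨Subgroup.map_mono h.rn, fun x hx => hEG (h.ng (hmem.1 hx)), fun x hx y hy => ?_, fun x hx => ?_, ?_,
    fun n hn x hx => ?_, fun n hn hc => ?_, fun x hx y hy hx1 hy1 => ?_, fun x hx hx1 z hz hzx => ?_, ?_,
    fun y hy hyR hy2 => ?_⟩
  · apply e.symm.injective; rw [map_mul, map_mul]; exact h.comm _ (hmem.1 hx) _ (hmem.1 hy)
  · apply e.symm.injective; rw [map_mul, map_one]; exact h.sq _ (hmem.1 hx)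
  · rw [Subgroup.card_map_of_injective (K := R) e.injective, h.card]
  · rw [hmem, map_mul, map_mul, map_inv]; exact h.norm _ (hmem.1 hn) _ (hmem.1 hx)
  · rw [hmem]
    refine h.self _ (hmem.1 hn) fun x hx => e.injective ?_
    rw [map_mul, map_mul, e.apply_symm_apply]
    exact hc _ ⟨x, hx, rfl⟩
  · obtain ⟨n, hn, e'⟩ := h.trans _ (hmem.1 hx) _ (hmem.1 hy) (fun e0 => hx1 (e.symm.injective (e0.trans (map_one _).symm)))
      (fun e0 => hy1 (e.symm.injective (e0.trans (map_one _).symm)))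
    refine ⟨e n, ⟨n, hn, rfl⟩, e.symm.injective ?_⟩
    rw [map_mul, map_mul, map_inv, e.symm_apply_apply, e']
  · rw [hmem]
    refine h.cent _ (hmem.1 hx) (fun e0 => hx1 (e.symm.injective (e0.trans (map_one _).symm))) _ (heG hz) ?_
    rw [← map_mul, hzx, map_mul]
  · obtain ⟨β, b1, b2, b3, b4⟩ := h.form
    refine ⟨fun x y => β (e.symm x) (e.symm y), fun x hx hxy => ?_, fun x hx y hy z hz => ?_,
      fun x hx y hy z hz => ?_, fun n hn x hx y hy => ?_⟩
    · have := b1 _ (hmem.1 hx) fun y hy => by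
        have := hxy (e y) ⟨y, hy, rfl⟩
        simpa using this
      exact e.symm.injective (this.trans (map_one _).symm)
    · simp only [map_mul]; exact b2 _ (hmem.1 hx) _ (hmem.1 hy) _ (hmem.1 hz)
    · simp only [map_mul]; exact b3 _ (hmem.1 hx) _ (hmem.1 hy) _ (hmem.1 hz)
    · simp only [map_mul, map_inv]; exact b4 _ (hmem.1 hn) _ (hmem.1 hx) _ (hmem.1 hy)
  · obtain ⟨v, hv, hv1, hvy, s, hs, hsy, hss⟩ := h.root _ (hmem.1 hy) (fun hh => hyR (hmem.2 hh))
      (by rw [← map_mul, hy2, map_one])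
    refine ⟨e v, ⟨v, hv, rfl⟩, fun e0 => hv1 (e.injective (e0.trans (map_one _).symm)), ?_, e s, ⟨s, hs, rfl⟩, ?_, ?_⟩
    · apply e.symm.injective; simpa only [map_mul, e.symm_apply_apply] using hvy
    · apply e.symm.injective; simpa only [map_mul, e.symm_apply_apply] using hsy
    · rw [← map_mul, hss]

/-- An element of `G` carrying a non-trivial element of `R` into `R` lies in `N`. -/
theorem mem_of_conj_mem {g x : P} (hg : g ∈ G) (hx : x ∈ R) (hx1 : x ≠ 1) (hgx : g * x * g⁻¹ ∈ R) : g ∈ N := by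
  obtain ⟨n, hn, e⟩ := h.trans _ hgx x hx (fun e => hx1 (by simpa using e)) hx1
  have : n * g ∈ N := h.cent x hx hx1 _ (mul_mem (h.ng hn) hg) (by
    have e' : n * g * x * (n * g)⁻¹ = x :=
      (show n * g * x * (n * g)⁻¹ = n * (g * x * g⁻¹) * n⁻¹ by group).trans e
    exact mul_inv_eq_iff_eq_mul.1 e')
  exact (N.mul_mem_cancel_left hn).1 this

/-- The commutator map of an element of `N` on `R`. -/
def cm {y : P} (hy : y ∈ N) : R →* R where
  toFun r := ⟨y * r * y⁻¹ * r, mul_mem (h.norm y hy r r.2) r.2⟩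
  map_one' := Subtype.ext (by simp)
  map_mul' r r' := Subtype.ext (by
    show y * (r * r' : P) * y⁻¹ * (r * r' : P) = (y * r * y⁻¹ * r) * (y * r' * y⁻¹ * r')
    have hc := h.comm (r : P) r.2 (y * r' * y⁻¹) (h.norm y hy r' r'.2)
    calc y * ((r : P) * r') * y⁻¹ * ((r : P) * r')
        = (y * r * y⁻¹) * ((y * r' * y⁻¹) * (r : P)) * r' := by group
      _ = (y * r * y⁻¹) * ((r : P) * (y * r' * y⁻¹)) * r' := by rw [hc]
      _ = _ := by group)

omit [Finite P] in
theorem cm_apply {y : P} (hy : y ∈ N) (r : R) : (h.cm hy r : P) = y * r * y⁻¹ * r := rfl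

theorem mem_ker {y : P} (hy : y ∈ N) (r : R) : r ∈ (h.cm hy).ker ↔ (r : P) * y = y * r := by
  rw [MonoidHom.mem_ker, Subtype.ext_iff, h.cm_apply, OneMemClass.coe_one, mul_eq_one_iff_eq_inv,
    h.inv_eq r.2, mul_inv_eq_iff_eq_mul, eq_comm]

theorem card_mul {y : P} (hy : y ∈ N) :
    Nat.card (h.cm hy).ker * Nat.card (h.cm hy).range = 64 := by
  rw [← h.card, ← Subgroup.index_ker, Subgroup.card_mul_index]

theorem range_le_ker {y : P} (hy : y ∈ N) (hy2 : y * y = 1) : (h.cm hy).range ≤ (h.cm hy).ker := by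
  rintro _ ⟨r, rfl⟩
  rw [h.mem_ker hy, h.cm_apply]
  have hyi : y⁻¹ = y := inv_eq_of_mul_eq_one_right hy2
  have hc := h.comm (r : P) r.2 (y * r * y⁻¹) (h.norm y hy r r.2)
  rw [hyi] at hc ⊢
  calc y * r * y * r * y = y * ((r : P) * (y * r * y)) * 1 := by group
    _ = y * ((y * r * y) * r) * 1 := by rw [hc]
    _ = y * (y * r * y * r) := by group

theorem eight_le {y : P} (hy : y ∈ N) (hy2 : y * y = 1) : 8 ≤ Nat.card (h.cm hy).ker := by
  have h1 := h.card_mul hy
  have h2 := Nat.le_of_dvd Nat.card_pos (Subgroup.card_dvd_of_le (h.range_le_ker hy hy2))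
  by_contra hlt
  push Not at hlt
  nlinarith [Nat.mul_le_mul (Nat.le_of_lt_succ hlt) (h2.trans (Nat.le_of_lt_succ hlt))]

/-- A non-trivial element of `R` commuting with an involution of `N`. -/
theorem exists_commute {y : P} (hy : y ∈ N) (hy2 : y * y = 1) : ∃ r ∈ R, r ≠ 1 ∧ r * y = y * r := by
  have h8 := h.eight_le hy hy2
  obtain ⟨r, hr, hr1⟩ := (h.cm hy).ker.bot_or_exists_ne_one.resolve_left fun e => by
    rw [e, Subgroup.card_bot] at h8; omega
  exact ⟨r, r.2, fun e => hr1 (Subtype.ext e), (h.mem_ker hy r).1 hr⟩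

/-- The double count for the orthogonal of a subgroup. -/
theorem card_perp {β : P → P → ZMod 2} (b1 : ∀ x ∈ R, (∀ y ∈ R, β y x = 0) → x = 1)
    (b2 : ∀ x ∈ R, ∀ y ∈ R, ∀ z ∈ R, β (x * y) z = β x z + β y z)
    (b3 : ∀ x ∈ R, ∀ y ∈ R, ∀ z ∈ R, β x (y * z) = β x y + β x z) (A : Subgroup R) :
    Nat.card {r : R // ∀ a ∈ A, β r a = 0} * Nat.card A = 64 := by
  classical
  haveI : Fintype R := Fintype.ofFinite R
  haveI : Fintype A := Fintype.ofFinite A
  let f : R → A → ℤ := fun r a => if β r a = 0 then 1 else -1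
  have hz : ∀ z : ZMod 2, z = 0 ∨ z = 1 := by decide
  have col : ∀ a : A, ∑ r, f r a = if a = 1 then (Fintype.card R : ℤ) else 0 := by
    intro a
    split_ifs with ha
    · subst ha
      have h0 : ∀ r : R, β r 1 = 0 := fun r => by
        have := b3 r r.2 1 (one_mem R) 1 (one_mem R)
        rw [mul_one] at this
        exact left_eq_add.mp this
      simp only [f, OneMemClass.coe_one, h0, if_true, Finset.sum_const, Finset.card_univ, nsmul_eq_mul, mul_one]
    · obtain ⟨r0, hr0, hβ⟩ : ∃ r0 ∈ R, β r0 a ≠ 0 := by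
        by_contra hc
        push Not at hc
        exact ha (Subtype.ext (Subtype.ext (b1 _ (a : R).2 hc)))
      have hflip : ∀ r : R, f (⟨r0, hr0⟩ * r) a = - f r a := by
        intro r
        have h1 : β r0 (a : R) = 1 := (hz _).resolve_left hβ
        simp only [f, Subgroup.coe_mul, b2 r0 hr0 r r.2 _ (a : R).2, h1]
        rcases hz (β r (a : R)) with e | e <;> rw [e] <;> simp [show (1 : ZMod 2) + 1 = 0 by decide]
      have := Equiv.sum_comp (Equiv.mulLeft (⟨r0, hr0⟩ : R)) fun r => f r a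
      simp only [Equiv.coe_mulLeft, hflip, Finset.sum_neg_distrib] at this
      omega
  have row : ∀ r : R, ∑ a, f r a = if ∀ a ∈ A, β r a = 0 then (Fintype.card A : ℤ) else 0 := by
    intro r
    split_ifs with hr
    · simp only [f, fun a : A => hr a a.2, if_true, Finset.sum_const, Finset.card_univ, nsmul_eq_mul, mul_one]
    · push Not at hr
      obtain ⟨a0, ha0, hβ⟩ := hr
      have hflip : ∀ a : A, f r (⟨a0, ha0⟩ * a) = - f r a := by
        intro a
        have h1 : β r a0 = 1 := (hz _).resolve_left hβ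
        simp only [f, Subgroup.coe_mul, b3 r r.2 _ a0.2 _ (a : R).2, h1]
        rcases hz (β r (a : R)) with e | e <;> rw [e] <;> simp [show (1 : ZMod 2) + 1 = 0 by decide]
      have := Equiv.sum_comp (Equiv.mulLeft (⟨a0, ha0⟩ : A)) fun a => f r a
      simp only [Equiv.coe_mulLeft, hflip, Finset.sum_neg_distrib] at this
      omega
  have hs := Finset.sum_comm (s := (Finset.univ : Finset R)) (t := (Finset.univ : Finset A)) (f := f)
  simp only [col, row, Finset.sum_ite_eq', Finset.mem_univ, if_true] at hs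
  rw [← Finset.sum_filter, Finset.sum_const, nsmul_eq_mul] at hs
  have hc : Nat.card R = 64 := h.card
  rw [Nat.card_eq_fintype_card] at hc
  rw [Nat.card_eq_fintype_card, Nat.card_eq_fintype_card, Fintype.card_subtype]
  rw [hc] at hs
  exact_mod_cast hs

/-- No element of a conjugate of `R` meeting `R` trivially lies in `N`. -/
theorem not_mem {N' R' : Subgroup P} (h' : Fused G N' R') (hdis : ∀ z ∈ R, z ∈ R' → z = 1) {y : P}
    (hy' : y ∈ R') (hyN : y ∈ N) (hy1 : y ≠ 1) : False := by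
  have hy2 := h'.sq y hy'
  have hyR : y ∉ R := fun e => hy1 (hdis y e hy')
  have hG : ∀ {r : P}, r ∈ R → r ∈ G := fun hr => h.ng (h.rn hr)
  have hG' : ∀ {r : P}, r ∈ R' → r ∈ G := fun hr => h'.ng (h'.rn hr)
  have hcomm : ∀ a ∈ R, a ∈ N' → ∀ b ∈ R', b ∈ N → a * b = b * a := by
    intro a ha ha' b hb hb'
    have := hdis (a * b * a⁻¹ * b⁻¹)
      (by rw [show a * b * a⁻¹ * b⁻¹ = a * (b * a⁻¹ * b⁻¹) by group]
          exact mul_mem ha (h.norm b hb' _ (inv_mem ha)))
      (mul_mem (h'.norm a ha' _ hb) (inv_mem hb))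
    exact mul_inv_eq_iff_eq_mul.1 (mul_inv_eq_one.1 this)
  let A : Subgroup R := N'.subgroupOf R
  let B : Subgroup R' := N.subgroupOf R'
  have kerA : ∀ {b : P}, b ∈ R' → ∀ hb : b ∈ N, b ≠ 1 → (h.cm hb).ker = A := fun {b} hb' hb hb1 => by
    ext r
    rw [h.mem_ker hb]
    exact ⟨fun e => h'.cent b hb' hb1 r (hG r.2) e, fun e => hcomm r r.2 e b hb' hb⟩
  have kerB : ∀ {a : P}, a ∈ R → ∀ ha : a ∈ N', a ≠ 1 → (h'.cm ha).ker = B := fun {a} ha' ha ha1 => by
    ext r
    rw [h'.mem_ker ha]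
    exact ⟨fun e => h.cent a ha' ha1 r (hG' r.2) e, fun e => (hcomm a ha' ha r r.2 e).symm⟩
  obtain ⟨v, hv, hv1, hvy, s, hs, hsy, hss⟩ := h.root y hyN hyR hy2
  have hvN' : v ∈ N' := h'.cent y hy' hy1 v (hG hv) hvy
  have hsN' : s ∈ N' := h'.cent y hy' hy1 s (h.ng hs) hsy
  have hA8 : 8 ≤ Nat.card A := kerA hy' hyN hy1 ▸ h.eight_le hyN hy2
  have hB8 : 8 ≤ Nat.card B := kerB hv hvN' hv1 ▸ h'.eight_le hvN' (h.sq v hv)
  -- the bound on the orders
  have hAB : Nat.card A * Nat.card B ≤ 64 := by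
    obtain ⟨β, b1, b2, b3, b4⟩ := h.form
    obtain ⟨e, he⟩ : ∃ e : R, e ∉ A := by
      by_contra hc
      push Not at hc
      exact hyR (h.self y hyN fun x hx => ((h.mem_ker hyN ⟨x, hx⟩).1 (kerA hy' hyN hy1 ▸ hc ⟨x, hx⟩)).symm)
    have hβ1 : ∀ x ∈ R, β x x + β x x = 0 := fun x _ => CharTwo.add_self_eq_zero _
    let φ : B → {r : R // ∀ a ∈ A, β r a = 0} := fun b => ⟨h.cm (show ((b : R') : P) ∈ N from b.2) e, by
      intro a ha
      simp only [h.cm_apply]
      have hbN : ((b : R') : P) ∈ N := b.2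
      rw [b2 _ (h.norm _ hbN e e.2) _ e.2 _ a.2]
      have hab := hcomm a a.2 ha ((b : R') : P) (b : R').2 b.2
      have := b4 _ hbN e e.2 a a.2
      rw [← hab, mul_inv_cancel_right] at this
      rw [this, CharTwo.add_self_eq_zero]⟩
    have hφ : Function.Injective φ := by
      intro b b' hbb
      have h0 : ((b : R') : P) * e * ((b : R') : P)⁻¹ * e = ((b' : R') : P) * e * ((b' : R') : P)⁻¹ * e := by
        have := congrArg (fun x => ((x.1 : R) : P)) hbb
        simpa [φ, h.cm_apply] using this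
      have hd : ((b' : R') : P)⁻¹ * (b : R') ∈ N := mul_mem (inv_mem b'.2) b.2
      by_contra hne
      have hd1 : ((b' : R') : P)⁻¹ * (b : R') ≠ 1 := fun e1 =>
        hne (Subtype.ext (Subtype.ext (inv_mul_eq_one.1 e1).symm))
      apply he
      rw [← kerA (mul_mem (inv_mem (b' : R').2) (b : R').2) hd hd1, h.mem_ker hd, eq_comm]
      have h1 := mul_right_cancel h0
      calc ((b' : R') : P)⁻¹ * (b : R') * e = ((b' : R') : P)⁻¹ * (((b : R') : P) * e * ((b : R') : P)⁻¹) * (b : R') := by group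
        _ = ((b' : R') : P)⁻¹ * (((b' : R') : P) * e * ((b' : R') : P)⁻¹) * (b : R') := by rw [h1]
        _ = (e : P) * (((b' : R') : P)⁻¹ * (b : R')) := by group
    have := Nat.card_le_card_of_injective φ hφ
    calc Nat.card A * Nat.card B ≤ Nat.card A * Nat.card {r : R // ∀ a ∈ A, β r a = 0} :=
          Nat.mul_le_mul_left _ this
      _ = 64 := by rw [mul_comm]; exact h.card_perp b1 b2 b3 A
  have hB : Nat.card B = 8 := by nlinarith
  -- the square root `s` of `v` on `R'`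
  obtain ⟨u, hu⟩ : ∃ u, u = h'.cm hsN' := ⟨_, rfl⟩
  have huu : ∀ r, u (u r) = h'.cm hvN' r := fun r => Subtype.ext (by
    rw [hu, h'.cm_apply, h'.cm_apply, h'.cm_apply, ← hss]
    have hn := h'.norm s hsN' r r.2
    calc s * (s * r * s⁻¹ * r) * s⁻¹ * (s * r * s⁻¹ * r)
        = (s * s * r * (s * s)⁻¹) * ((s * r * s⁻¹) * (s * r * s⁻¹)) * r := by group
      _ = _ := by rw [h'.sq _ hn, mul_one])
  have hrv : (h'.cm hvN').range = B := by
    have h1 := h'.card_mul hvN'
    have h2 := h'.range_le_ker hvN' (h.sq v hv)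
    rw [kerB hv hvN' hv1] at h1 h2
    rw [hB] at h1
    exact Subgroup.eq_of_le_of_card_ge h2 (by omega)
  have hK : u.ker ≤ u.range := by
    intro r hr
    have : r ∈ (h'.cm hvN').ker := by
      rw [MonoidHom.mem_ker, ← huu, MonoidHom.mem_ker.1 hr, map_one]
    rw [kerB hv hvN' hv1, ← hrv] at this
    obtain ⟨w, rfl⟩ := this
    exact ⟨u w, huu w⟩
  have e1 : Nat.card u.ker * Nat.card u.range = 64 := by rw [hu]; exact h'.card_mul hsN'
  have hmap : u.range.map u = B := by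
    ext r
    rw [← hrv]
    constructor
    · rintro ⟨_, ⟨w, rfl⟩, rfl⟩; exact ⟨w, (huu w).symm⟩
    · rintro ⟨w, rfl⟩; exact ⟨u w, ⟨w, rfl⟩, huu w⟩
  let u' : u.range →* R' := u.comp u.range.subtype
  have e2 : Nat.card u'.ker * Nat.card u'.range = Nat.card u.range := by
    rw [← Subgroup.index_ker, Subgroup.card_mul_index]
  have e3 : Nat.card u'.ker = Nat.card u.ker :=
    Nat.card_congr
      { toFun := fun x => ⟨(x : u.range), x.2⟩
        invFun := fun x => ⟨⟨x, hK x.2⟩, x.2⟩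
        left_inv := fun _ => rfl
        right_inv := fun _ => rfl }
  have e4 : Nat.card u'.range = 8 := by
    rw [show u'.range = B by rw [← hmap, MonoidHom.range_comp, Subgroup.range_subtype], hB]
  rw [e4, e3] at e2
  rw [← e2] at e1
  have : Nat.card u.ker < 4 := by nlinarith
  interval_cases hk : Nat.card u.ker <;> omega

/-- The conjugates of elements of `R` lying in `N` lie in `R`. -/
theorem mem_of_mem_N {g x : P} (hg : g ∈ G) (hx : x ∈ R) (hgx : g * x * g⁻¹ ∈ N) : g * x * g⁻¹ ∈ R := by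
  by_contra hR
  refine h.not_mem (h.conj hg) ?_ ⟨x, hx, rfl⟩ hgx fun e => hR (by
    have e' : g * x * g⁻¹ = 1 := e
    rw [e']; exact one_mem R)
  rintro z hz ⟨w, hw, rfl⟩
  by_contra hne
  exact hR (h.norm g (h.mem_of_conj_mem hg hw (fun e => hne (by simp [e])) hz) x hx)

/-- An element of `G` carrying a non-trivial element of `R` into `N` lies in `N`. -/
theorem mem_of_conj_mem_N {g x : P} (hg : g ∈ G) (hx : x ∈ R) (hx1 : x ≠ 1) (hgx : g * x * g⁻¹ ∈ N) : g ∈ N :=
  h.mem_of_conj_mem hg hx hx1 (h.mem_of_mem_N hg hx hgx)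

/-- The centralisers of the transvection involutions. -/
theorem cent_hyper {t : P} (ht : t ∈ N) (htR : t ∉ R) (ht2 : t * t = 1)
    (hc : Nat.card (h.cm ht).ker = 32) {g : P} (hg : g ∈ G) (hgt : g * t = t * g) : g ∈ N := by
  have hr2 : Nat.card (h.cm ht).range = 2 := by have := h.card_mul ht; rw [hc] at this; omega
  obtain ⟨a, ha, ha1⟩ := (h.cm ht).range.bot_or_exists_ne_one.resolve_left fun e => by
    rw [e, Subgroup.card_bot] at hr2; omega
  have huniq : ∀ b ∈ (h.cm ht).range, b ≠ 1 → b = a := by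
    intro b hb hb1
    obtain ⟨x, y, _, hxy⟩ := Nat.card_eq_two_iff.1 hr2
    have hall : ∀ z : (h.cm ht).range, z = x ∨ z = y := fun z => by
      have : z ∈ ({x, y} : Set (h.cm ht).range) := hxy.symm ▸ Set.mem_univ z
      simpa using this
    rcases hall ⟨a, ha⟩ with e | e <;> rcases hall ⟨b, hb⟩ with e' | e' <;> rcases hall 1 with e'' | e'' <;>
      first
        | exact congrArg Subtype.val (e'.trans e.symm)
        | exact absurd (congrArg Subtype.val (e'.trans e''.symm)) hb1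
        | exact absurd (congrArg Subtype.val (e.trans e''.symm)) ha1
  have hat : (a : P) * t = t * a := (h.mem_ker ht a).1 (h.range_le_ker ht ht2 ha)
  have hane : (a : P) ≠ 1 := fun e => ha1 (Subtype.ext e)
  let C : Subgroup P := G ⊓ Subgroup.centralizer {t}
  have hC : ∀ {x : P}, x ∈ C ↔ x ∈ G ∧ x * t = t * x := by
    intro x
    simp only [C, Subgroup.mem_inf, Subgroup.mem_centralizer_singleton_iff]
  have haC : (a : P) ∈ C := hC.2 ⟨h.ng (h.rn a.2), hat⟩
  -- elements of `N` commuting with `t` fix `a`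
  have hfix : ∀ n ∈ N, n * t = t * n → n * a * n⁻¹ = (a : P) := by
    intro n hn hnt
    obtain ⟨r, hr⟩ := ha
    have e1 : (h.cm ht ⟨n * r * n⁻¹, h.norm n hn r r.2⟩ : P) = n * a * n⁻¹ := by
      rw [h.cm_apply, ← hr, h.cm_apply]
      have h1 : t * n = n * t := hnt.symm
      have h2 : n⁻¹ * t⁻¹ = t⁻¹ * n⁻¹ := by rw [← mul_inv_rev, ← mul_inv_rev, h1]
      calc t * (n * r * n⁻¹) * t⁻¹ * (n * r * n⁻¹)
          = (t * n) * r * (n⁻¹ * t⁻¹) * (n * r * n⁻¹) := by group
        _ = (n * t) * r * (t⁻¹ * n⁻¹) * (n * r * n⁻¹) := by rw [h1, h2]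
        _ = _ := by group
    have hne : h.cm ht ⟨n * r * n⁻¹, h.norm n hn r r.2⟩ ≠ 1 := fun e => hane (by
      rw [e, OneMemClass.coe_one] at e1
      exact conj_eq_one_iff.1 e1.symm)
    rw [← e1, huniq _ ⟨_, rfl⟩ hne]
  have hiso : IsIsolatedInvolution (⟨a, haC⟩ : C) := by
    refine ⟨orderOf_eq_prime (Subtype.ext (by rw [SubmonoidClass.coe_pow, pow_two, h.sq _ a.2]; rfl))
      fun e => hane (congrArg Subtype.val e), fun x hx => Subtype.ext ?_⟩
    have hxG : (x : P) ∈ G := (hC.1 x.2).1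
    have e := congrArg Subtype.val hx.eq
    simp only [Subgroup.coe_mul, Subgroup.coe_inv] at e
    have hN := h.cent a a.2 hane _ (mul_mem (mul_mem hxG (h.ng (h.rn a.2))) (inv_mem hxG)) e.symm
    exact hfix _ (h.mem_of_conj_mem_N hxG a.2 hane hN) (hC.1 x.2).2
  -- the odd core is trivial
  haveI : Finite C := inferInstance
  have hodd : (Nat.card (oddCore C)).Coprime 2 := PSolvable.pPrimeCore_coprime
  obtain ⟨O, hOdef⟩ : ∃ O, O = oddCore C := ⟨_, rfl⟩
  rw [← hOdef] at hodd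
  haveI hOn : O.Normal := hOdef ▸ inferInstanceAs (oddCore C).Normal
  have hinvol : ∀ x ∈ O, x * x = 1 → x = 1 := by
    intro x hx hx2
    have h1 : orderOf x ∣ Nat.card O := Subgroup.orderOf_dvd_natCard O hx
    have h2 : orderOf x ∣ 2 := orderOf_dvd_of_pow_eq_one (by rw [pow_two, hx2])
    exact orderOf_eq_one_iff.1 (Nat.dvd_one.1 (hodd ▸ Nat.dvd_gcd h1 h2))
  have hON : ∀ x ∈ O, ((x : C) : P) ∈ N → x = 1 := by
    intro x hx hxN
    have hxA : ∀ r : R, r ∈ (h.cm ht).ker → (h.cm hxN) r = 1 := by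
      intro r hr
      have hrC : (r : P) ∈ C := hC.2 ⟨h.ng (h.rn r.2), (h.mem_ker ht r).1 hr⟩
      have hmem : (x * (⟨r, hrC⟩ * x⁻¹ * ⟨r, hrC⟩⁻¹) : C) ∈ O :=
        mul_mem hx (hOn.conj_mem _ (inv_mem hx) _)
      have e : ((x * (⟨r, hrC⟩ * x⁻¹ * ⟨r, hrC⟩⁻¹) : C) : P) = (h.cm hxN r : P) := by
        simp only [Subgroup.coe_mul, Subgroup.coe_inv, h.cm_apply, h.inv_eq r.2]
        group
      have h1 := hinvol _ hmem (Subtype.ext (by rw [Subgroup.coe_mul, e, h.sq _ (h.cm hxN r).2]; rfl))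
      exact Subtype.ext (e.symm.trans (congrArg Subtype.val h1))
    have hx2 : ((x : C) : P) * x ∈ R := by
      refine h.self _ (mul_mem hxN hxN) fun r hr => ?_
      have hd : h.cm hxN ⟨r, hr⟩ ∈ (h.cm ht).ker := by
        obtain ⟨d, hd⟩ : ∃ d, d = (x : P) * r * (x : P)⁻¹ := ⟨_, rfl⟩
        have hdR : d ∈ R := hd ▸ h.norm _ hxN r hr
        have e : h.cm hxN ⟨r, hr⟩ = ⟨d, hdR⟩ * ⟨r, hr⟩ := Subtype.ext (by
          rw [h.cm_apply, Subgroup.coe_mul]
          show (x : P) * r * (x : P)⁻¹ * r = d * r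
          rw [hd])
        rw [MonoidHom.mem_ker, e, map_mul]
        by_cases h0 : h.cm ht ⟨r, hr⟩ = 1
        · have : (⟨r, hr⟩ : R) ∈ (h.cm ht).ker := h0
          rw [h0, mul_one]
          have hxr := (h.mem_ker hxN ⟨r, hr⟩).1 (hxA _ this)
          have : (⟨d, hdR⟩ : R) = ⟨r, hr⟩ := Subtype.ext (by
            show d = r
            rw [hd, ← hxr, mul_inv_cancel_right])
          rw [this, h0]
        · have h1 : h.cm ht ⟨d, hdR⟩ ≠ 1 := by
            intro h1
            apply h0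
            have hd' : (d * t : P) = t * d := (h.mem_ker ht ⟨d, hdR⟩).1 h1
            refine (h.mem_ker ht ⟨r, hr⟩).2 ?_
            have hxt := (hC.1 x.2).2
            have hxt' : ((x : C) : P)⁻¹ * t = t * ((x : C) : P)⁻¹ := by
              rw [inv_mul_eq_iff_eq_mul, ← mul_assoc, hxt, mul_inv_cancel_right]
            calc r * t = ((x : C) : P)⁻¹ * (d * ((x : C) : P) * t) := by rw [hd]; group
              _ = ((x : C) : P)⁻¹ * (d * t * (x : C)) := by rw [mul_assoc d, hxt, ← mul_assoc d t]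
              _ = ((x : C) : P)⁻¹ * t * d * (x : C) := by rw [hd']; group
              _ = t * (((x : C) : P)⁻¹ * d * (x : C)) := by rw [hxt']; group
              _ = t * r := by rw [hd]; group
          rw [huniq _ ⟨_, rfl⟩ h1, huniq _ ⟨_, rfl⟩ h0]
          exact Subtype.ext (h.sq _ a.2)
      have e1 := (h.mem_ker hxN _).1 (hxA _ hd)
      rw [h.cm_apply] at e1
      simp only at e1
      obtain ⟨c, hc'⟩ : ∃ c, c = ((x : C) : P) * r * ((x : C) : P)⁻¹ * r := ⟨_, rfl⟩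
      rw [← hc'] at e1
      have hcr : (x : P) * r = c * r * x := by rw [hc', mul_assoc _ r r, h.sq r hr]; group
      have hcR : c ∈ R := hc' ▸ mul_mem (h.norm _ hxN r hr) hr
      calc (x : P) * x * r = x * (c * r * x) := by rw [mul_assoc, hcr]
        _ = (x * c) * (r * x) := by group
        _ = c * (x * r) * x := by rw [← e1]; group
        _ = (c * c) * r * (x * x) := by rw [hcr]; group
        _ = r * (x * x) := by rw [h.sq c hcR, one_mul]
    have := h.sq _ hx2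
    have h1 := hinvol (x * x) (mul_mem hx hx) (Subtype.ext (by simpa using this))
    exact hinvol x hx h1
  have hObot : ∀ z ∈ O, z = 1 := by
    have h8 : 2 < Nat.card (h.cm ht).ker := by omega
    obtain ⟨x1, hx1, hx11⟩ := (h.cm ht).ker.bot_or_exists_ne_one.resolve_left fun e => by
      rw [e, Subgroup.card_bot] at h8; omega
    obtain ⟨x2, hx2, hx21, hx22⟩ : ∃ x2 ∈ (h.cm ht).ker, x2 ≠ 1 ∧ x2 ≠ x1 := by
      classical
      by_contra hcon
      push Not at hcon
      let f : (h.cm ht).ker → Bool := fun z => decide ((z : R) = 1)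
      have : Function.Injective f := by
        intro z z' e
        by_cases h1 : (z : R) = 1
        · have : (z' : R) = 1 := (decide_eq_decide.1 e).1 h1
          exact Subtype.ext (h1.trans this.symm)
        · have h1' : (z' : R) ≠ 1 := fun e' => h1 ((decide_eq_decide.1 e).2 e')
          exact Subtype.ext ((hcon z z.2 h1).trans (hcon z' z'.2 h1').symm)
      have := Nat.card_le_card_of_injective f this
      simp only [Nat.card_eq_fintype_card (α := Bool), Fintype.card_bool] at this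
      omega
    have hinv : ∀ x : R, x ∈ (h.cm ht).ker → x ≠ 1 →
        ∀ hxC : (x : P) ∈ C, ∀ z ∈ O, ⟨x, hxC⟩ * z * (⟨x, hxC⟩ : C)⁻¹ = z⁻¹ := by
      intro x hx hx1 hxC z hz
      obtain ⟨c, hc'⟩ : ∃ c : C, c = ⟨x, hxC⟩ := ⟨_, rfl⟩
      rw [← hc']
      let f : O → O := fun o => ⟨(o : C)⁻¹ * (c * o * c⁻¹), mul_mem (inv_mem o.2) (hOn.conj_mem _ o.2 c)⟩
      have hf : Function.Injective f := by
        intro o o' e
        have e' : (o : C)⁻¹ * (c * o * c⁻¹) = (o' : C)⁻¹ * (c * o' * c⁻¹) := congrArg Subtype.val e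
        have h1 : c * ((o : C) * (o' : C)⁻¹) = ((o : C) * (o' : C)⁻¹) * c := by
          calc c * ((o : C) * (o' : C)⁻¹) = (o : C) * ((o : C)⁻¹ * (c * o * c⁻¹)) * (c * o' * c⁻¹)⁻¹ * c := by group
            _ = (o : C) * ((o' : C)⁻¹ * (c * o' * c⁻¹)) * (c * o' * c⁻¹)⁻¹ * c := by rw [e']
            _ = _ := by group
        have h2 := hON _ (mul_mem o.2 (inv_mem o'.2))
          (h.cent x x.2 (fun e => hx1 (Subtype.ext e)) _ (hC.1 ((o : C) * (o' : C)⁻¹).2).1 (by
            have := congrArg Subtype.val h1.symm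
            rw [hc'] at this
            simpa using this))
        exact Subtype.ext (mul_inv_eq_one.1 h2)
      obtain ⟨o, ho⟩ := (Finite.injective_iff_surjective.1 hf) ⟨z, hz⟩
      have ho' : (o : C)⁻¹ * (c * o * c⁻¹) = z := congrArg Subtype.val ho
      have hcc : c * c = 1 := Subtype.ext (by rw [hc']; exact h.sq _ x.2)
      have hci : c⁻¹ = c := inv_eq_of_mul_eq_one_right hcc
      rw [← ho', hci]
      calc c * ((o : C)⁻¹ * (c * o * c)) * c = c * (o : C)⁻¹ * c * o * (c * c) := by group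
        _ = _ := by rw [hcc, mul_one, mul_inv_rev, mul_inv_rev, mul_inv_rev, hci, inv_inv]; group
    intro z hz
    have hk : ∀ r : R, r ∈ (h.cm ht).ker → (r : P) ∈ C := fun r hr => hC.2 ⟨h.ng (h.rn r.2), (h.mem_ker ht r).1 hr⟩
    have h12 : x1 * x2 ≠ 1 := by
      intro e
      exact hx22 (by
        rw [mul_eq_one_iff_eq_inv] at e
        rw [e]; exact Subtype.ext (h.inv_eq x2.2).symm)
    have i1 := hinv x1 hx1 hx11 (hk _ hx1) z hz
    have i2 := hinv x2 hx2 hx21 (hk _ hx2) z hz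
    have i3 := hinv (x1 * x2) (mul_mem hx1 hx2) h12 (hk _ (mul_mem hx1 hx2)) z hz
    have e : (⟨((x1 * x2 : R) : P), hk _ (mul_mem hx1 hx2)⟩ : C) = ⟨x1, hk _ hx1⟩ * ⟨x2, hk _ hx2⟩ := rfl
    rw [e] at i3
    obtain ⟨c1, hc1⟩ : ∃ c : C, c = ⟨x1, hk _ hx1⟩ := ⟨_, rfl⟩
    obtain ⟨c2, hc2⟩ : ∃ c : C, c = ⟨x2, hk _ hx2⟩ := ⟨_, rfl⟩
    rw [← hc1] at i1 i3; rw [← hc2] at i2 i3
    have : c1 * c2 * z * (c1 * c2)⁻¹ = z := by
      calc c1 * c2 * z * (c1 * c2)⁻¹ = c1 * (c2 * z * c2⁻¹) * c1⁻¹ := by group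
        _ = c1 * z⁻¹ * c1⁻¹ := by rw [i2]
        _ = (c1 * z * c1⁻¹)⁻¹ := by group
        _ = z := by rw [i1, inv_inv]
    rw [this] at i3
    exact hinvol z hz (mul_eq_one_iff_eq_inv.2 i3)
  obtain ⟨hgG, hgt⟩ : g ∈ G ∧ g * t = t * g := ⟨hg, hgt⟩
  have hz := ZStar.zStar C ⟨a, haC⟩ hiso ⟨g, hC.2 ⟨hgG, hgt⟩⟩
  have := congrArg Subtype.val (hObot _ (hOdef ▸ hz))
  simp only [Subgroup.coe_mul, Subgroup.coe_inv, OneMemClass.coe_one] at this
  exact h.cent a a.2 hane g hgG (mul_inv_eq_iff_eq_mul.1 (mul_inv_eq_one.1 this)).symm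

/-- The main result. -/
theorem le (hj : ∃ j : P, ∃ hj : j ∈ N, j ∉ R ∧ j * j = 1 ∧ Nat.card (h.cm hj).ker = 32) : G ≤ N := by
  obtain ⟨j, hj, hjR, hj2, hjc⟩ := hj
  have hcj : ∀ c : R, c ∈ (h.cm hj).ker → ∀ g ∈ G, g * (j * c) = j * c * g → g ∈ N := by
    intro c hc g hg e
    have hcj := (h.mem_ker hj c).1 hc
    have hjc' : j * c ∈ N := mul_mem hj (h.rn c.2)
    refine h.cent_hyper hjc' (fun e => hjR ((R.mul_mem_cancel_right c.2).1 e)) ?_ ?_ hg e
    · calc j * c * (j * c) = j * (c * j) * c := by group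
        _ = j * j * ((c : P) * c) := by rw [hcj]; group
        _ = 1 := by rw [hj2, h.sq _ c.2, one_mul]
    · have : h.cm hjc' = h.cm hj := MonoidHom.ext fun r => Subtype.ext (by
        rw [h.cm_apply, h.cm_apply]
        calc j * c * r * (j * c)⁻¹ * r = j * ((c : P) * r) * (c : P)⁻¹ * j⁻¹ * r := by group
          _ = j * ((r : P) * c) * (c : P)⁻¹ * j⁻¹ * r := by rw [h.comm _ c.2 _ r.2]
          _ = _ := by group)
      rw [this, hjc]
  have hjN : ∀ g ∈ G, g * j * g⁻¹ ∈ N → g ∈ N := by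
    intro g hg hgj
    obtain ⟨r, hr, hr1, hrc⟩ := h.exists_commute hgj (by
      calc g * j * g⁻¹ * (g * j * g⁻¹) = g * (j * j) * g⁻¹ := by group
        _ = 1 := by rw [hj2, mul_one, mul_inv_cancel])
    have h1 : g⁻¹ * r * g ∈ N := by
      have := hcj 1 (one_mem _) (g⁻¹ * r * g) (mul_mem (mul_mem (inv_mem hg) (h.ng (h.rn hr))) hg) (by
        rw [OneMemClass.coe_one, mul_one]
        calc g⁻¹ * r * g * j = g⁻¹ * (r * (g * j * g⁻¹)) * g := by group
          _ = g⁻¹ * (g * j * g⁻¹ * r) * g := by rw [hrc]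
          _ = j * (g⁻¹ * r * g) := by group)
      exact this
    exact inv_mem_iff.1 (h.mem_of_conj_mem_N (inv_mem hg) hr hr1 (by rwa [inv_inv]))
  intro g hg
  apply hjN g hg
  obtain ⟨v, hv⟩ : ∃ v, v = g * j * g⁻¹ := ⟨_, rfl⟩
  rw [← hv]
  by_contra hvN
  have hvG : v ∈ G := hv ▸ mul_mem (mul_mem hg (h.ng hj)) (inv_mem hg)
  have hv2 : v * v = 1 := by
    calc v * v = g * (j * j) * g⁻¹ := by rw [hv]; group
      _ = 1 := by rw [hj2, mul_one, mul_inv_cancel]
  obtain ⟨x, hxR, hx1⟩ : ∃ x ∈ R, x ≠ 1 := by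
    rcases R.bot_or_exists_ne_one with e | ⟨x, hx, hx1⟩
    · have := h.card; rw [e, Subgroup.card_bot] at this; omega
    · exact ⟨x, hx, hx1⟩
  have hx2 := h.sq x hxR
  have hxG := h.ng (h.rn hxR)
  rcases Nat.even_or_odd (orderOf (x * v)) with ⟨m, hm⟩ | ho
  · have hm0 : 0 < m := by have := orderOf_pos (x * v); omega
    obtain ⟨w, hw⟩ : ∃ w, w = (x * v) ^ m := ⟨_, rfl⟩
    have hw1 : w ≠ 1 := hw ▸ pow_ne_one_of_lt_orderOf hm0.ne' (by omega)
    obtain ⟨hwx, hcase⟩ := Isolated.dihedral_even hx2 hv2 (m := m) (by omega)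
    rw [← hw] at hwx hcase
    have hwv : w * v = v * w := by
      have h2 : w * (x * v) = (x * v) * w := hw ▸ ((Commute.refl (x * v)).pow_left m).eq
      calc w * v = w * (x * x * v) := by rw [hx2, one_mul]
        _ = (w * x) * (x * v) := by group
        _ = x * (w * (x * v)) := by rw [hwx.eq]; group
        _ = x * x * v * w := by rw [h2]; group
        _ = v * w := by rw [hx2, one_mul]
    have hwxN : w * x ∈ N := h.cent x hxR hx1 _ (mul_mem (hw ▸ pow_mem (mul_mem hxG hvG) m) hxG) (by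
      rw [← mul_assoc x w x, ← hwx.eq, mul_assoc])
    have hk : ∀ k : ℕ, (x * v) ^ k ∈ G := fun k => pow_mem (mul_mem hxG hvG) k
    rcases hcase with ⟨k, hk'⟩ | ⟨k, hk'⟩
    · have hR := h.mem_of_mem_N (hk k) hxR (hk' ▸ hwxN)
      rw [hk'] at hR
      have hwR : w ∈ R := (R.mul_mem_cancel_right hxR).1 hR
      exact hvN (h.cent w hwR hw1 v hvG hwv.symm)
    · have e : ((x * v) ^ k * g) * j * ((x * v) ^ k * g)⁻¹ = w * x := by
        rw [← hk', hv]; group
      obtain ⟨n, hn⟩ : ∃ n, n = (x * v) ^ k * g := ⟨_, rfl⟩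
      rw [← hn] at e
      have hnN : n ∈ N := hjN n (hn ▸ mul_mem (hk k) hg) (e ▸ hwxN)
      obtain ⟨c, hc⟩ : ∃ c, c = n⁻¹ * x * n := ⟨_, rfl⟩
      have hcR : c ∈ R := by
        have := h.norm n⁻¹ (inv_mem hnN) x hxR
        rwa [inv_inv, ← hc] at this
      have hcom : c * j = j * c := by
        calc c * j = n⁻¹ * (x * (n * j * n⁻¹)) * n := by rw [hc]; group
          _ = n⁻¹ * ((w * x) * x) * n := by rw [e, ← mul_assoc x w x, ← hwx.eq]
          _ = n⁻¹ * ((n * j * n⁻¹) * x) * n := by rw [e]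
          _ = j * c := by rw [hc]; group
      have hwe : w = n * (j * c) * n⁻¹ := by
        calc w = w * (x * x) := by rw [hx2, mul_one]
          _ = (n * j * n⁻¹) * x := by rw [e, mul_assoc]
          _ = n * (j * c) * n⁻¹ := by rw [hc]; group
      have := hcj ⟨c, hcR⟩ ((h.mem_ker hj ⟨c, hcR⟩).2 hcom) (n⁻¹ * v * n)
        (mul_mem (mul_mem (inv_mem (h.ng hnN)) hvG) (h.ng hnN)) (by
          show n⁻¹ * v * n * (j * c) = j * c * (n⁻¹ * v * n)
          calc n⁻¹ * v * n * (j * c) = n⁻¹ * (v * (n * (j * c) * n⁻¹)) * n := by group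
            _ = n⁻¹ * (n * (j * c) * n⁻¹ * v) * n := by rw [← hwe, hwv]
            _ = _ := by group)
      apply hvN
      have e' : v = n * (n⁻¹ * v * n) * n⁻¹ := by group
      rw [e']; exact mul_mem (mul_mem hnN this) (inv_mem hnN)
  · obtain ⟨k, hk⟩ := Isolated.dihedral_conj_of_odd hx2 hv2 ho
    obtain ⟨n, hn⟩ : ∃ n, n = g⁻¹ * (x * v) ^ k := ⟨_, rfl⟩
    have e : n * x * n⁻¹ = j := by
      calc n * x * n⁻¹ = g⁻¹ * ((x * v) ^ k * x * ((x * v) ^ k)⁻¹) * g := by rw [hn]; group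
        _ = j := by rw [hk, hv]; group
    exact hjR (e ▸ h.mem_of_mem_N (hn ▸ mul_mem (inv_mem hg) (pow_mem (mul_mem hxG hvG) k)) hxR (e ▸ hj))

end Fused

end Cfsg.Agent.Lib.ExtraEight
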