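import Cfsg.Agent.Lib.ExtraEight.Main
import Cfsg.Agent.Lib.SLExtraFour.Transport
import Cfsg.Agent.Lib.MaxClass.Degree
import Cfsg.Agent.Lib.Aschbacher.SymplType

/-!
Groups of symplectic type as groups of Pauli type, changes of coordinates and determinants.
-/

set_option autoImplicit false
set_option linter.unusedSectionVars false

namespace Cfsg.Agent.Lib.ExtraEight

open Matrix Cfsg Cfsg.Geo

variable {F : Type*} [Field F] {ι κ : Type} [Fintype ι] [DecidableEq ι] [Fintype κ] [DecidableEq κ]

/-- The matrix of an element of a group. -/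
def matOf (R : Subgroup (GL ι F)) : R →* Matrix ι ι F := (Units.coeHom (Matrix ι ι F)).comp R.subtype

theorem matOf_injective (R : Subgroup (GL ι F)) : Function.Injective (matOf R) :=
  fun _ _ h => Subtype.ext (Units.ext h)

/-- A group of symplectic type with a centre of order 4 is of Pauli type. -/
theorem pre_of_data [Finite F] [Nonempty ι] {R : Subgroup (GL ι F)} (hS : IsSymplecticTypeGroup 2 R)
    (hirr : ActsAbsolutelyIrreducibly (matrixSet R)) (hZ : Nat.card (Subgroup.center R) = 4) (h2 : (2 : F) ≠ 0) :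
    ∃ i : F, i * i = -1 ∧ Pre R := by
  classical
  haveI := Fact.mk (by norm_num : Nat.Prime 2)
  obtain ⟨j⟩ := ‹Nonempty ι›
  have one_ne : (1 : Matrix ι ι F) ≠ -1 := fun e => h2 (by
    have := congrFun (congrFun e j) j
    simp at this
    linear_combination this)
  have hexp : Monoid.exponent R = 4 := by rw [hS.exponent_eq]; norm_num
  have h4 : ∀ x : R, x ^ 4 = 1 := fun x =>
    (congrArg (fun n => x ^ n) hexp).symm.trans (Monoid.pow_exponent_eq_one x)
  have hclass := MaxClass.commutator_le_center_of_exponent hS.pGroup hS.cyclic_of_characteristic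
    (by rw [hexp, hZ])
  have hsc : ∀ x : R, x ∈ Subgroup.center R → ∃ k : F, k ^ 4 = 1 ∧ matOf R x = k • 1 := by
    intro x hx
    obtain ⟨k, hk⟩ := hirr.2 (matOf R x) (by
      rintro _ ⟨g, hg, rfl⟩
      exact congrArg (matOf R) ((Subgroup.mem_center_iff.1 hx ⟨g, hg⟩).symm))
    refine ⟨k, ?_, hk⟩
    have h := congrArg (matOf R) (h4 x)
    rw [map_pow, hk, map_one, _root_.smul_pow, one_pow] at h
    simpa using congrFun (congrFun h j) j
  obtain ⟨i, hi4, hi⟩ : ∃ i : F, i ^ 4 = 1 ∧ i * i = -1 := by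
    by_contra hno
    push Not at hno
    have hle : Nat.card (Subgroup.center R) ≤ 2 := by
      let f : Subgroup.center R → Bool := fun x => decide (matOf R x.1 = 1)
      refine (Nat.card_le_card_of_injective f ?_).trans (by simp)
      intro x y hxy
      have hval : ∀ z : Subgroup.center R, matOf R z.1 = 1 ∨ matOf R z.1 = -1 := by
        intro z
        obtain ⟨k, hk, hzk⟩ := hsc z.1 z.2
        have hk2 : (k * k - 1) * (k * k + 1) = 0 := by linear_combination hk
        rcases mul_eq_zero.1 hk2 with h | h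
        · rcases mul_self_eq_one_iff.1 (sub_eq_zero.1 h) with rfl | rfl
          · left; rw [hzk, one_smul]
          · right; rw [hzk, neg_smul, one_smul]
        · exact absurd (eq_neg_of_add_eq_zero_left h) (hno k hk)
      refine Subtype.ext (matOf_injective R ?_)
      rcases hval x with hx | hx <;> rcases hval y with hy | hy
      · rw [hx, hy]
      · exfalso
        simp only [f, hx, hy, decide_true, decide_eq_decide] at hxy
        exact one_ne (by simpa [eq_comm] using hxy)
      · exfalso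
        simp only [f, hx, hy, decide_true, decide_eq_decide] at hxy
        exact one_ne (by simpa [eq_comm] using hxy)
      · rw [hx, hy]
    omega
  have hscal : ∀ k : F, k ^ 4 = 1 → ∃ x : R, x ∈ Subgroup.center R ∧ matOf R x = k • 1 := by
    intro k hk
    by_contra hno
    push Not at hno
    let T : Finset F := ({1, -1, i, -i} : Finset F).erase k
    have hmem : ∀ l : F, l ^ 4 = 1 → l ∈ ({1, -1, i, -i} : Finset F) := by
      intro l hl
      have : (l - 1) * (l + 1) * ((l - i) * (l + i)) = 0 := by linear_combination hl - (l * l - 1) * hi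
      simp only [Finset.mem_insert, Finset.mem_singleton]
      rcases mul_eq_zero.1 this with h | h <;> rcases mul_eq_zero.1 h with h | h
      · left; exact sub_eq_zero.1 h
      · right; left; exact eq_neg_of_add_eq_zero_left h
      · right; right; left; exact sub_eq_zero.1 h
      · right; right; right; exact eq_neg_of_add_eq_zero_left h
    have hT : T.card ≤ 3 := by
      rw [Finset.card_erase_of_mem (hmem k hk)]
      have : ({1, -1, i, -i} : Finset F).card ≤ 4 := Finset.card_le_four
      omega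
    choose f hf4 hf using fun x : Subgroup.center R => hsc x.1 x.2
    have hfT : ∀ x, f x ∈ T := fun x => Finset.mem_erase.2
      ⟨fun h => hno x.1 x.2 (by rw [hf x, h]), hmem _ (hf4 x)⟩
    have := Nat.card_le_card_of_injective (fun x => (⟨f x, hfT x⟩ : T)) (fun x y h => by
      have hxy : f x = f y := congrArg Subtype.val h
      exact Subtype.ext (matOf_injective R (by rw [hf x, hf y, hxy])))
    rw [hZ, Nat.card_eq_fintype_card, Fintype.card_coe] at this
    omega
  have hcom : ∀ x y : R, matOf R x * matOf R y = matOf R y * matOf R x ∨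
      matOf R x * matOf R y = -(matOf R y * matOf R x) := by
    intro x y
    obtain ⟨z, hzdef⟩ : ∃ z : R, z = y * x * y⁻¹ * x⁻¹ := ⟨_, rfl⟩
    have hz : z ∈ Subgroup.center R := hzdef ▸
      hclass (Subgroup.commutator_mem_commutator (Subgroup.mem_top y) (Subgroup.mem_top x))
    have hzc : ∀ w, z * w = w * z := fun w => (Subgroup.mem_center_iff.1 hz w).symm
    have hyx : y * x = z * (x * y) := by rw [hzdef]; group
    have h6 := Cfsg.Agent.Lib.Aschbacher.mul_pow_of_commutator_central hyx hzc 4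
    rw [h4, h4, h4, one_mul, mul_one, show (4 : ℕ).choose 2 = 4 + 2 by rfl, pow_add, h4, one_mul] at h6
    obtain ⟨k, hk4, hk⟩ := hsc z hz
    have hk2 : k * k = 1 := by
      have h := congrArg (matOf R) h6.symm
      rw [map_pow, hk, map_one, _root_.smul_pow, one_pow] at h
      simpa [pow_two] using congrFun (congrFun h j) j
    have h := congrArg (matOf R) hyx
    rw [map_mul (matOf R) y x, map_mul (matOf R) z, map_mul (matOf R) x y, hk, Matrix.smul_mul, one_mul] at h
    rcases mul_self_eq_one_iff.1 hk2 with rfl | rfl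
    · left; rw [h, one_smul]
    · right; rw [h, neg_smul, one_smul, neg_neg]
  refine ⟨i, hi, ⟨fun x hx => ?_, fun x hx y hy => ?_, fun c hc => ?_, fun A hA => ?_⟩⟩
  · have hx2 : (⟨x, hx⟩ : R) * ⟨x, hx⟩ ∈ Subgroup.center R := by
      rw [Subgroup.mem_center_iff]
      intro y
      apply matOf_injective R
      simp only [map_mul]
      rcases hcom y ⟨x, hx⟩ with h | h
      · rw [← mul_assoc, h, mul_assoc, h, ← mul_assoc]
      · rw [← mul_assoc, h, neg_mul, mul_assoc, h, mul_neg, neg_neg, ← mul_assoc]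
    obtain ⟨k, -, hk⟩ := hsc _ hx2
    have h := congrArg (matOf R) (h4 ⟨x, hx⟩)
    rw [show (⟨x, hx⟩ : R) ^ 4 = (⟨x, hx⟩ * ⟨x, hx⟩) * (⟨x, hx⟩ * ⟨x, hx⟩) by simp [pow_succ, mul_assoc],
      map_mul, hk, map_one, Matrix.smul_mul, one_mul, smul_smul] at h
    have hk2 : k * k = 1 := by simpa using congrFun (congrFun h j) j
    rw [map_mul] at hk
    rcases mul_self_eq_one_iff.1 hk2 with rfl | rfl
    · left; exact Units.ext (by rw [one_smul] at hk; exact hk)
    · right; exact Units.ext (by rw [neg_smul, one_smul] at hk; rw [Units.val_neg, Units.val_one]; exact hk)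
  · rcases hcom ⟨x, hx⟩ ⟨y, hy⟩ with e | e
    · exact Or.inl (Units.ext e)
    · exact Or.inr (Units.ext (by rw [Units.val_neg]; exact e))
  · obtain ⟨x, -, hx⟩ := hscal (c : F) (by rw [← Units.val_pow_eq_pow_val, hc, Units.val_one])
    rw [show sc c = (x : GL ι F) from Units.ext (by rw [sc_val]; exact hx.symm)]
    exact x.2
  · exact hirr.2 A (by rintro _ ⟨g, hg, rfl⟩; exact hA g hg)

theorem reindex_val (e : ι ≃ κ) (g : GL ι F) : (glReindex e g).val = g.val.submatrix e.symm e.symm := rfl

theorem reindex_sc (e : ι ≃ κ) (c : Fˣ) : glReindex (F := F) e (sc c) = sc c :=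
  Units.ext (by rw [reindex_val, sc_val, sc_val, Matrix.submatrix_smul, Pi.smul_apply, Pi.smul_apply,
    Matrix.submatrix_one_equiv])

theorem reindex_neg (e : ι ≃ κ) (g : GL ι F) : glReindex e (-g) = -glReindex e g := by
  rw [← neg_one_mul, map_mul, ← sc_neg_one, reindex_sc, sc_neg_one, neg_one_mul]

theorem det_reindex (e : ι ≃ κ) (g : GL ι F) : (glReindex e g).val.det = g.val.det := by
  rw [reindex_val, Matrix.det_submatrix_equiv_self]

theorem Pre.map_reindex {R : Subgroup (GL ι F)} (h : Pre R) (e : ι ≃ κ) :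
    Pre (R.map (glReindex e).toMonoidHom) := by
  refine ⟨?_, ?_, fun c hc => ⟨sc c, h.mu c hc, reindex_sc e c⟩, fun M hM => ?_⟩
  · rintro _ ⟨x, hx, rfl⟩
    simp only [MulEquiv.coe_toMonoidHom, ← map_mul]
    rcases h.sq x hx with e' | e' <;> rw [e']
    · exact Or.inl (map_one _)
    · exact Or.inr (by rw [reindex_neg, map_one])
  · rintro _ ⟨x, hx, rfl⟩ _ ⟨y, hy, rfl⟩
    simp only [MulEquiv.coe_toMonoidHom, ← map_mul]
    rcases h.comm x hx y hy with e' | e' <;> rw [e']
    · exact Or.inl rfl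
    · exact Or.inr (by rw [reindex_neg])
  · obtain ⟨c, hc⟩ := h.cent (M.submatrix e e) fun x hx => by
      have := congrArg (fun N : Matrix κ κ F => N.submatrix e e) (hM _ ⟨x, hx, rfl⟩)
      simp only [MulEquiv.coe_toMonoidHom, reindex_val, Matrix.submatrix_mul _ _ e e e e.bijective,
        Matrix.submatrix_submatrix] at this
      simpa using this
    refine ⟨c, ?_⟩
    have := congrArg (fun N : Matrix ι ι F => N.submatrix e.symm e.symm) hc
    simpa [Matrix.submatrix_smul] using this

theorem reindex_symm_apply (e : ι ≃ κ) (g : GL κ F) : glReindex e (glReindex e.symm g) = g :=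
  Units.ext (by rw [reindex_val, reindex_val, Matrix.submatrix_submatrix]; simp)

theorem mem_map_reindex (e : ι ≃ κ) {S : Subgroup (GL ι F)} {g : GL κ F} :
    g ∈ S.map (glReindex e).toMonoidHom ↔ glReindex e.symm g ∈ S := by
  constructor
  · rintro ⟨x, hx, rfl⟩
    rwa [MulEquiv.coe_toMonoidHom, show glReindex e.symm (glReindex e x) = x from
      reindex_symm_apply e.symm x]
  · exact fun h => ⟨_, h, reindex_symm_apply e g⟩

theorem map_reindex_sl (e : ι ≃ κ) :
    (specialLinear ι F).map (glReindex e).toMonoidHom = specialLinear κ F := by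
  ext g
  rw [mem_map_reindex]
  show Matrix.GeneralLinearGroup.det _ = 1 ↔ Matrix.GeneralLinearGroup.det g = 1
  rw [← Units.val_eq_one, ← Units.val_eq_one]
  show (glReindex e.symm g).val.det = 1 ↔ g.val.det = 1
  rw [det_reindex]

/-- Maximality of a normaliser is preserved by isomorphisms. -/
theorem isMaximalIn_map {G H : Type*} [Group G] [Group H] (φ : G ≃* H) {S : Subgroup G} {R : Subgroup G}
    (h : IsMaximalIn S (Subgroup.normalizer (R : Set G) ⊓ S)) :
    IsMaximalIn (S.map φ.toMonoidHom)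
      (Subgroup.normalizer ((R.map φ.toMonoidHom : Subgroup H) : Set H) ⊓ S.map φ.toMonoidHom) := by
  obtain ⟨e, he⟩ : ∃ e, e = φ.toMonoidHom := ⟨_, rfl⟩
  have hinj : Function.Injective e := he ▸ φ.injective
  have hH : (Subgroup.normalizer (R : Set G) ⊓ S).map e =
      Subgroup.normalizer ((R.map e : Subgroup H) : Set H) ⊓ S.map e := by
    rw [Subgroup.map_inf _ _ e hinj]
    congr 1
    exact Subgroup.map_normalizer_eq_of_bijective _ (he ▸ φ.bijective)
  rw [← he, ← hH]
  refine ⟨(Subgroup.map_lt_map_iff_of_injective hinj).2 h.1, fun M hM1 hM2 => ?_⟩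
  have h1 := Subgroup.map_le_iff_le_comap.1 hM1
  have h2' : M.comap e ≤ S := fun x hx => (Subgroup.mem_map_iff_mem hinj).1 (hM2 hx)
  have hM : (M.comap e).map e = M := Subgroup.map_comap_eq_self_of_surjective (he ▸ φ.surjective) M
  rcases h.2 _ h1 h2' with hh | hh <;> rw [hh] at hM
  · exact Or.inl hM.symm
  · exact Or.inr hM.symm

/-- Indices of two qubits as numbers. -/
def e4 : I4 ≃ Fin 4 := (finSumFinEquiv.sumCongr finSumFinEquiv).trans finSumFinEquiv

/-- Indices of three qubits as numbers. -/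
def e8 : I8 ≃ Fin 8 := (e4.sumCongr e4).trans finSumFinEquiv

theorem map_R4 (h2 : (2 : F) ≠ 0) {i : F} (hi : i * i = -1) :
    (R4 F).map (glReindex e4).toMonoidHom = SLExtraFour.Rstd hi h2 := by
  have hz1 : glReindex e4 (bd (1 : GL I2 F) (-1)) = SLExtraFour.invU (SLExtraFour.z1 F) SLExtraFour.z1_sq :=
    Units.ext (by
      rw [reindex_val, SLExtraFour.invU_val]
      ext a b; fin_cases a <;> fin_cases b <;>
        simp [SLExtraFour.z1, e4, bd_val, finSumFinEquiv, Fin.addCases, Matrix.one_apply])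
  have hx1 : glReindex e4 (sw : GL I4 F) = SLExtraFour.invU (SLExtraFour.x1 F) SLExtraFour.x1_sq :=
    Units.ext (by
      rw [reindex_val, SLExtraFour.invU_val]
      ext a b; fin_cases a <;> fin_cases b <;>
        simp [SLExtraFour.x1, e4, sw_val, finSumFinEquiv, Fin.addCases, Matrix.one_apply])
  have hz2 : glReindex e4 (dg (bd (1 : GL (Fin 1) F) (-1))) =
      SLExtraFour.invU (SLExtraFour.z2 F) SLExtraFour.z2_sq :=
    Units.ext (by
      rw [reindex_val, SLExtraFour.invU_val]
      ext a b; fin_cases a <;> fin_cases b <;>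
        simp [SLExtraFour.z2, e4, dg_apply, bd_val, finSumFinEquiv, Fin.addCases, Matrix.one_apply])
  have hx2 : glReindex e4 (dg (sw : GL I2 F)) = SLExtraFour.invU (SLExtraFour.x2 F) SLExtraFour.x2_sq :=
    Units.ext (by
      rw [reindex_val, SLExtraFour.invU_val]
      ext a b; fin_cases a <;> fin_cases b <;>
        simp [SLExtraFour.x2, e4, dg_apply, sw_val, bd_val, finSumFinEquiv, Fin.addCases, Matrix.one_apply])
  have hiu : i ≠ 0 := fun h0 => by rw [h0] at hi; simp at hi
  have hiS : glReindex e4 (sc (Units.mk0 i hiu)) = SLExtraFour.iS hi :=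
    Units.ext (by rw [reindex_sc, sc_val, SLExtraFour.iS_val, Units.val_mk0])
  rw [SLExtraFour.std_eq hi h2]
  obtain ⟨T, hT⟩ : ∃ T, T = Subgroup.closure ({SLExtraFour.iS hi, SLExtraFour.invU (SLExtraFour.z1 F) SLExtraFour.z1_sq,
      SLExtraFour.invU (SLExtraFour.x1 F) SLExtraFour.x1_sq, SLExtraFour.invU (SLExtraFour.z2 F) SLExtraFour.z2_sq,
      SLExtraFour.invU (SLExtraFour.x2 F) SLExtraFour.x2_sq} : Set (GL (Fin 4) F)) := ⟨_, rfl⟩
  rw [← hT]
  apply le_antisymm
  · rw [Subgroup.map_le_iff_le_comap]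
    have m : ∀ x, x ∈ ({SLExtraFour.iS hi, SLExtraFour.invU (SLExtraFour.z1 F) SLExtraFour.z1_sq,
      SLExtraFour.invU (SLExtraFour.x1 F) SLExtraFour.x1_sq, SLExtraFour.invU (SLExtraFour.z2 F) SLExtraFour.z2_sq,
      SLExtraFour.invU (SLExtraFour.x2 F) SLExtraFour.x2_sq} : Set (GL (Fin 4) F)) → x ∈ T :=
      fun x hx => hT ▸ Subgroup.subset_closure hx
    refine ext_le ?_ ?_ fun a ha => ?_
    · show glReindex e4 sw ∈ T; rw [hx1]; exact m _ (by simp)
    · show glReindex e4 (bd (1 : GL I2 F) (-1)) ∈ T; rw [hz1]; exact m _ (by simp)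
    · refine (ext_le (S := (T.comap (glReindex e4).toMonoidHom).comap dg) ?_ ?_ fun b hb => ?_) ha
      · show glReindex e4 (dg sw) ∈ T; rw [hx2]; exact m _ (by simp)
      · show glReindex e4 (dg (bd (1 : GL (Fin 1) F) (-1))) ∈ T; rw [hz2]; exact m _ (by simp)
      · obtain ⟨c, hc, rfl⟩ := mem_mu.1 hb
        show glReindex e4 (dg (dg (sc c))) ∈ T
        rw [dg_apply (sc c), bd_sc, dg_apply, bd_sc, reindex_sc]
        have mi : (sc (Units.mk0 i hiu) : GL (Fin 4) F) ∈ T := by
          rw [← reindex_sc e4, hiS]; exact m _ (by simp)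
        have hcF : (c : F) ^ 4 = 1 := by rw [← Units.val_pow_eq_pow_val, hc, Units.val_one]
        have : ((c : F) - 1) * ((c : F) + 1) * (((c : F) - i) * ((c : F) + i)) = 0 := by
          linear_combination hcF - ((c : F) * c - 1) * hi
        have hm1 : (-1 : GL (Fin 4) F) = sc (Units.mk0 i hiu) * sc (Units.mk0 i hiu) := by
          rw [← map_mul, show Units.mk0 i hiu * Units.mk0 i hiu = -1 from Units.ext (by simpa using hi), sc_neg_one]
        rcases mul_eq_zero.1 this with h | h <;> rcases mul_eq_zero.1 h with h | h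
        · rw [show c = 1 from Units.ext (sub_eq_zero.1 h), map_one]; exact one_mem _
        · rw [show c = -1 from Units.ext (by simpa using eq_neg_of_add_eq_zero_left h), sc_neg_one, hm1]
          exact mul_mem mi mi
        · rw [show c = Units.mk0 i hiu from Units.ext (sub_eq_zero.1 h)]; exact mi
        · rw [show c = -1 * Units.mk0 i hiu from Units.ext (by simpa using eq_neg_of_add_eq_zero_left h), map_mul,
            sc_neg_one, hm1]
          exact mul_mem (mul_mem mi mi) mi
  · rw [hT, Subgroup.closure_le]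
    rintro x (rfl | rfl | rfl | rfl | rfl)
    · refine ⟨_, (pauli_R4 h2).toPre.mu (Units.mk0 i hiu) (Units.ext ?_), hiS⟩
      show i ^ 4 = 1
      linear_combination (i * i - 1) * hi
    · exact ⟨_, bd_one_neg_mem_ext (pauli_R2 h2).toPre, hz1⟩
    · exact ⟨_, sw_mem_ext _, hx1⟩
    · exact ⟨_, dg_mem_ext (bd_one_neg_mem_ext pauli_mu.toPre), hz2⟩
    · exact ⟨_, dg_mem_ext (sw_mem_ext _), hx2⟩

/-! ### Determinants -/

theorem mem_sl_iff {g : GL ι F} : g ∈ specialLinear ι F ↔ g.val.det = 1 := by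
  show Matrix.GeneralLinearGroup.det g = 1 ↔ _
  rw [← Units.val_eq_one]; rfl

theorem det_sw : ((sw : GL (ι ⊕ ι) F).val).det = (-1) ^ Fintype.card ι := by
  have e : (sw : GL (ι ⊕ ι) F).val = fromBlocks 1 1 0 1 * fromBlocks 1 0 (-1) 1 * fromBlocks 1 1 0 1 *
      fromBlocks (-1 : Matrix ι ι F) 0 0 1 := by
    simp [sw_val, fromBlocks_multiply]
  rw [e, det_mul, det_mul, det_mul, det_fromBlocks_zero₂₁, det_fromBlocks_zero₁₂, det_fromBlocks_zero₂₁,
    det_neg, det_one]
  simp

theorem det_sc (c : Fˣ) : ((sc c : GL ι F).val).det = (c : F) ^ Fintype.card ι := by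
  rw [sc_val, det_smul, det_one, mul_one]

theorem det_R4 (h2 : (2 : F) ≠ 0) : R4 F ≤ specialLinear I4 F := by
  have key : ∀ g : GL I4 F, g.val.det = 1 → g ∈ specialLinear I4 F := fun g h => by
    exact mem_sl_iff.2 h
  refine ext_le (key _ ?_) (key _ ?_) fun a ha => key _ ?_
  · rw [det_sw]; norm_num
  · rw [det_bd, Units.val_one, det_one, one_mul, Units.val_neg, Units.val_one, det_neg, det_one]
    norm_num
  · rw [dg_apply, det_bd]
    have h2' : a ∈ R2 F := ha
    obtain ⟨b, hb, b', -, hbb, hab⟩ := h2'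
    obtain ⟨c, hc, rfl⟩ := mem_mu.1 hb
    have hc' : (c : F) ^ 4 = 1 := by rw [← Units.val_pow_eq_pow_val, hc, Units.val_one]
    have hb' : ((bd (sc c) b' : GL I2 F)).val.det = (c : F) * c ∨ ((bd (sc c) b' : GL I2 F)).val.det = -((c : F) * c) := by
      rcases hbb with rfl | rfl <;> rw [det_bd, det_sc]
      · left; simp [sc_val]
      · right; simp [sc_val, Units.val_neg]
    rcases hab with rfl | rfl
    · rcases hb' with e | e <;> rw [e] <;> linear_combination hc'
    · rw [Units.val_mul, det_mul, det_sw]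
      rcases hb' with e | e <;> rw [e] <;> simp <;> linear_combination hc'

theorem det_R8 (h2 : (2 : F) ≠ 0) : R8 F ≤ specialLinear I8 F := by
  have key : ∀ g : GL I8 F, g.val.det = 1 → g ∈ specialLinear I8 F := fun g h => by
    exact mem_sl_iff.2 h
  refine ext_le (key _ ?_) (key _ ?_) fun a ha => key _ ?_
  · rw [det_sw]; norm_num
  · rw [det_bd, Units.val_one, det_one, one_mul, Units.val_neg, Units.val_one, det_neg, det_one]
    norm_num
  · have h : a.val.det = 1 := mem_sl_iff.1 (det_R4 h2 ha)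
    rw [dg_apply, det_bd, h, one_mul]

theorem det_cz_rt (h2 : (2 : F) ≠ 0) {i : Fˣ} (hi : i * i = -1) {u : GL I8 F} (hu : u * u = -1)
    (huR : u ∈ R8 F) : (sc (cz hi h2) * rt h2 u hu).val.det = 1 := by
  have h8 := (pauli_R8 (F := F) h2).toPre
  have hi' : (i : F) * i = -1 := by rw [← Units.val_mul, hi]; rfl
  obtain ⟨r, hr⟩ : ∃ r, r = (rt h2 u hu).val.det := ⟨_, rfl⟩
  rw [Units.val_mul, det_mul, det_sc, ← hr, cz, Units.val_inv_eq_inv_val, Units.val_mk0]
  have h1i := one_add_ne hi h2
  suffices r = (1 + (i : F)) ^ 8 by rw [this, inv_pow, Fintype.card_sum]; simp [h1i]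
  rcases h8.scalar_or_anti huR with ⟨c, rfl⟩ | huA
  · have hc : c * c = -1 := sc_inj (by rw [map_mul, hu, sc_neg_one])
    have hc' : ((c : F) - i) * ((c : F) + i) = 0 := by
      have : (c : F) * c = -1 := by rw [← Units.val_mul, hc]; rfl
      linear_combination this - hi'
    have e : (rt h2 (sc c) hu).val = (1 + (c : F)) • (1 : Matrix I8 I8 F) := by
      rw [rt_val, sc_val, add_smul, one_smul]
    rw [hr, e, det_smul, det_one, mul_one]
    rcases mul_eq_zero.1 hc' with e | e
    · rw [sub_eq_zero.1 e]; rfl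
    · rw [eq_neg_of_add_eq_zero_left e, Fintype.card_sum]
      simp only [Fintype.card_sum, Fintype.card_fin]
      linear_combination (-16 * (i : F) * ((i : F) ^ 4 + 6 * (i : F) ^ 2 + 1)) * hi'
  · obtain ⟨p, hp⟩ : ∃ p : GL I4 F, p = sc i := ⟨_, rfl⟩
    have hpp : p * p = -1 := hp ▸ sc_sq_neg hi
    have hnp : -p * -p = -1 := by rw [neg_mul_neg, hpp]
    have h4 := (pauli_R4 (F := F) h2).toPre
    have hu0 : bd p (-p) ∈ R8 F := mem_ext_of h4 (hp ▸ h4.i_mem hi) (Or.inr rfl)
    have hu0A : ∃ y ∈ R8 F, y * bd p (-p) = -(bd p (-p) * y) :=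
      ⟨sw, sw_mem_ext _, by rw [bd_sw, ← mul_neg, ← bd_neg, neg_neg]⟩
    obtain ⟨n, -, hn⟩ := h8.move (N := (⊤ : Subgroup (GL I8 F)))
      (fun x _ y _ hxx hyy hyx => ⟨tt h2 x y hxx hyy, Subgroup.mem_top _, tt_conj h2 hxx hyy hyx⟩) hi huR hu0 hu
      (bd_sq hpp hnp) huA hu0A
    have : (rt h2 u hu).val.det = (rt h2 (bd p (-p)) (bd_sq hpp hnp)).val.det := by
      rw [rt_congr h2 (bd_sq hpp hnp) (conj_sq hu) hn.symm, ← rt_conj h2 n hu, Units.val_mul, Units.val_mul,
        det_mul_comm, ← mul_assoc, ← Units.val_mul, inv_mul_cancel, Units.val_one, one_mul]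
    rw [hr, this, rt_bd h2 hpp hnp, det_bd, rt_val, rt_val, hp, Units.val_neg, sc_val,
      ← one_smul F (1 : Matrix I4 I4 F), smul_smul, mul_one, ← add_smul, ← sub_eq_add_neg, ← sub_smul, det_smul,
      det_smul, det_one, mul_one, mul_one]
    simp only [Fintype.card_sum, Fintype.card_fin]
    linear_combination (-8 * (i : F) * (1 + (i : F)) ^ 4) * hi'

end Cfsg.Agent.Lib.ExtraEight
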