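import Cfsg.Agent.Lib.ExtraEight.Base
import Cfsg.Agent.Lib.SLExtraFour.Maximal

/-!
The standard decomposition of `F ^ 8` and the transport of the facts about `F ^ 4`.
-/

set_option autoImplicit false
set_option linter.unusedSectionVars false

namespace Cfsg.Agent.Lib.ExtraEight

open Matrix Cfsg Cfsg.Geo

variable {F : Type*} [Field F]

/-- The half of an index. -/
def half (k : Fin 8) : Fin 2 := Sum.elim (fun _ => 0) (fun _ => 1) (e8.symm k)

variable (F) in
/-- The two standard subspaces of dimension 4. -/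
def dec (j : Fin 2) : Submodule F (Fin 8 → F) where
  carrier := {v | ∀ k, half k ≠ j → v k = 0}
  add_mem' := fun {u v} hu hv k hk => by rw [Pi.add_apply, hu k hk, hv k hk, add_zero]
  zero_mem' := fun _ _ => rfl
  smul_mem' := fun c {v} hv k hk => by rw [Pi.smul_apply, hv k hk, smul_zero]

theorem mem_dec {j : Fin 2} {v : Fin 8 → F} : v ∈ dec F j ↔ ∀ k, half k ≠ j → v k = 0 := Iff.rfl

theorem card_half (j : Fin 2) : Fintype.card {k : Fin 8 // half k = j} = 4 := by
  fin_cases j <;> rfl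

theorem finrank_dec (j : Fin 2) : Module.finrank F (dec F j) = 4 := by
  classical
  let L : dec F j ≃ₗ[F] ({k : Fin 8 // half k = j} → F) :=
    { toFun := fun v k => (v : Fin 8 → F) k.1
      map_add' := fun _ _ => rfl
      map_smul' := fun _ _ => rfl
      invFun := fun w => ⟨fun k => if h : half k = j then w ⟨k, h⟩ else 0, fun k hk => dif_neg hk⟩
      left_inv := fun v => Subtype.ext (funext fun k => by
        by_cases h : half k = j
        · simp [h]
        · simp [h, v.2 k h])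
      right_inv := fun w => funext fun k => by simp [k.2] }
  rw [L.finrank_eq, Module.finrank_pi, card_half]

theorem isMDecomposition_dec : IsMDecomposition 4 (dec F) := by
  refine ⟨le_rfl, by norm_num, finrank_dec, ?_, ?_⟩
  · rw [iSupIndep_pair (i := 0) (j := 1) (by decide) (fun j => by fin_cases j <;> simp)]
    rw [Submodule.disjoint_def]
    intro v h0 h1
    funext k
    by_cases h : half k = 0
    · exact h1 k (by rw [h]; decide)
    · exact h0 k h
  · rw [eq_top_iff]
    intro v _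
    have e : v = (fun k => if half k = 0 then v k else 0) + fun k => if half k = 0 then 0 else v k := by
      funext k; by_cases h : half k = 0 <;> simp [h]
    rw [e]
    refine add_mem (Submodule.mem_iSup_of_mem 0 fun k hk => if_neg hk) (Submodule.mem_iSup_of_mem 1 fun k hk => ?_)
    have : half k = 0 := by
      revert hk
      generalize half k = m
      fin_cases m <;> simp
    exact if_pos this

/-- Elements stabilising the decomposition are monomial in the blocks. -/
theorem block_of_stab {g : GL I8 F} (hg : glReindex e8 g ∈ decompositionStabilizer (dec F)) :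
    ∃ a b : GL I4 F, g = bd a b ∨ g = sw * bd a b := by
  obtain ⟨σ, hσ⟩ := hg
  have hz : ∀ x y : I8, half (e8 x) ≠ σ (half (e8 y)) → g.val x y = 0 := by
    intro x y hxy
    have hmem : (glReindex e8 g).val *ᵥ Pi.single (e8 y) 1 ∈ dec F (σ (half (e8 y))) := by
      rw [← hσ]
      refine ⟨_, ?_, Matrix.toLin'_apply _ _⟩
      intro k hk
      exact Pi.single_eq_of_ne (fun e => hk (by rw [e])) _
    have := hmem (e8 x) hxy
    simpa [reindex_val] using this
  have hl : ∀ x : I4, half (e8 (Sum.inl x)) = 0 := fun x => by simp [half]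
  have hr : ∀ x : I4, half (e8 (Sum.inr x)) = 1 := fun x => by simp [half]
  have hu := g.isUnit
  rw [Matrix.isUnit_iff_isUnit_det, ← g.val.fromBlocks_toBlocks] at hu
  rcases (by decide : ∀ τ : Equiv.Perm (Fin 2), τ 0 = 0 ∧ τ 1 = 1 ∨ τ 0 = 1 ∧ τ 1 = 0) σ with ⟨s0, s1⟩ | ⟨s0, s1⟩
  · have h12 : g.val.toBlocks₁₂ = 0 := by ext x y; exact hz _ _ (by rw [hl, hr, s1]; decide)
    have h21 : g.val.toBlocks₂₁ = 0 := by ext x y; exact hz _ _ (by rw [hl, hr, s0]; decide)
    rw [h12, h21, det_fromBlocks_zero₂₁, IsUnit.mul_iff, ← Matrix.isUnit_iff_isUnit_det,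
      ← Matrix.isUnit_iff_isUnit_det] at hu
    obtain ⟨⟨a, ha⟩, ⟨b, hb⟩⟩ := hu
    refine ⟨a, b, Or.inl (Units.ext ?_)⟩
    rw [bd_val, ha, hb]
    nth_rw 1 [← g.val.fromBlocks_toBlocks]
    rw [h12, h21]
  · have h11 : g.val.toBlocks₁₁ = 0 := by ext x y; exact hz _ _ (by rw [hl, hl, s0]; decide)
    have h22 : g.val.toBlocks₂₂ = 0 := by ext x y; exact hz _ _ (by rw [hr, hr, s1]; decide)
    obtain ⟨k, hk⟩ : ∃ k, k = (sw : GL I8 F) * g := ⟨_, rfl⟩
    have hkv : k.val = fromBlocks g.val.toBlocks₂₁ 0 0 g.val.toBlocks₁₂ := by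
      rw [hk, Units.val_mul, sw_val]
      nth_rw 1 [← g.val.fromBlocks_toBlocks]
      rw [h11, h22, fromBlocks_multiply]
      simp
    have hu' := k.isUnit
    rw [Matrix.isUnit_iff_isUnit_det, hkv, det_fromBlocks_zero₂₁, IsUnit.mul_iff, ← Matrix.isUnit_iff_isUnit_det,
      ← Matrix.isUnit_iff_isUnit_det] at hu'
    obtain ⟨⟨a, ha⟩, ⟨b, hb⟩⟩ := hu'
    refine ⟨a, b, Or.inr ?_⟩
    rw [show g = sw * k by rw [hk, ← mul_assoc, sw_sq, one_mul]]
    congr 1
    exact Units.ext (by rw [hkv, bd_val, ha, hb])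

theorem eq_top_of_blocks {S8 M : Subgroup (GL I8 F)}
    (hmax : IsMaximalIn (S8.map (glReindex e8).toMonoidHom)
      (decompositionStabilizer (dec F) ⊓ S8.map (glReindex e8).toMonoidHom))
    (hsw : (sw : GL I8 F) ∈ S8) (hMS : M ≤ S8) (hbd : ∀ a b, bd a b ∈ S8 → bd a b ∈ M) (hswM : sw ∈ M)
    (hex : ∃ g ∈ M, ∀ a b : GL I4 F, g ≠ bd a b ∧ g ≠ sw * bd a b) : M = S8 := by
  have hinj : Function.Injective (glReindex (F := F) e8).toMonoidHom := (glReindex e8).injective
  rcases hmax.2 (M.map (glReindex e8).toMonoidHom) (fun x hx => by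
      obtain ⟨g, hg, rfl⟩ := hx.2
      obtain ⟨a, b, e⟩ := block_of_stab hx.1
      refine ⟨g, ?_, rfl⟩
      rcases e with rfl | rfl
      · exact hbd a b hg
      · have h : bd a b ∈ S8 := by
          have := mul_mem hsw hg
          rwa [← mul_assoc, sw_sq, one_mul] at this
        exact mul_mem hswM (hbd a b h))
    (Subgroup.map_mono hMS) with e | e
  · exfalso
    obtain ⟨g, hg, hne⟩ := hex
    have hg' : (glReindex e8).toMonoidHom g ∈ decompositionStabilizer (dec F) ⊓ S8.map (glReindex e8).toMonoidHom :=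
      e ▸ Subgroup.mem_map_of_mem _ hg
    obtain ⟨a, b, h⟩ := block_of_stab hg'.1
    rcases h with h | h
    · exact (hne a b).1 h
    · exact (hne a b).2 h
  · exact Subgroup.map_injective hinj e

theorem map_reindex_symm {ι κ : Type} [Fintype ι] [DecidableEq ι] [Fintype κ] [DecidableEq κ] (e : ι ≃ κ)
    (S : Subgroup (GL ι F)) :
    (S.map (glReindex e).toMonoidHom).map (glReindex e.symm).toMonoidHom = S := by
  rw [Subgroup.map_map]
  convert Subgroup.map_id S using 2
  ext g : 1
  exact reindex_symm_apply e.symm g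

theorem gen_transport {k : Type*} [Field k] {φ : k →+* F} {i : F} {hi : i * i = -1} {h2 : (2 : F) ≠ 0}
    {S4 : Subgroup (GL I4 F)} {G : Subgroup (GL (Fin 4) F)} (hG : SLExtraFour.Good φ hi h2 G)
    (hS : S4.map (glReindex e4).toMonoidHom = G) (K : Subgroup (GL I4 F)) (hK : K ≤ S4)
    (hn : ∀ a ∈ S4, ∀ x ∈ K, a * x * a⁻¹ ∈ K) (hR : R4 F ≤ K) : S4 ≤ K := by
  have hX : bd (1 : GL I2 F) (-1) ∈ R4 F := bd_one_neg_mem_ext (pauli_R2 h2).toPre
  have hs : (sw : GL I4 F) ∈ R4 F := sw_mem_ext _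
  have h := hG.gen ((K.map (glReindex e4).toMonoidHom : Subgroup (GL (Fin 4) F)) : Set (GL (Fin 4) F))
    (fun x hx => hS ▸ Subgroup.map_mono hK hx) ?_
    ⟨_, Subgroup.mem_map_of_mem _ (hR hX), _, hS ▸ Subgroup.mem_map_of_mem _ (hK (hR hs)), fun e => ?_⟩
  · rw [Subgroup.closure_eq, ← hS] at h
    exact (Subgroup.map_le_map_iff_of_injective (glReindex (F := F) e4).injective).1 h
  · rw [← hS]
    rintro _ ⟨a, ha, rfl⟩ _ ⟨x, hx, rfl⟩
    exact ⟨_, hn a ha x hx, by simp⟩
  · simp only [MulEquiv.coe_toMonoidHom, ← map_mul] at e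
    have e' := (glReindex e4).injective e
    rw [bd_sw] at e'
    exact neg_ne h2 (sw * bd (1 : GL I2 F) (-1)) (by
      nth_rw 1 [← e']
      rw [← mul_neg, ← bd_neg, neg_neg])

theorem max_transport [Finite F] {k : Type*} [Field k] [Fintype k] {φ : k →+* F} {i : F} {hi : i * i = -1}
    {h2 : (2 : F) ≠ 0} {S4 : Subgroup (GL I4 F)} {G : Subgroup (GL (Fin 4) F)} (hG : SLExtraFour.Good φ hi h2 G)
    (hS : S4.map (glReindex e4).toMonoidHom = G) (hk : (Fintype.card k).Prime) :
    IsMaximalIn S4 (subgroupNormalizer (R4 F) ⊓ S4) := by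
  have h := isMaximalIn_map (glReindex e4.symm) (hG.isMaximalIn hk)
  rw [← map_R4 h2 hi, ← hS, map_reindex_symm, map_reindex_symm] at h
  exact h

end Cfsg.Agent.Lib.ExtraEight
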