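import Cfsg.Agent.Lib.ExtraEight.Blocks
import Cfsg.Agent.Lib.SLExtraFour.Linear
import Cfsg.Agent.Lib.LinearFrame.Main

/-!
The normaliser of a group of symplectic type is maximal in `SL₈(p)`, `p ≡ 1 mod 4`.
-/

set_option autoImplicit false
set_option linter.unusedSectionVars false

namespace Cfsg.Agent.Lib.ExtraEight

open Matrix Cfsg Cfsg.Geo

variable {F : Type*} [Field F] [Fintype F]

theorem det_inv_val {ι : Type} [Fintype ι] [DecidableEq ι] (g : GL ι F) : (g⁻¹).val.det = g.val.det⁻¹ := by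
  refine eq_inv_of_mul_eq_one_left ?_
  rw [← det_mul, Units.inv_mul, det_one]

theorem spec_linear (hp : (Fintype.card F).Prime) (h2 : (2 : F) ≠ 0) {i : Fˣ} (hi : i * i = -1) :
    Spec h2 hi (specialLinear I4 F) (specialLinear I8 F) := by
  have hi' : (i : F) * i = -1 := by rw [← Units.val_mul, hi]; rfl
  have hG := SLExtraFour.good_linear hi' h2
  have h4 := map_reindex_sl (F := F) e4
  refine ⟨det_R4 h2, det_R8 h2, mem_sl_iff.2 det_WW, fun a ha b hb => ?_, fun a ha => ?_, fun a b _ c hc => ?_,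
    fun a b hab => ?_, fun u hu huR => mem_sl_iff.2 (det_cz_rt h2 hi hu huR),
    fun u hu w hw _ _ h => mem_sl_iff.2 (det_tt h2 hu hw h), max_transport hG h4 hp,
    fun K hK hn hR => gen_transport hG h4 K hK hn hR, fun M hMS hbd hswM hex => ?_⟩
  · rw [mem_sl_iff, det_bd, mem_sl_iff.1 ha, mem_sl_iff.1 hb, one_mul]
  · rw [mem_sl_iff, det_bd, Units.val_one, det_one, mul_one] at ha
    exact mem_sl_iff.2 ha
  · rw [mem_sl_iff, Units.val_mul, Units.val_mul, det_mul, det_mul, det_inv_val, mem_sl_iff.1 hc, mul_one,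
      mul_inv_cancel₀]
    exact (a.isUnit.map Matrix.detMonoidHom).ne_zero
  · rw [mem_sl_iff, det_bd] at hab
    obtain ⟨δ, hδ⟩ : ∃ δ : Fˣ, (δ : F) = a.val.det :=
      ⟨(a.isUnit.map Matrix.detMonoidHom).unit, rfl⟩
    have hb : b.val.det = (δ : F)⁻¹ := by rw [hδ]; exact eq_inv_of_mul_eq_one_right hab
    obtain ⟨d, hd⟩ : ∃ d : GL I2 F, d = bd (sc δ) 1 := ⟨_, rfl⟩
    have hdd : d.val.det = δ := by
      rw [hd, det_bd, det_sc, Units.val_one, det_one, mul_one, Fintype.card_fin, pow_one]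
    refine ⟨d, ?_, ?_, ?_⟩
    · rw [mem_sl_iff, det_bd, det_inv_val, hdd, mul_inv_cancel₀ δ.ne_zero]
    · rw [mem_sl_iff, Units.val_mul, det_mul, det_inv_val, det_bd, hdd, Units.val_one, det_one, mul_one, ← hδ,
        mul_inv_cancel₀ δ.ne_zero]
    · rw [mem_sl_iff, Units.val_mul, det_mul, det_inv_val, det_bd, det_inv_val, hdd, Units.val_one, det_one,
        mul_one, hb, inv_inv, inv_mul_cancel₀ δ.ne_zero]
  · refine eq_top_of_blocks ?_ ?_ hMS hbd hswM hex
    · rw [map_reindex_sl]
      exact Cfsg.Agent.Lib.LinearFrame.isMaximalIn_decomposition (by norm_num) isMDecomposition_dec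
        (by omega) (by omega)
    · rw [mem_sl_iff, det_sw]
      norm_num

/-- Clause 8: the normaliser of a group of symplectic type is maximal in `SL₈(p)`. -/
theorem isMaximalIn_normalizer_linear {R : Subgroup (GL (Fin 8) F)} (hp : (Fintype.card F).Prime)
    (h4 : Fintype.card F % 4 = 1) (hR : IsLinearSymplecticTypeData 2 R) :
    IsMaximalIn (specialLinear (Fin 8) F) (subgroupNormalizer R ⊓ specialLinear (Fin 8) F) := by
  haveI : Fact (Fintype.card F).Prime := ⟨hp⟩
  haveI : CharP F (Fintype.card F) := charP_of_card_eq_prime rfl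
  have h2 : (2 : F) ≠ 0 := fun e => by
    have h2' : ((2 : ℕ) : F) = 0 := by exact_mod_cast e
    rw [CharP.cast_eq_zero_iff F (Fintype.card F)] at h2'
    have := Nat.le_of_dvd (by norm_num) h2'
    have := hp.two_le
    omega
  obtain ⟨p, e, -, -, h⟩ := hR.field
  rcases h with ⟨ho, -⟩ | ⟨-, -, hZ, -, -⟩ | ⟨-, -, hι, -⟩
  · exact absurd ho (by decide)
  · obtain ⟨i, hi, hpre⟩ := pre_of_data hR.symplecticType hR.absIrred hZ h2
    have hi0 : i ≠ 0 := fun h0 => by rw [h0] at hi; simp at hi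
    have hiu : Units.mk0 i hi0 * Units.mk0 i hi0 = -1 := Units.ext (by simpa using hi)
    obtain ⟨P, hP⟩ := exists_conj_R8 h2 hi (hpre.map_reindex e8.symm)
    have hmax := (spec_linear hp h2 hiu).isMaximalIn
    have h1 := isMaximalIn_map (MulAut.conj P) hmax
    rw [← hP] at h1
    have hn : (specialLinear I8 F).map (MulAut.conj P).toMonoidHom = specialLinear I8 F := by
      haveI : (specialLinear I8 F).Normal := MonoidHom.normal_ker _
      refine le_antisymm ?_ fun x hx => ⟨P⁻¹ * x * P⁻¹⁻¹, Subgroup.Normal.conj_mem inferInstance x hx P⁻¹,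
        by simp [mul_assoc]⟩
      rintro _ ⟨x, hx, rfl⟩
      exact Subgroup.Normal.conj_mem inferInstance x hx P
    rw [hn] at h1
    have h3 := isMaximalIn_map (glReindex (F := F) e8) h1
    rw [map_reindex_sl] at h3
    rw [show (R.map (glReindex e8.symm).toMonoidHom).map (glReindex e8).toMonoidHom = R from
      map_reindex_symm e8.symm R] at h3
    exact h3
  · rw [Fintype.card_fin] at hι; omega

end Cfsg.Agent.Lib.ExtraEight
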