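import Cfsg.Agent.Lib.ExtraEight.Model

/-!
An overgroup of the normaliser of the Pauli group on `F ^ 8` that is not everything meets the centraliser of an involution
inside the normaliser.
-/

set_option autoImplicit false
set_option linter.unusedSectionVars false

namespace Cfsg.Agent.Lib.ExtraEight

open Matrix Cfsg Cfsg.Geo

variable {F : Type*} [Field F]

theorem one_add_ne {i : Fˣ} (hi : i * i = -1) (h2 : (2 : F) ≠ 0) : (1 : F) + (i : F) ≠ 0 := fun e => by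
  have h : (i : F) * i = -1 := by rw [← Units.val_mul, hi]; rfl
  refine h2 ?_
  linear_combination (1 - (i : F)) * e + h

/-- The constant `(1 + i)⁻¹`. -/
def cz {i : Fˣ} (hi : i * i = -1) (h2 : (2 : F) ≠ 0) : Fˣ := (Units.mk0 (1 + (i : F)) (one_add_ne hi h2))⁻¹

/-- The conditions on the ambient groups. -/
structure Spec (h2 : (2 : F) ≠ 0) {i : Fˣ} (hi : i * i = -1) (S4 : Subgroup (GL I4 F))
    (S8 : Subgroup (GL I8 F)) : Prop where
  R4_le : R4 F ≤ S4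
  R8_le : R8 F ≤ S8
  WW_mem : WW ∈ S8
  bd_mem : ∀ a ∈ S4, ∀ b ∈ S4, bd a b ∈ S8
  bd_left : ∀ a, bd a 1 ∈ S8 → a ∈ S4
  norm : ∀ a b, bd a b ∈ S8 → ∀ c ∈ S4, a * c * a⁻¹ ∈ S4
  adj : ∀ a b, bd a b ∈ S8 → ∃ d : GL I2 F, bd d d⁻¹ ∈ S4 ∧ a * (bd d 1)⁻¹ ∈ S4 ∧ b * (bd d⁻¹ 1)⁻¹ ∈ S4
  root : ∀ u, ∀ hu : u * u = -1, u ∈ R8 F → sc (cz hi h2) * rt h2 u hu ∈ S8
  half : ∀ u, ∀ hu : u * u = -1, ∀ w, ∀ hw : w * w = -1, u ∈ R4 F → w ∈ R4 F → w * u = -(u * w) →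
    tt h2 u w hu hw ∈ S4
  max4 : IsMaximalIn S4 (subgroupNormalizer (R4 F) ⊓ S4)
  gen : ∀ K : Subgroup (GL I4 F), K ≤ S4 → (∀ a ∈ S4, ∀ k ∈ K, a * k * a⁻¹ ∈ K) → R4 F ≤ K → S4 ≤ K
  maxD : ∀ M : Subgroup (GL I8 F), M ≤ S8 → (∀ a b, bd a b ∈ S8 → bd a b ∈ M) → sw ∈ M →
    (∃ g ∈ M, ∀ a b : GL I4 F, g ≠ bd a b ∧ g ≠ sw * bd a b) → M = S8

theorem sc_mem_normalizer {ι : Type} [Fintype ι] [DecidableEq ι] (R : Subgroup (GL ι F)) (c : Fˣ) :
    (sc c : GL ι F) ∈ subgroupNormalizer R := by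
  rw [subgroupNormalizer, Subgroup.mem_normalizer_iff]
  intro x
  rw [sc_comm, mul_inv_cancel_right]

/-- The left block. -/
def lf {ι : Type} [Fintype ι] [DecidableEq ι] : GL ι F →* GL (ι ⊕ ι) F where
  toFun a := bd a 1
  map_one' := bd_one
  map_mul' a b := by rw [bd_mul, one_mul]

/-- The left projection of a group. -/
def projL {ι : Type} [Fintype ι] [DecidableEq ι] (M : Subgroup (GL (ι ⊕ ι) F)) : Subgroup (GL ι F) where
  carrier := {a | ∃ b, bd a b ∈ M}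
  one_mem' := ⟨1, by rw [bd_one]; exact one_mem M⟩
  mul_mem' := fun {a a'} ⟨b, h⟩ ⟨b', h'⟩ => ⟨b * b', by rw [← bd_mul]; exact mul_mem h h'⟩
  inv_mem' := fun {a} ⟨b, h⟩ => ⟨b⁻¹, by rw [← bd_inv]; exact inv_mem h⟩

theorem mem_projL {ι : Type} [Fintype ι] [DecidableEq ι] {M : Subgroup (GL (ι ⊕ ι) F)} {a : GL ι F} :
    a ∈ projL M ↔ ∃ b, bd a b ∈ M := Iff.rfl

variable [Finite F]

theorem dg_mem_normalizer (h2 : (2 : F) ≠ 0) {n : GL I4 F} (h : n ∈ subgroupNormalizer (R4 F)) :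
    dg n ∈ subgroupNormalizer (R8 F) := by
  refine mem_normalizer_of fun x hx => ?_
  have hle : R8 F ≤ (R8 F).comap (MulAut.conj (dg n)).toMonoidHom := by
    refine ext_le ?_ ?_ fun a ha => ?_
    · show dg n * sw * (dg n)⁻¹ ∈ R8 F
      rw [dg_apply, bd_sw, mul_inv_cancel_right]; exact sw_mem_ext _
    · show dg n * bd (1 : GL I4 F) (-1) * (dg n)⁻¹ ∈ R8 F
      rw [dg_apply, bd_inv, bd_mul, bd_mul, mul_one, mul_inv_cancel, mul_neg, mul_one, neg_mul, mul_inv_cancel]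
      exact bd_one_neg_mem_ext (pauli_R4 h2).toPre
    · show dg n * dg a * (dg n)⁻¹ ∈ R8 F
      rw [← map_mul, ← map_inv, ← map_mul]; exact dg_mem_ext (conj_mem_of_normalizer h ha)
  exact hle hx

theorem normalizer_of_dg {n : GL I4 F} (h : dg n ∈ subgroupNormalizer (R8 F)) :
    n ∈ subgroupNormalizer (R4 F) := by
  refine mem_normalizer_of fun x hx => ?_
  have := conj_mem_of_normalizer h (dg_mem_ext hx)
  rw [← map_mul, ← map_inv, ← map_mul, dg_apply] at this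
  exact (bd_mem_ext this).1

theorem bd_one_mem_normalizer (h2 : (2 : F) ≠ 0) {r : GL I4 F} (hr : r ∈ R4 F) :
    bd r (1 : GL I4 F) ∈ subgroupNormalizer (R8 F) := by
  have h4 := (pauli_R4 (F := F) h2).toPre
  refine mem_normalizer_of fun x hx => ?_
  have hle : R8 F ≤ (R8 F).comap (MulAut.conj (bd r (1 : GL I4 F))).toMonoidHom := by
    refine ext_le ?_ ?_ fun a ha => ?_
    · show bd r 1 * sw * (bd r (1 : GL I4 F))⁻¹ ∈ R8 F
      rw [bd_sw, bd_inv, mul_assoc, bd_mul, one_mul, inv_one, mul_one]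
      refine mul_mem (sw_mem_ext _) (mem_ext_of h4 (inv_mem hr) ?_)
      rcases h4.sq r hr with e | e
      · exact Or.inl (eq_inv_of_mul_eq_one_left e)
      · right
        rw [show r⁻¹ = -r from inv_eq_of_mul_eq_one_right (by rw [mul_neg, e, neg_neg]), neg_neg]
    · show bd r 1 * bd (1 : GL I4 F) (-1) * (bd r (1 : GL I4 F))⁻¹ ∈ R8 F
      rw [bd_inv, bd_mul, bd_mul, mul_one, mul_inv_cancel, inv_one, mul_one, one_mul]
      exact bd_one_neg_mem_ext h4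
    · show bd r 1 * dg a * (bd r (1 : GL I4 F))⁻¹ ∈ R8 F
      rw [dg_apply, bd_inv, bd_mul, bd_mul, inv_one, mul_one, one_mul]
      rcases h4.comm r hr a ha with e | e
      · rw [e, mul_inv_cancel_right]; exact dg_mem_ext ha
      · rw [e, neg_mul, mul_inv_cancel_right]
        exact mem_ext_of h4 (h4.neg_mem ha) (Or.inr (neg_neg a).symm)
  exact hle hx

theorem sw_conj_bd {ι : Type} [Fintype ι] [DecidableEq ι] (p q : GL ι F) :
    bd p q * sw * (bd p q)⁻¹ = sw * bd (q * p⁻¹) (p * q⁻¹) := by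
  rw [bd_sw, bd_inv, mul_assoc, bd_mul]

namespace Spec

variable {h2 : (2 : F) ≠ 0} {i : Fˣ} {hi : i * i = -1} {S4 : Subgroup (GL I4 F)} {S8 : Subgroup (GL I8 F)}
  (sp : Spec h2 hi S4 S8)
include sp

theorem sw_mem : (sw : GL I8 F) ∈ subgroupNormalizer (R8 F) ⊓ S8 :=
  ⟨Subgroup.le_normalizer (sw_mem_ext _), sp.R8_le (sw_mem_ext _)⟩

theorem WW_mem' : (WW : GL I8 F) ∈ subgroupNormalizer (R8 F) ⊓ S8 := ⟨WW_mem_normalizer h2, sp.WW_mem⟩

theorem root_mem {u : GL I8 F} (hu : u * u = -1) (huR : u ∈ R8 F) :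
    sc (cz hi h2) * rt h2 u hu ∈ subgroupNormalizer (R8 F) ⊓ S8 :=
  ⟨mul_mem (sc_mem_normalizer _ _) ((pauli_R8 h2).toPre.conj_mem_rt h2 hu huR), sp.root u hu huR⟩

theorem dg_mem {n : GL I4 F} (hn : n ∈ subgroupNormalizer (R4 F) ⊓ S4) :
    dg n ∈ subgroupNormalizer (R8 F) ⊓ S8 := ⟨dg_mem_normalizer h2 hn.1, sp.bd_mem _ hn.2 _ hn.2⟩

theorem bd_one_mem {r : GL I4 F} (hr : r ∈ R4 F) : bd r (1 : GL I4 F) ∈ subgroupNormalizer (R8 F) ⊓ S8 :=
  ⟨bd_one_mem_normalizer h2 hr, sp.bd_mem _ (sp.R4_le hr) _ (one_mem _)⟩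

theorem root_dg {e : GL I4 F} (he : e * e = -1) (heR : e ∈ R4 F) :
    dg (sc (cz hi h2) * rt h2 e he) ∈ subgroupNormalizer (R8 F) ⊓ S8 := by
  have := sp.root_mem (bd_sq he he) (dg_mem_ext heR)
  rw [map_mul, dg_apply, dg_apply, bd_sc, ← rt_bd h2 he he]
  exact this

theorem step_N4 (a : GL I4 F) (ha : a ∈ R4 F) (b : GL I4 F) (hb : b ∈ R4 F) (haa : a * a = -1) (hbb : b * b = -1)
    (hba : b * a = -(a * b)) : ∃ n ∈ subgroupNormalizer (R4 F) ⊓ S4, n * a * n⁻¹ = b :=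
  ⟨tt h2 a b haa hbb, ⟨(pauli_R4 h2).toPre.tt_mem h2 haa hbb ha hb, sp.half a haa b hbb ha hb hba⟩,
    tt_conj h2 haa hbb hba⟩

variable {M : Subgroup (GL I8 F)} (hNM : subgroupNormalizer (R8 F) ⊓ S8 ≤ M) (hMS : M ≤ S8) (hne : M ≠ S8)
include hNM hMS hne

theorem proj_ne : projL M ⊓ S4 ≠ S4 := by
  intro hL
  apply hne
  have hK : ∀ a ∈ S4, bd a (1 : GL I4 F) ∈ M := by
    intro a ha
    exact sp.gen (M.comap lf) (fun k hk => sp.bd_left k (hMS hk)) (fun c hc k hk => by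
      have hc' : c ∈ projL M ⊓ S4 := by rw [hL]; exact hc
      obtain ⟨b, hb⟩ := hc'.1
      have h : bd c b * bd k 1 * (bd c b)⁻¹ ∈ M := mul_mem (mul_mem hb hk) (inv_mem hb)
      rw [bd_inv, bd_mul, bd_mul, mul_one, mul_inv_cancel] at h
      exact h) (fun r hr => hNM (sp.bd_one_mem hr)) ha
  have hswM := hNM sp.sw_mem
  have hboth : ∀ a ∈ S4, ∀ b ∈ S4, bd a b ∈ M := by
    intro a ha b hb
    have h : bd a (1 : GL I4 F) * (sw * bd b 1 * sw) ∈ M :=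
      mul_mem (hK a ha) (mul_mem (mul_mem hswM (hK b hb)) hswM)
    rwa [sw_bd_sw, bd_mul, mul_one, one_mul] at h
  refine sp.maxD M hMS (fun a b hab => ?_) hswM ?_
  · obtain ⟨d, hd, ha, hb⟩ := sp.adj a b hab
    have h1 := mul_mem (mul_mem (hNM sp.WW_mem') (hK _ hd)) (inv_mem (hNM sp.WW_mem'))
    rw [show (1 : GL I4 F) = bd (1 : GL I2 F) 1 from bd_one.symm, WW_bd] at h1
    have h := mul_mem (hboth _ ha _ hb) h1
    rwa [bd_mul, inv_mul_cancel_right, inv_mul_cancel_right] at h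
  · obtain ⟨u, hu⟩ : ∃ u : GL I8 F, u = sw * bd (1 : GL I4 F) (-1) := ⟨_, rfl⟩
    have huu : u * u = -1 := by
      rw [hu, ← mul_assoc, sw_bd_sw, bd_mul, one_mul, mul_one, bd_neg, bd_one]
    have huR : u ∈ R8 F := hu ▸ mul_mem (sw_mem_ext _) (bd_one_neg_mem_ext (pauli_R4 h2).toPre)
    refine ⟨_, hNM (sp.root_mem huu huR), fun a b => ⟨fun e => ?_, fun e => ?_⟩⟩
    · have e' := congrArg (fun g : GL I8 F => g.val (Sum.inl (Sum.inl (Sum.inl 0))) (Sum.inr (Sum.inl (Sum.inl 0)))) e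
      simp [rt_val, hu, bd_val, sw_val, sc_val, fromBlocks_multiply, Matrix.one_apply] at e'
    · have e' := congrArg (fun g : GL I8 F => g.val (Sum.inl (Sum.inl (Sum.inl 0))) (Sum.inl (Sum.inl (Sum.inl 0)))) e
      simp [rt_val, hu, bd_val, sw_val, sc_val, fromBlocks_multiply, Matrix.one_apply] at e'

theorem proj_eq : projL M ⊓ S4 = subgroupNormalizer (R4 F) ⊓ S4 :=
  (sp.max4.2 (projL M ⊓ S4) (fun n hn => ⟨mem_projL.2 ⟨n, hNM (sp.dg_mem hn)⟩, hn.2⟩) inf_le_right).resolve_right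
    (sp.proj_ne hNM hMS hne)

theorem left_mem {a b : GL I4 F} (hab : bd a b ∈ M) : a ∈ subgroupNormalizer (R4 F) := by
  have hL := sp.proj_eq hNM hMS hne
  have h4 := (pauli_R4 (F := F) h2).toPre
  have hstab : ∀ n ∈ subgroupNormalizer (R4 F) ⊓ S4,
      a * n * a⁻¹ ∈ subgroupNormalizer (R4 F) ⊓ S4 ∧ a⁻¹ * n * a ∈ subgroupNormalizer (R4 F) ⊓ S4 := by
    intro n hn
    rw [← hL] at hn ⊢
    have hainv : bd a⁻¹ b⁻¹ ∈ M := by rw [← bd_inv]; exact inv_mem hab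
    have haP : a ∈ projL M := mem_projL.2 ⟨b, hab⟩
    refine ⟨⟨(projL M).mul_mem ((projL M).mul_mem haP hn.1) ((projL M).inv_mem haP), sp.norm a b (hMS hab) n hn.2⟩, ?_⟩
    refine ⟨(projL M).mul_mem ((projL M).mul_mem ((projL M).inv_mem haP) hn.1) haP, ?_⟩
    simpa using sp.norm a⁻¹ b⁻¹ (hMS hainv) n hn.2
  have hR : ∀ x ∈ R4 F, x ∈ subgroupNormalizer (R4 F) ⊓ S4 := fun x hx =>
    ⟨Subgroup.le_normalizer hx, sp.R4_le hx⟩
  obtain ⟨R', hR'⟩ : ∃ R', R' = (R4 F).map (MulAut.conj a).toMonoidHom := ⟨_, rfl⟩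
  have hinv : ∀ n ∈ subgroupNormalizer (R4 F) ⊓ S4, ∀ z ∈ R', n * z * n⁻¹ ∈ R' := by
    rintro n hn z hz
    rw [hR'] at hz ⊢
    obtain ⟨x, hx, rfl⟩ := hz
    refine ⟨_, conj_mem_of_normalizer (hstab n hn).2.1 hx, ?_⟩
    simp only [MulEquiv.coe_toMonoidHom, MulAut.conj_apply]
    group
  suffices R' = R4 F by
    refine mem_normalizer_of fun x hx => ?_
    rw [← this, hR']
    exact ⟨x, hx, rfl⟩
  by_cases hz : ∃ z ∈ R', z ∈ R4 F ∧ ∃ y ∈ R4 F, y * z = -(z * y)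
  · obtain ⟨z, hzR', hzR, hzA⟩ := hz
    have hsc : ∀ c : Fˣ, c ^ 4 = 1 → (sc c : GL I4 F) ∈ R' := fun c hc => hR' ▸ ⟨sc c, h4.mu c hc, by
      simp only [MulEquiv.coe_toMonoidHom, MulAut.conj_apply]
      rw [← sc_comm, mul_inv_cancel_right]⟩
    obtain ⟨z', hz', hzz, c, hc⟩ := h4.exists_sq_neg hi hzR
    have hz'A : ∃ y ∈ R4 F, y * z' = -(z' * y) := by
      obtain ⟨y, hy, e⟩ := hzA
      exact ⟨y, hy, by rw [hc, ← mul_assoc, ← sc_comm, mul_assoc, e, mul_neg, mul_assoc]⟩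
    have hz'R' : z' ∈ R' := by
      have hc4 : c ^ 4 = 1 := h4.sc_mem_of (x := sc c) (by
        have := mul_mem hz' (inv_mem hzR)
        rwa [hc, mul_inv_cancel_right] at this) rfl
      rw [hc]; exact mul_mem (hsc c hc4) hzR'
    have hle : R4 F ≤ R' := by
      intro x hx
      rcases h4.scalar_or_anti hx with ⟨c, rfl⟩ | hxA
      · exact hsc c (h4.sc_mem_of hx rfl)
      obtain ⟨x', hx', hxx, c, hc⟩ := h4.exists_sq_neg hi hx
      have hx'A : ∃ y ∈ R4 F, y * x' = -(x' * y) := by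
        obtain ⟨y, hy, e⟩ := hxA
        exact ⟨y, hy, by rw [hc, ← mul_assoc, ← sc_comm, mul_assoc, e, mul_neg, mul_assoc]⟩
      obtain ⟨n, hn, e⟩ := h4.move sp.step_N4 hi hz' hx' hzz hxx hz'A hx'A
      have hx'R' : x' ∈ R' := e ▸ hinv n hn z' hz'R'
      have hc4 : c ^ 4 = 1 := h4.sc_mem_of (x := sc c) (by
        have := mul_mem hx' (inv_mem hx)
        rwa [hc, mul_inv_cancel_right] at this) rfl
      have := mul_mem (inv_mem (hsc c hc4)) hx'R'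
      rwa [hc, inv_mul_cancel_left] at this
    refine (Subgroup.eq_of_le_of_card_ge hle ?_).symm
    rw [hR', Subgroup.card_map_of_injective (K := R4 F) (MulAut.conj a).injective]
  · push Not at hz
    refine Subgroup.eq_of_le_of_card_ge ?_ (by
      rw [hR', Subgroup.card_map_of_injective (K := R4 F) (MulAut.conj a).injective])
    intro r hr
    have hr' := hr
    rw [hR'] at hr'
    obtain ⟨r0, hr0, rfl⟩ := hr'
    simp only [MulEquiv.coe_toMonoidHom, MulAut.conj_apply] at hr ⊢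
    have hrN := (hstab r0 (hR r0 hr0)).1
    have hact : ∀ x ∈ R4 F, a * r0 * a⁻¹ * x * (a * r0 * a⁻¹)⁻¹ = x ∨ a * r0 * a⁻¹ * x * (a * r0 * a⁻¹)⁻¹ = -x := by
      intro x hx
      obtain ⟨k, hk⟩ : ∃ k, k = a * r0 * a⁻¹ * x * (a * r0 * a⁻¹)⁻¹ := ⟨_, rfl⟩
      have hkR : k ∈ R4 F := hk ▸ conj_mem_of_normalizer hrN.1 hx
      have hz1 : k * x⁻¹ ∈ R4 F := mul_mem hkR (inv_mem hx)
      have hz2 : k * x⁻¹ ∈ R' := by
        rw [show k * x⁻¹ = a * r0 * a⁻¹ * (x * (a * r0 * a⁻¹)⁻¹ * x⁻¹) by rw [hk]; group]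
        exact mul_mem hr (hinv x (hR x hx) _ (inv_mem hr))
      rcases h4.scalar_or_anti hz1 with ⟨c, hc⟩ | ⟨y, hy, e⟩
      · have hkx : k = sc c * x := by rw [← hc, inv_mul_cancel_right]
        have hk2 : k * k = x * x := by
          rcases h4.sq x hx with e | e <;>
            rw [hk, show a * r0 * a⁻¹ * x * (a * r0 * a⁻¹)⁻¹ * (a * r0 * a⁻¹ * x * (a * r0 * a⁻¹)⁻¹) =
              a * r0 * a⁻¹ * (x * x) * (a * r0 * a⁻¹)⁻¹ by group, e]
          · rw [mul_one, mul_inv_cancel]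
          · rw [mul_neg, mul_one, neg_mul, mul_inv_cancel]
        rw [← hk]
        have hcc : (sc (c * c) : GL I4 F) = 1 := by
          rw [hkx, show sc c * x * (sc c * x) = sc c * (x * sc c) * x by group, ← sc_comm,
            show sc c * (sc c * x) * x = sc c * sc c * (x * x) by group, mul_eq_right, ← map_mul] at hk2
          exact hk2
        have hc1 : c * c = 1 := sc_inj (hcc.trans (map_one _).symm)
        rcases mul_self_eq_one_iff.1 (by simpa using congrArg Units.val hc1 : (c : F) * c = 1) with e | e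
        · left; rw [hkx, show c = 1 from Units.ext e, map_one, one_mul]
        · right; rw [hkx, show c = -1 from Units.ext (by simpa using e), sc_neg_one, neg_one_mul]
      · exact absurd e (hz _ hz2 hz1 y hy)
    obtain ⟨c, r, hr1, e⟩ := (pauli_R4 h2).signs _ hact
    rw [e]
    refine mul_mem (h4.mu c ?_) hr1
    have hsq : a * r0 * a⁻¹ * (a * r0 * a⁻¹) = 1 ∨ a * r0 * a⁻¹ * (a * r0 * a⁻¹) = -1 := by
      rcases h4.sq r0 hr0 with e | e
      · left; rw [show a * r0 * a⁻¹ * (a * r0 * a⁻¹) = a * (r0 * r0) * a⁻¹ by group, e, mul_one, mul_inv_cancel]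
      · right
        rw [show a * r0 * a⁻¹ * (a * r0 * a⁻¹) = a * (r0 * r0) * a⁻¹ by group, e, mul_neg, mul_one, neg_mul,
          mul_inv_cancel]
    rw [e, show sc c * r * (sc c * r) = sc c * (r * sc c) * r by group, ← sc_comm,
      show sc c * (sc c * r) * r = sc c * sc c * (r * r) by group, ← map_mul] at hsq
    have key : (sc (c * c) : GL I4 F) = 1 ∨ (sc (c * c) : GL I4 F) = -1 := by
      rcases h4.sq r hr1 with e' | e' <;> rw [e'] at hsq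
      · simpa using hsq
      · rw [mul_neg, mul_one, neg_eq_iff_eq_neg, neg_eq_iff_eq_neg, neg_neg] at hsq
        exact hsq.symm
    rw [pow_four']
    rcases key with e' | e'
    · rw [sc_inj (e'.trans (map_one _).symm), one_mul]
    · rw [sc_inj (e'.trans sc_neg_one.symm)]; simp

theorem right_mem {a b : GL I4 F} (hab : bd a b ∈ M) : b ∈ subgroupNormalizer (R4 F) := by
  have := mul_mem (mul_mem (hNM sp.sw_mem) hab) (hNM sp.sw_mem)
  rw [sw_bd_sw] at this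
  exact sp.left_mem hNM hMS hne this

/-- The ratio of two roots over the scalars, as an element of the left block. -/
def Hm (M : Subgroup (GL I8 F)) (d : GL I4 F) : Prop := ∃ c : Fˣ, bd (sc c * d) (sc c) ∈ M

theorem hm_conj {d n : GL I4 F} (hd : Hm M d) (hn : dg n ∈ subgroupNormalizer (R8 F) ⊓ S8) :
    Hm M (n * d * n⁻¹) := by
  obtain ⟨c, hc⟩ := hd
  refine ⟨c, ?_⟩
  have := mul_mem (mul_mem (hNM hn) hc) (inv_mem (hNM hn))
  rw [dg_apply, bd_inv, bd_mul, bd_mul, ← mul_assoc n, ← sc_comm, mul_inv_cancel_right, mul_assoc (sc c),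
    mul_assoc (sc c)] at this
  exact this

theorem hm_div {d d' : GL I4 F} (hd : Hm M d) (hd' : Hm M d') : Hm M (d * d'⁻¹) := by
  obtain ⟨c, hc⟩ := hd
  obtain ⟨c', hc'⟩ := hd'
  refine ⟨c * c'⁻¹, ?_⟩
  have := mul_mem hc (inv_mem hc')
  rw [bd_inv, bd_mul, _root_.mul_inv_rev, ← map_inv, ← map_mul, mul_assoc, ← mul_assoc d, ← sc_comm,
    ← mul_assoc (sc c), ← map_mul] at this
  exact this

theorem no_hm_anti {a b : GL I4 F} (ha : a ∈ R4 F) (hb : b ∈ R4 F) (haa : a * a = -1) (hbb : b * b = -1)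
    (hba : b * a = -(a * b)) (hd : Hm M (rt h2 a haa * (rt h2 b hbb)⁻¹)) : False := by
  have h4 := (pauli_R4 (F := F) h2).toPre
  have h2p := (pauli_R2 (F := F) h2).toPre
  obtain ⟨A, hA⟩ : ∃ A : GL I2 F, A = sc i * bd (1 : GL (Fin 1) F) (-1) := ⟨_, rfl⟩
  obtain ⟨B, hB⟩ : ∃ B : GL I2 F, B = sc i * sw := ⟨_, rfl⟩
  have hAR : A ∈ R2 F := hA ▸ mul_mem (h2p.i_mem hi) (bd_one_neg_mem_ext pauli_mu.toPre)
  have hBR : B ∈ R2 F := hB ▸ mul_mem (h2p.i_mem hi) (sw_mem_ext _)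
  have hAA : A * A = -1 := by
    rw [hA, mul_assoc, ← mul_assoc (bd _ _), ← sc_comm, mul_assoc, bd_mul, neg_mul_neg, one_mul, bd_one, mul_one,
      sc_sq_neg hi]
  have hBB : B * B = -1 := by
    rw [hB, mul_assoc, ← mul_assoc sw, ← sc_comm, mul_assoc, sw_sq, mul_one, sc_sq_neg hi]
  have hBA : B * A = -(A * B) := by
    have e : (sw : GL I2 F) * bd (1 : GL (Fin 1) F) (-1) = -(bd (1 : GL (Fin 1) F) (-1) * sw) := by
      rw [bd_sw, ← mul_neg, ← bd_neg, neg_neg]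
    rw [hA, hB, mul_assoc, ← mul_assoc sw, ← sc_comm, mul_assoc (sc i) sw, e, mul_assoc (sc i) (bd _ _),
      ← mul_assoc (bd _ _), ← sc_comm i (bd _ _), mul_assoc (sc i) (bd _ _), mul_neg, mul_neg]
  -- move the pair to a standard one
  have haA : ∃ y ∈ R4 F, y * a = -(a * y) := ⟨b, hb, hba⟩
  have hda : ∃ y ∈ R4 F, y * dg A = -(dg A * y) :=
    ⟨dg B, dg_mem_ext hBR, by rw [← map_mul, hBA, ← map_mul, dg_apply, bd_neg, ← dg_apply]⟩
  have hsq : ∀ {C : GL I2 F}, C * C = -1 → dg C * dg C = -1 := fun {C} e => bd_sq e e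
  obtain ⟨n, hn, hna⟩ := h4.move sp.step_N4 hi ha (dg_mem_ext hAR) haa (hsq hAA) haA hda
  obtain ⟨b', hb'⟩ : ∃ b', b' = n * b * n⁻¹ := ⟨_, rfl⟩
  have hb'R : b' ∈ R4 F := hb' ▸ conj_mem_of_normalizer hn.1 hb
  have hb'a : b' * dg A = -(dg A * b') := by
    rw [hb', ← hna, show n * b * n⁻¹ * (n * a * n⁻¹) = n * (b * a) * n⁻¹ by group, hba,
      show n * a * n⁻¹ * (n * b * n⁻¹) = n * (a * b) * n⁻¹ by group, mul_neg, neg_mul]
  obtain ⟨m, hm, hma, hmb⟩ := h4.move_fix h2 (N := (subgroupNormalizer (R8 F) ⊓ S8).comap dg)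
    (fun e he heR => ⟨cz hi h2, sp.root_dg he heR⟩) (dg_mem_ext hAR) hb'R (dg_mem_ext hBR) (hsq hAA)
    (hb' ▸ conj_sq hbb) (hsq hBB) hb'a
    (by rw [← map_mul, hBA, ← map_mul, dg_apply, bd_neg, ← dg_apply])
  have hd' := sp.hm_conj hNM hMS hne (sp.hm_conj hNM hMS hne hd (sp.dg_mem hn)) hm
  have econj : m * (n * (rt h2 a haa * (rt h2 b hbb)⁻¹) * n⁻¹) * m⁻¹ =
      dg (rt h2 A hAA * (rt h2 B hBB)⁻¹) := by
    rw [show m * (n * (rt h2 a haa * (rt h2 b hbb)⁻¹) * n⁻¹) * m⁻¹ =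
      (m * (n * rt h2 a haa * n⁻¹) * m⁻¹) * (m * (n * rt h2 b hbb * n⁻¹) * m⁻¹)⁻¹ by group, rt_conj, rt_conj,
      rt_conj, rt_conj, map_mul, map_inv, dg_apply, dg_apply, ← rt_bd h2 hAA hAA, ← rt_bd h2 hBB hBB,
      rt_congr h2 (conj_sq (conj_sq haa)) (bd_sq hAA hAA) (by rw [hna, hma]; rfl),
      rt_congr h2 (conj_sq (conj_sq hbb)) (bd_sq hBB hBB) (by rw [← hb', hmb]; rfl)]
  rw [econj] at hd'
  obtain ⟨D, hD⟩ : ∃ D, D = rt h2 A hAA * (rt h2 B hBB)⁻¹ := ⟨_, rfl⟩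
  rw [← hD] at hd'
  obtain ⟨c, hc⟩ := hd'
  -- move to the second qubit
  have h1 := mul_mem (mul_mem (hNM sp.WW_mem') hc) (inv_mem (hNM sp.WW_mem'))
  rw [dg_apply, ← bd_sc (ι := I2) c, bd_mul, WW_bd] at h1
  have h3 := conj_mem_of_normalizer (sp.left_mem hNM hMS hne h1) (sw_mem_ext (R2 F))
  rw [sw_conj_bd] at h3
  obtain ⟨-, h5⟩ := sw_bd_mem_ext h3
  rw [_root_.mul_inv_rev, ← mul_assoc (sc c) D⁻¹, sc_comm c D⁻¹, mul_inv_cancel_right,
    sc_comm c D, mul_inv_cancel_right] at h5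
  have hDD : D * D = 1 ∨ D * D = -1 := by
    rcases h5 with e | e
    · left; nth_rw 2 [e]; rw [mul_inv_cancel]
    · right; nth_rw 2 [e]; rw [mul_neg, mul_inv_cancel]
  have hv : ∀ x y, D.val x y = ((1 + A.val) * ((2 : F)⁻¹ • (1 - B.val))) x y := fun x y => by
    rw [hD, Units.val_mul, rt_val, rt_inv_val]
  have hi' : (i : F) * i = -1 := by rw [← Units.val_mul, hi]; rfl
  have key : (D * D).val (Sum.inl 0) (Sum.inr 0) = 0 := by
    rcases hDD with e | e <;> rw [e] <;> simp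
  simp [Matrix.mul_apply, hv, hA, hB, bd_val, sw_val, sc_val, fromBlocks_multiply, Matrix.one_apply,
    Fintype.sum_sum_type] at key
  field_simp at key
  have key' : (i : F) * (1 + (i : F)) = 0 := by
    have : (2 : F) * ((i : F) * (1 + (i : F))) = 0 := by linear_combination (-1 : F) * key
    exact (mul_eq_zero.1 this).resolve_left h2
  rcases mul_eq_zero.1 key' with e | e
  · exact i.ne_zero e
  · exact one_add_ne hi h2 e

theorem ratio_signs {gp gm : GL I4 F} (hg : bd gp gm ∈ M) :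
    ∀ x ∈ R4 F, gm⁻¹ * gp * x * (gm⁻¹ * gp)⁻¹ = x ∨ gm⁻¹ * gp * x * (gm⁻¹ * gp)⁻¹ = -x := by
  intro x hx
  by_contra hc
  push Not at hc
  have h4 := (pauli_R4 (F := F) h2).toPre
  rcases h4.scalar_or_anti hx with ⟨c, rfl⟩ | hxA
  · exact hc.1 (by rw [← sc_comm, mul_inv_cancel_right])
  obtain ⟨u, hu, huu, c, huc⟩ := h4.exists_sq_neg hi hx
  obtain ⟨a, ha⟩ : ∃ a, a = gp * u * gp⁻¹ := ⟨_, rfl⟩
  obtain ⟨b, hb⟩ : ∃ b, b = gm * u * gm⁻¹ := ⟨_, rfl⟩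
  have haR : a ∈ R4 F := ha ▸ conj_mem_of_normalizer (sp.left_mem hNM hMS hne hg) hu
  have hbR : b ∈ R4 F := hb ▸ conj_mem_of_normalizer (sp.right_mem hNM hMS hne hg) hu
  have haa : a * a = -1 := ha ▸ conj_sq huu
  have hbb : b * b = -1 := hb ▸ conj_sq huu
  have hne' : a ≠ b ∧ a ≠ -b := by
    have e : gm⁻¹ * gp * x * (gm⁻¹ * gp)⁻¹ = (sc c)⁻¹ * (gm⁻¹ * a * gm) := by
      rw [ha, huc, show gm⁻¹ * (gp * (sc c * x) * gp⁻¹) * gm = gm⁻¹ * (gp * sc c) * x * gp⁻¹ * gm by group,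
        ← sc_comm, ← mul_assoc gm⁻¹, ← sc_comm]
      group
    have e' : (sc c)⁻¹ * u = x := by rw [huc, inv_mul_cancel_left]
    constructor <;> intro h
    · exact hc.1 (by rw [e, h, hb, show gm⁻¹ * (gm * u * gm⁻¹) * gm = u by group, e'])
    · exact hc.2 (by
        rw [e, h, hb, mul_neg, neg_mul, show gm⁻¹ * (gm * u * gm⁻¹) * gm = u by group, mul_neg, e'])
  have hd : Hm M (rt h2 a haa * (rt h2 b hbb)⁻¹) := by
    refine ⟨1, ?_⟩
    have hcanc : ∀ (z : Fˣ) (A B : GL I4 F), sc z * A * (sc z * B)⁻¹ = A * B⁻¹ := fun z A B => by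
      rw [show sc z * A * (sc z * B)⁻¹ = sc z * (A * B⁻¹) * (sc z)⁻¹ by group, sc_comm, mul_inv_cancel_right]
    have hconjsc : ∀ (z : Fˣ) (g A : GL I4 F), g * (sc z * A) * g⁻¹ = sc z * (g * A * g⁻¹) := fun z g A => by
      rw [← mul_assoc g, ← sc_comm, mul_assoc (sc z) g, mul_assoc (sc z)]
    have ea : gp * (sc (cz hi h2) * rt h2 u huu) * gp⁻¹ = sc (cz hi h2) * rt h2 a haa := by
      rw [hconjsc, rt_conj, rt_congr h2 _ haa ha.symm]
    have eb : gm * (sc (cz hi h2) * rt h2 u huu) * gm⁻¹ = sc (cz hi h2) * rt h2 b hbb := by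
      rw [hconjsc, rt_conj, rt_congr h2 _ hbb hb.symm]
    have h1 := mul_mem (mul_mem hg (hNM (sp.root_dg huu hu))) (inv_mem hg)
    have h3 := hNM (sp.root_dg hbb hbR)
    have := mul_mem h1 (inv_mem h3)
    rw [dg_apply, dg_apply, bd_inv, bd_mul, bd_mul, ea, eb, bd_inv, bd_mul, hcanc, mul_inv_cancel] at this
    rw [map_one, one_mul]
    exact this
  rcases h4.comm a haR b hbR with hab | hab
  · obtain ⟨y, hy, hyu⟩ : ∃ y ∈ R4 F, y * u = -(u * y) := by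
      obtain ⟨y, hy, e⟩ := hxA
      exact ⟨y, hy, by rw [huc, ← mul_assoc, ← sc_comm, mul_assoc, e, mul_neg, mul_assoc]⟩
    have haA : ∃ y ∈ R4 F, y * a = -(a * y) := ⟨gp * y * gp⁻¹,
      conj_mem_of_normalizer (sp.left_mem hNM hMS hne hg) hy, by
        rw [ha, show gp * y * gp⁻¹ * (gp * u * gp⁻¹) = gp * (y * u) * gp⁻¹ by group, hyu,
          show gp * u * gp⁻¹ * (gp * y * gp⁻¹) = gp * (u * y) * gp⁻¹ by group, mul_neg, neg_mul]⟩
    obtain ⟨e, heR, hee, hea, heb⟩ := h4.exists_sep hi haR hbR haa hbb hab haA hne'.1 hne'.2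
    have h1 := sp.hm_div hNM hMS hne (sp.hm_conj hNM hMS hne hd (sp.root_dg hee heR)) hd
    have hae : a * e = -(e * a) := by rw [hea, neg_neg]
    have hea2 : e * a * (e * a) = -1 := by
      rw [mul_assoc, ← mul_assoc a, hae, neg_mul, mul_assoc, haa, mul_neg, mul_neg, mul_one, mul_neg, neg_neg, hee]
    refine sp.no_hm_anti hNM hMS hne (mul_mem heR haR) haR hea2 haa ?_ ?_
    · rw [← mul_assoc, hae, neg_mul]
    · have e1 : sc (cz hi h2) * rt h2 e hee * (rt h2 a haa * (rt h2 b hbb)⁻¹) * (sc (cz hi h2) * rt h2 e hee)⁻¹ *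
          (rt h2 a haa * (rt h2 b hbb)⁻¹)⁻¹ = rt h2 (e * a) hea2 * (rt h2 a haa)⁻¹ := by
        rw [conj_sc_mul, show rt h2 e hee * (rt h2 a haa * (rt h2 b hbb)⁻¹) * (rt h2 e hee)⁻¹ =
          rt h2 e hee * rt h2 a haa * (rt h2 e hee)⁻¹ * (rt h2 e hee * rt h2 b hbb * (rt h2 e hee)⁻¹)⁻¹ by group,
          rt_conj, rt_conj, rt_congr h2 (conj_sq haa) hea2 (rt_conj_anti h2 hee hae),
          rt_congr h2 (conj_sq hbb) hbb (rt_conj_comm h2 hee heb.symm)]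
        group
      rw [e1] at h1
      exact h1
  · exact sp.no_hm_anti hNM hMS hne haR hbR haa hbb (by rw [hab, neg_neg]) hd

theorem mem_of_bd {gp gm : GL I4 F} (hg : bd gp gm ∈ M) : bd gp gm ∈ subgroupNormalizer (R8 F) := by
  have h4 := (pauli_R4 (F := F) h2).toPre
  have h2p := (pauli_R2 (F := F) h2).toPre
  obtain ⟨c, r, hr, e⟩ := (pauli_R4 h2).signs _ (sp.ratio_signs hNM hMS hne hg)
  have hgp : gp = gm * (sc c * r) := by rw [← e, mul_inv_cancel_left]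
  have hgm := sp.right_mem hNM hMS hne hg
  suffices hc : c ^ 4 = 1 by
    rw [show bd gp gm = dg gm * bd (sc c * r) 1 by rw [dg_apply, bd_mul, ← hgp, mul_one]]
    exact mul_mem (dg_mem_normalizer h2 hgm) (bd_one_mem_normalizer h2 (mul_mem (h4.mu c hc) hr))
  obtain ⟨X, hX⟩ : ∃ X : GL I4 F, X = bd (1 : GL I2 F) (-1) := ⟨_, rfl⟩
  have hXR : X ∈ R4 F := hX ▸ bd_one_neg_mem_ext h2p
  have hXA : ∃ y ∈ R4 F, y * X = -(X * y) := ⟨sw, sw_mem_ext _, by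
    rw [hX, bd_sw, ← mul_neg, ← bd_neg, neg_neg]⟩
  obtain ⟨Y, hY, hYY, d, hd⟩ := h4.exists_sq_neg hi hXR
  have hYA : ∃ y ∈ R4 F, y * Y = -(Y * y) := by
    obtain ⟨y, hy, e⟩ := hXA
    exact ⟨y, hy, by rw [hd, ← mul_assoc, ← sc_comm, mul_assoc, e, mul_neg, mul_assoc]⟩
  have hYA' : ∃ y ∈ R4 F, y * (gm * Y * gm⁻¹) = -(gm * Y * gm⁻¹ * y) := by
    obtain ⟨y, hy, e⟩ := hYA
    refine ⟨gm * y * gm⁻¹, conj_mem_of_normalizer hgm hy, ?_⟩
    rw [show gm * y * gm⁻¹ * (gm * Y * gm⁻¹) = gm * (y * Y) * gm⁻¹ by group, e,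
      show gm * Y * gm⁻¹ * (gm * y * gm⁻¹) = gm * (Y * y) * gm⁻¹ by group, mul_neg, neg_mul]
  obtain ⟨t, ht, htY⟩ := h4.move sp.step_N4 hi (conj_mem_of_normalizer hgm hY) hY (conj_sq hYY) hYY hYA' hYA
  obtain ⟨n, hn⟩ : ∃ n, n = t * gm := ⟨_, rfl⟩
  have hm : bd (sc c * n) n ∈ M := by
    have h := mul_mem (hNM (sp.dg_mem ht)) (mul_mem hg (inv_mem (hNM (sp.bd_one_mem hr))))
    rw [bd_inv, bd_mul, inv_one, mul_one, dg_apply, bd_mul, hgp, ← mul_assoc gm, mul_inv_cancel_right,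
      ← sc_comm c gm, ← mul_assoc, ← sc_comm c t, mul_assoc, ← hn] at h
    exact h
  have hnY : n * Y * n⁻¹ = Y := by
    rw [hn, show t * gm * Y * (t * gm)⁻¹ = t * (gm * Y * gm⁻¹) * t⁻¹ by group]; exact htY
  have hnX : n.val * X.val = X.val * n.val := by
    have e : n * Y = Y * n := mul_inv_eq_iff_eq_mul.1 hnY
    rw [hd, ← mul_assoc, ← sc_comm, mul_assoc, mul_assoc] at e
    exact congrArg Units.val (mul_left_cancel e)
  obtain ⟨p, q, hpq⟩ : ∃ p q : GL I2 F, n = bd p q := by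
    have hz : ∀ A : Matrix I2 I2 F, A = -A → A = 0 := fun A hA => by
      have : (2 : F) • A = 0 := by rw [two_smul]; nth_rw 2 [hA]; exact add_neg_cancel A
      exact (smul_eq_zero.1 this).resolve_left h2
    rw [hX, ← n.val.fromBlocks_toBlocks] at hnX
    simp only [bd_val, Units.val_one, Units.val_neg, fromBlocks_multiply, fromBlocks_inj, mul_zero, zero_mul,
      mul_one, one_mul, mul_neg, neg_mul, add_zero, zero_add] at hnX
    have h12 := hz _ hnX.2.1.symm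
    have h21 := hz _ hnX.2.2.1
    have hu := n.isUnit
    rw [Matrix.isUnit_iff_isUnit_det, ← n.val.fromBlocks_toBlocks, h12, h21, det_fromBlocks_zero₂₁,
      IsUnit.mul_iff, ← Matrix.isUnit_iff_isUnit_det, ← Matrix.isUnit_iff_isUnit_det] at hu
    obtain ⟨⟨p, hp⟩, ⟨q, hq⟩⟩ := hu
    refine ⟨p, q, Units.ext ?_⟩
    rw [bd_val, hp, hq]
    nth_rw 1 [← n.val.fromBlocks_toBlocks]
    rw [h12, h21]
  rw [hpq, ← bd_sc (ι := I2) c, bd_mul] at hm
  have h1 := mul_mem (mul_mem (hNM sp.WW_mem') hm) (inv_mem (hNM sp.WW_mem'))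
  rw [WW_bd] at h1
  have h3 := conj_mem_of_normalizer (sp.left_mem hNM hMS hne h1) (sw_mem_ext (R2 F))
  rw [sw_conj_bd] at h3
  obtain ⟨-, h5⟩ := sw_bd_mem_ext h3
  rw [_root_.mul_inv_rev, ← mul_assoc p p⁻¹, mul_inv_cancel, one_mul, mul_inv_cancel_right] at h5
  rcases h5 with e | e
  · have : c = c⁻¹ := sc_inj (ι := I2) (by rw [map_inv]; exact e)
    rw [pow_four']; nth_rw 2 [this]; nth_rw 4 [this]; simp
  · have : c = -c⁻¹ := sc_inj (ι := I2) (by rw [← neg_one_mul (c⁻¹), map_mul, sc_neg_one, map_inv, neg_one_mul]; exact e)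
    have h' : c * c = -1 := by nth_rw 2 [this]; simp
    rw [pow_four', h']; simp

/-- The centraliser of the first involution. -/
theorem cent_first {g : GL I8 F} (hg : g ∈ M)
    (hgX : g * bd (1 : GL I4 F) (-1) * g⁻¹ = bd (1 : GL I4 F) (-1) ∨
      g * bd (1 : GL I4 F) (-1) * g⁻¹ = -bd (1 : GL I4 F) (-1)) : g ∈ subgroupNormalizer (R8 F) := by
  obtain ⟨X, hX⟩ : ∃ X : GL I8 F, X = bd (1 : GL I4 F) (-1) := ⟨_, rfl⟩
  rw [← hX] at hgX
  obtain ⟨s, hs, hsX⟩ : ∃ s ∈ subgroupNormalizer (R8 F) ⊓ S8, s * g * X * (s * g)⁻¹ = X := by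
    rcases hgX with e | e
    · exact ⟨1, one_mem _, by rw [one_mul, e]⟩
    · refine ⟨sw, sp.sw_mem, ?_⟩
      rw [show sw * g * X * (sw * g)⁻¹ = sw * (g * X * g⁻¹) * sw⁻¹ by group, e, mul_neg, neg_mul, hX, sw_inv,
        sw_bd_sw, ← bd_neg, neg_neg]
  obtain ⟨k, hk⟩ : ∃ k, k = s * g := ⟨_, rfl⟩
  have hkM : k ∈ M := hk ▸ mul_mem (hNM hs) hg
  suffices k ∈ subgroupNormalizer (R8 F) by
    rw [show g = s⁻¹ * k by rw [hk, inv_mul_cancel_left]]
    exact mul_mem (inv_mem hs.1) this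
  have hkX : k.val * X.val = X.val * k.val := by
    rw [← hk] at hsX
    exact congrArg Units.val (mul_inv_eq_iff_eq_mul.1 hsX)
  obtain ⟨p, q, hpq⟩ : ∃ p q : GL I4 F, k = bd p q := by
    have hz : ∀ A : Matrix I4 I4 F, A = -A → A = 0 := fun A hA => by
      have : (2 : F) • A = 0 := by rw [two_smul]; nth_rw 2 [hA]; exact add_neg_cancel A
      exact (smul_eq_zero.1 this).resolve_left h2
    rw [hX, ← k.val.fromBlocks_toBlocks] at hkX
    simp only [bd_val, Units.val_one, Units.val_neg, fromBlocks_multiply, fromBlocks_inj, mul_zero, zero_mul,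
      mul_one, one_mul, mul_neg, neg_mul, add_zero, zero_add] at hkX
    have h12 := hz _ hkX.2.1.symm
    have h21 := hz _ hkX.2.2.1
    have hu := k.isUnit
    rw [Matrix.isUnit_iff_isUnit_det, ← k.val.fromBlocks_toBlocks, h12, h21, det_fromBlocks_zero₂₁,
      IsUnit.mul_iff, ← Matrix.isUnit_iff_isUnit_det, ← Matrix.isUnit_iff_isUnit_det] at hu
    obtain ⟨⟨p, hp⟩, ⟨q, hq⟩⟩ := hu
    refine ⟨p, q, Units.ext ?_⟩
    rw [bd_val, hp, hq]
    nth_rw 1 [← k.val.fromBlocks_toBlocks]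
    rw [h12, h21]
  rw [hpq] at hkM ⊢
  exact sp.mem_of_bd hNM hMS hne hkM

end Spec

end Cfsg.Agent.Lib.ExtraEight
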