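import Cfsg.Agent.Lib.ExtraEight.Abstract
import Cfsg.Agent.Lib.ExtraEight.Local

/-!
The normaliser of the Pauli group on `F ^ 8` is a maximal subgroup.
-/

set_option autoImplicit false
set_option linter.unusedSectionVars false

namespace Cfsg.Agent.Lib.ExtraEight

open Matrix Cfsg Cfsg.Geo

variable {F : Type*} [Field F] [Finite F]

local notation "P₈" => GL I8 F ⧸ scalars I8 F
local notation "π" => QuotientGroup.mk' (scalars I8 F)

theorem sc_unit_ext {c d : Fˣ} (h : (c : F) = d) : c = d := Units.ext h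

theorem pi_sc (c : Fˣ) : π (sc c) = 1 := (QuotientGroup.eq_one_iff _).2 (sc_mem_scalars c)

theorem pi_sc_mul (c : Fˣ) (x : GL I8 F) : π (sc c * x) = π x := by rw [map_mul, pi_sc, one_mul]

theorem eq_sc_mul_of_pi {x y : GL I8 F} (h : π x = π y) : ∃ c : Fˣ, y = sc c * x := by
  obtain ⟨c, hc⟩ := (QuotientGroup.eq.1 h : x⁻¹ * y ∈ scalars I8 F)
  refine ⟨c, ?_⟩
  rw [sc_comm, show (sc c : GL I8 F) = x⁻¹ * y from hc, mul_inv_cancel_left]

theorem pi_neg (x : GL I8 F) : π (-x) = π x := by rw [← neg_one_mul, ← sc_neg_one, pi_sc_mul]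

theorem eq_or_neg_of_pi {x y : GL I8 F} (h : π x = π y) (hsq : x * x = y * y) : y = x ∨ y = -x := by
  obtain ⟨c, rfl⟩ := eq_sc_mul_of_pi h
  have e : sc c * x * (sc c * x) = sc (c * c) * (x * x) := by
    rw [show sc c * x * (sc c * x) = sc c * (x * sc c) * x by group, ← sc_comm, map_mul]; group
  rw [e, eq_comm, mul_eq_right] at hsq
  have hc : c * c = 1 := sc_inj (hsq.trans (map_one _).symm)
  rcases mul_self_eq_one_iff.1 (by simpa using congrArg Units.val hc : (c : F) * c = 1) with e | e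
  · left; rw [show c = 1 from Units.ext e, map_one, one_mul]
  · right; rw [show c = -1 from Units.ext (by simpa using e), sc_neg_one, neg_one_mul]

open Classical in
/-- The commutation form. -/
noncomputable def beta (x y : P₈) : ZMod 2 :=
  if ∃ a ∈ R8 F, ∃ b ∈ R8 F, π a = x ∧ π b = y ∧ a * b ≠ b * a then 1 else 0

open Classical in
theorem beta_pi {a b : GL I8 F} (ha : a ∈ R8 F) (hb : b ∈ R8 F) :
    beta (π a) (π b) = if a * b = b * a then 0 else 1 := by
  by_cases h : a * b = b * a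
  · rw [if_pos h, beta, if_neg]
    rintro ⟨a', -, b', -, ea, eb, hne⟩
    obtain ⟨c, rfl⟩ := eq_sc_mul_of_pi ea.symm
    obtain ⟨d, rfl⟩ := eq_sc_mul_of_pi eb.symm
    apply hne
    rw [show sc c * a * (sc d * b) = sc c * (a * sc d) * b by group, ← sc_comm d a,
      show sc d * b * (sc c * a) = sc d * (b * sc c) * a by group, ← sc_comm c b,
      show sc c * (sc d * a) * b = sc c * sc d * (a * b) by group,
      show sc d * (sc c * b) * a = sc d * sc c * (b * a) by group, h, sc_comm c (sc d)]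
  · rw [if_neg h, beta, if_pos ⟨a, ha, b, hb, rfl, rfl, h⟩]

theorem ne_of_anti (h2 : (2 : F) ≠ 0) {a b : GL I8 F} (h : a * b = -(b * a)) : a * b ≠ b * a :=
  fun e => neg_ne h2 (b * a) (e.symm.trans h)

theorem card_image (h2 : (2 : F) ≠ 0) {i : Fˣ} (hi : i * i = -1) : Nat.card ((R8 F).map π) = 64 := by
  have h8 := (pauli_R8 (F := F) h2).toPre
  let f : R8 F →* P₈ := (π).comp (R8 F).subtype
  have hr : f.range = (R8 F).map π := by rw [MonoidHom.range_comp, Subgroup.range_subtype]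
  let k : rootsOfUnity 4 F → f.ker := fun c => ⟨⟨sc (c : Fˣ), h8.mu _ ((mem_rootsOfUnity _ _).1 c.2)⟩, pi_sc _⟩
  have hk : Function.Bijective k := by
    refine ⟨fun c d e => Subtype.ext (sc_inj (congrArg (fun z : f.ker => ((z : R8 F) : GL I8 F)) e)), fun z => ?_⟩
    obtain ⟨⟨x, hx⟩, hz⟩ := z
    obtain ⟨c, hc⟩ := eq_sc_mul_of_pi (show π 1 = π x by rw [map_one]; exact hz.symm)
    rw [mul_one] at hc
    exact ⟨⟨c, (mem_rootsOfUnity _ _).2 (h8.sc_mem_of hx hc)⟩, Subtype.ext (Subtype.ext hc.symm)⟩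
  have hker : Nat.card f.ker = 4 := by
    have := card_mu h2 hi
    rw [mu, Nat.card_congr (Subgroup.equivMapOfInjective _ _ (fun d e he => sc_inj he)).toEquiv.symm] at this
    rw [← Nat.card_congr (Equiv.ofBijective k hk), this]
  have := Subgroup.card_mul_index f.ker
  rw [Subgroup.index_ker, hker, hr, card_R8 h2 hi] at this
  omega

/-- The first involution and its partner. -/
theorem exists_pair (h2 : (2 : F) ≠ 0) {i : Fˣ} (hi : i * i = -1) :
    ∃ a ∈ R8 F, ∃ b ∈ R8 F, a * a = -1 ∧ b * b = -1 ∧ b * a = -(a * b) := by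
  have h8 := (pauli_R8 (F := F) h2).toPre
  obtain ⟨X, hX⟩ : ∃ X : GL I8 F, X = bd (1 : GL I4 F) (-1) := ⟨_, rfl⟩
  have hXR : X ∈ R8 F := hX ▸ bd_one_neg_mem_ext (pauli_R4 h2).toPre
  have hsX : (sw : GL I8 F) * X = -(X * sw) := by
    rw [hX, bd_sw, ← mul_neg, ← bd_neg, neg_neg]
  obtain ⟨a, ha, haa, c, hc⟩ := h8.exists_sq_neg hi hXR
  obtain ⟨b, hb, hbb, hba⟩ := h8.exists_anti_sq hi
    (⟨sw, sw_mem_ext _, by rw [hc, ← mul_assoc, ← sc_comm, mul_assoc, hsX, mul_neg, mul_assoc]⟩ :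
      ∃ y ∈ R8 F, y * a = -(a * y))
  exact ⟨a, ha, b, hb, haa, hbb, hba⟩

namespace Spec

variable {h2 : (2 : F) ≠ 0} {i : Fˣ} {hi : i * i = -1} {S4 : Subgroup (GL I4 F)} {S8 : Subgroup (GL I8 F)}
  (sp : Spec h2 hi S4 S8)
include sp

theorem step_N8 (a : GL I8 F) (ha : a ∈ R8 F) (b : GL I8 F) (hb : b ∈ R8 F) (haa : a * a = -1) (hbb : b * b = -1)
    (hba : b * a = -(a * b)) : ∃ n ∈ subgroupNormalizer (R8 F) ⊓ S8, n * a * n⁻¹ = b := by
  obtain ⟨e, he⟩ : ∃ e, e = -(b * a) := ⟨_, rfl⟩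
  have h8 := (pauli_R8 (F := F) h2).toPre
  have heR : e ∈ R8 F := he ▸ h8.neg_mem (mul_mem hb ha)
  have hee : e * e = -1 := by
    rw [he, neg_mul_neg, mul_assoc, ← mul_assoc a, ← neg_neg (a * b), ← hba, neg_mul, mul_assoc, haa, mul_neg,
      mul_neg, mul_neg, mul_one, neg_neg, hbb]
  refine ⟨_, sp.root_mem hee heR, ?_⟩
  have ea : a * e = -(e * a) := by
    rw [he, mul_neg, neg_mul, neg_neg, ← mul_assoc, ← neg_neg (a * b), ← hba, neg_mul, neg_neg, mul_assoc]
  rw [conj_sc_mul, rt_conj_anti h2 hee ea, he, neg_mul, mul_assoc, haa, mul_neg, mul_one, neg_neg]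

variable {M : Subgroup (GL I8 F)} (hNM : subgroupNormalizer (R8 F) ⊓ S8 ≤ M) (hMS : M ≤ S8) (hne : M ≠ S8)
include hNM hMS hne

theorem fused : Fused (M.map π) ((subgroupNormalizer (R8 F) ⊓ S8).map π) ((R8 F).map π) := by
  classical
  have h8 := (pauli_R8 (F := F) h2).toPre
  have hnc : ∀ {x : GL I8 F}, x ∈ R8 F → π x ≠ 1 → ∃ y ∈ R8 F, y * x = -(x * y) := fun {x} hx hx1 =>
    (h8.scalar_or_anti hx).resolve_left fun ⟨c, hc⟩ => hx1 (hc ▸ pi_sc c)
  refine ⟨?_, Subgroup.map_mono hNM, ?_, ?_, card_image h2 hi, ?_, ?_, ?_, ?_, ?_, ?_⟩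
  · exact Subgroup.map_mono fun x hx => ⟨Subgroup.le_normalizer hx, sp.R8_le hx⟩
  · rintro _ ⟨a, ha, rfl⟩ _ ⟨b, hb, rfl⟩
    rcases h8.comm a ha b hb with e | e <;> rw [← map_mul, ← map_mul, e]
    rw [pi_neg]
  · rintro _ ⟨a, ha, rfl⟩
    rcases h8.sq a ha with e | e <;> rw [← map_mul, e]
    · rw [map_one]
    · rw [pi_neg, map_one]
  · rintro _ ⟨n, hn, rfl⟩ _ ⟨x, hx, rfl⟩
    exact ⟨_, conj_mem_of_normalizer hn.1 hx, by rw [map_mul, map_mul, map_inv]⟩
  · rintro _ ⟨n, hn, rfl⟩ hc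
    obtain ⟨c, r, hr, e⟩ := (pauli_R8 h2).signs n fun x hx => by
      have h := hc _ ⟨x, hx, rfl⟩
      refine eq_or_neg_of_pi (x := x) ?_ ?_
      · rw [map_mul, map_mul, map_inv, h, mul_inv_cancel_right]
      · rw [show n * x * n⁻¹ * (n * x * n⁻¹) = n * (x * x) * n⁻¹ by group]
        rcases h8.sq x hx with e | e <;> rw [e]
        · rw [mul_one, mul_inv_cancel]
        · rw [mul_neg, mul_one, neg_mul, mul_inv_cancel]
    exact ⟨r, hr, by rw [e, pi_sc_mul]⟩
  · rintro _ ⟨x, hx, rfl⟩ _ ⟨y, hy, rfl⟩ hx1 hy1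
    obtain ⟨x', hx', hxx, c, rfl⟩ := h8.exists_sq_neg hi hx
    obtain ⟨y', hy', hyy, d, rfl⟩ := h8.exists_sq_neg hi hy
    obtain ⟨n, hn, e⟩ := h8.move sp.step_N8 hi hx' hy' hxx hyy
      (hnc hx' (by rw [pi_sc_mul]; exact hx1)) (hnc hy' (by rw [pi_sc_mul]; exact hy1))
    refine ⟨π n, ⟨n, hn, rfl⟩, ?_⟩
    have := congrArg π e
    rwa [map_mul, map_mul, map_inv, pi_sc_mul, pi_sc_mul] at this
  · rintro _ ⟨x, hx, rfl⟩ hx1 _ ⟨g, hg, rfl⟩ hgx
    refine ⟨g, ⟨?_, hMS hg⟩, rfl⟩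
    obtain ⟨X, hX⟩ : ∃ X : GL I8 F, X = bd (1 : GL I4 F) (-1) := ⟨_, rfl⟩
    have hXR : X ∈ R8 F := hX ▸ bd_one_neg_mem_ext (pauli_R4 h2).toPre
    have hsX : (sw : GL I8 F) * X = -(X * sw) := by rw [hX, bd_sw, ← mul_neg, ← bd_neg, neg_neg]
    have hX1 : π X ≠ 1 := fun e => by
      obtain ⟨c, hc⟩ := eq_sc_mul_of_pi (show π 1 = π X by rw [map_one, e])
      rw [mul_one] at hc
      exact ne_of_anti h2 hsX (by rw [hc]; exact (sc_comm c _).symm)
    obtain ⟨x', hx', hxx, c, rfl⟩ := h8.exists_sq_neg hi hx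
    obtain ⟨X', hX', hXX, d, hd⟩ := h8.exists_sq_neg hi hXR
    obtain ⟨n, hn, e⟩ := h8.move sp.step_N8 hi hx' hX' hxx hXX (hnc hx' (by rw [pi_sc_mul]; exact hx1))
      (hnc hX' (by rw [hd, pi_sc_mul]; exact hX1))
    have e1 : π n * π x * (π n)⁻¹ = π X := by
      have := congrArg π e
      rwa [map_mul, map_mul, map_inv, hd, pi_sc_mul, pi_sc_mul] at this
    have hk : n * g * n⁻¹ ∈ M := mul_mem (mul_mem (hNM hn) hg) (inv_mem (hNM hn))
    have := sp.cent_first hNM hMS hne hk (by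
      refine hX ▸ eq_or_neg_of_pi (x := X) ?_ ?_
      · simp only [map_mul, map_inv]
        rw [← e1]
        calc π n * π x * (π n)⁻¹ = π n * (π g * π x * (π g)⁻¹) * (π n)⁻¹ := by rw [hgx, mul_inv_cancel_right]
          _ = _ := by group
      · have hXX' : X * X = 1 := by rw [hX, bd_mul, neg_mul_neg, one_mul, bd_one]
        rw [show n * g * n⁻¹ * X * (n * g * n⁻¹)⁻¹ * (n * g * n⁻¹ * X * (n * g * n⁻¹)⁻¹) =
          n * g * n⁻¹ * (X * X) * (n * g * n⁻¹)⁻¹ by group, hXX', mul_one, mul_inv_cancel])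
    have h' := (subgroupNormalizer (R8 F)).mul_mem ((subgroupNormalizer (R8 F)).mul_mem
      ((subgroupNormalizer (R8 F)).inv_mem hn.1) this) hn.1
    rwa [show n⁻¹ * (n * g * n⁻¹) * n = g by group] at h'
  · refine ⟨beta, ?_, ?_, ?_, ?_⟩
    · rintro _ ⟨x, hx, rfl⟩ hall
      obtain ⟨c, hc⟩ := h8.cent x.val fun y hy => by
        have := hall _ ⟨y, hy, rfl⟩
        rw [beta_pi hy hx] at this
        split_ifs at this with e
        · rw [← Units.val_mul, ← Units.val_mul, e]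
        · exact absurd this (by decide)
      have hc0 : c ≠ 0 := fun h0 => x.ne_zero (by rw [hc, h0, zero_smul])
      have : x = sc (Units.mk0 c hc0) := Units.ext (by rw [hc, sc_val, Units.val_mk0])
      rw [this, pi_sc]
    · rintro _ ⟨x, hx, rfl⟩ _ ⟨y, hy, rfl⟩ _ ⟨z, hz, rfl⟩
      rw [← map_mul, beta_pi (mul_mem hx hy) hz, beta_pi hx hz, beta_pi hy hz]
      rcases h8.comm x hx z hz with e | e <;> rcases h8.comm y hy z hz with e' | e'
      · rw [if_pos e, if_pos e', if_pos (by rw [mul_assoc, e', ← mul_assoc, e, mul_assoc]), add_zero]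
      · rw [if_pos e, if_neg (ne_of_anti h2 e'), if_neg (ne_of_anti h2
          (by rw [mul_assoc, e', mul_neg, ← mul_assoc, e, mul_assoc])), zero_add]
      · rw [if_neg (ne_of_anti h2 e), if_pos e', if_neg (ne_of_anti h2
          (by rw [mul_assoc, e', ← mul_assoc, e, neg_mul, mul_assoc])), add_zero]
      · rw [if_neg (ne_of_anti h2 e), if_neg (ne_of_anti h2 e'),
          if_pos (by rw [mul_assoc, e', mul_neg, ← mul_assoc, e, neg_mul, neg_neg, mul_assoc])]
        decide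
    · rintro _ ⟨x, hx, rfl⟩ _ ⟨y, hy, rfl⟩ _ ⟨z, hz, rfl⟩
      rw [← map_mul, beta_pi hx (mul_mem hy hz), beta_pi hx hy, beta_pi hx hz]
      rcases h8.comm x hx y hy with e | e <;> rcases h8.comm x hx z hz with e' | e'
      · rw [if_pos e, if_pos e', if_pos (by rw [← mul_assoc, e, mul_assoc, e', mul_assoc]), add_zero]
      · rw [if_pos e, if_neg (ne_of_anti h2 e'), if_neg (ne_of_anti h2
          (by rw [← mul_assoc, e, mul_assoc, e', mul_neg, mul_assoc])), zero_add]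
      · rw [if_neg (ne_of_anti h2 e), if_pos e', if_neg (ne_of_anti h2
          (by rw [← mul_assoc, e, neg_mul, mul_assoc, e', mul_assoc])), add_zero]
      · rw [if_neg (ne_of_anti h2 e), if_neg (ne_of_anti h2 e'),
          if_pos (by rw [← mul_assoc, e, neg_mul, mul_assoc, e', mul_neg, neg_neg, mul_assoc])]
        decide
    · rintro _ ⟨n, hn, rfl⟩ _ ⟨x, hx, rfl⟩ _ ⟨y, hy, rfl⟩
      simp only [← map_inv, ← map_mul]
      rw [beta_pi (conj_mem_of_normalizer hn.1 hx) (conj_mem_of_normalizer hn.1 hy), beta_pi hx hy]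
      refine if_congr ?_ rfl rfl
      rw [show n * x * n⁻¹ * (n * y * n⁻¹) = n * (x * y) * n⁻¹ by group,
        show n * y * n⁻¹ * (n * x * n⁻¹) = n * (y * x) * n⁻¹ by group, mul_left_inj, mul_right_inj]
  · rintro _ ⟨n, hn, rfl⟩ hnR hn2
    obtain ⟨f, hf⟩ : ∃ f : P₈ → P₈, ∀ x, f x = x * (π n * x * (π n)⁻¹) := ⟨_, fun x => rfl⟩
    have hRn : ∀ {x : P₈}, x ∈ (R8 F).map π → π n * x * (π n)⁻¹ ∈ (R8 F).map π := by
      rintro _ ⟨x, hx, rfl⟩
      exact ⟨_, conj_mem_of_normalizer hn.1 hx, by rw [map_mul, map_mul, map_inv]⟩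
    have hcomm : ∀ {x y : P₈}, x ∈ (R8 F).map π → y ∈ (R8 F).map π → x * y = y * x := by
      rintro _ _ ⟨a, ha, rfl⟩ ⟨b, hb, rfl⟩
      rcases h8.comm a ha b hb with e | e <;> rw [← map_mul, ← map_mul, e]
      rw [pi_neg]
    have hsq : ∀ {x : P₈}, x ∈ (R8 F).map π → x * x = 1 := by
      rintro _ ⟨a, ha, rfl⟩
      rcases h8.sq a ha with e | e <;> rw [← map_mul, e]
      · rw [map_one]
      · rw [pi_neg, map_one]
    have hnn : ∀ x : P₈, π n * (π n * x * (π n)⁻¹) * (π n)⁻¹ = x := fun x => by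
      rw [show π n * (π n * x * (π n)⁻¹) * (π n)⁻¹ = π n * π n * x * (π n * π n)⁻¹ by group, hn2]; group
    have hfix : ∀ {x : P₈}, x ∈ (R8 F).map π → π n * f x * (π n)⁻¹ = f x := fun {x} hx => by
      rw [hf, show π n * (x * (π n * x * (π n)⁻¹)) * (π n)⁻¹ =
        π n * x * (π n)⁻¹ * (π n * (π n * x * (π n)⁻¹) * (π n)⁻¹) by group, hnn, hcomm (hRn hx) hx]
    have hfR : ∀ {x : P₈}, x ∈ (R8 F).map π → f x ∈ (R8 F).map π := fun {x} hx => by
      rw [hf]; exact mul_mem hx (hRn hx)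
    have hf1 : ∀ {x : P₈}, x ∈ (R8 F).map π → (f x = 1 ↔ π n * x * (π n)⁻¹ = x) := fun {x} hx => by
      rw [hf, mul_eq_one_iff_eq_inv, ← inv_eq_iff_eq_inv, inv_eq_of_mul_eq_one_right (hsq hx), eq_comm]
    obtain ⟨x, hx, hfx⟩ : ∃ x ∈ (R8 F).map π, f x ≠ 1 := by
      by_contra hc
      push Not at hc
      apply hnR
      obtain ⟨c, r, hr, e⟩ := (pauli_R8 h2).signs n fun x hx => by
        have h := (hf1 ⟨x, hx, rfl⟩).1 (hc _ ⟨x, hx, rfl⟩)
        refine eq_or_neg_of_pi (x := x) ?_ ?_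
        · simp only [map_mul, map_inv]; exact h.symm
        · rw [show n * x * n⁻¹ * (n * x * n⁻¹) = n * (x * x) * n⁻¹ by group]
          rcases h8.sq x hx with e | e <;> rw [e]
          · rw [mul_one, mul_inv_cancel]
          · rw [mul_neg, mul_one, neg_mul, mul_inv_cancel]
      exact ⟨r, hr, by rw [e, pi_sc_mul]⟩
    obtain ⟨x', hx', h1, h3, h4, h5⟩ : ∃ x' ∈ (R8 F).map π, x' ≠ 1 ∧ x' ≠ f x ∧ x' ≠ x ∧ x' ≠ x * f x := by
      by_contra hc
      push Not at hc
      have hle : ((R8 F).map π : Set P₈) ⊆ ({1, f x, x, x * f x} : Finset P₈) := by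
        intro z hz
        simp only [Finset.coe_insert, Finset.coe_singleton, Set.mem_insert_iff, Set.mem_singleton_iff]
        by_contra hz'
        push Not at hz'
        exact hz'.2.2.2 (hc z hz hz'.1 hz'.2.1 hz'.2.2.1)
      have := Set.ncard_le_ncard hle
      rw [Set.ncard_coe_finset, ← Nat.card_coe_set_eq, SetLike.coe_sort_coe, card_image h2 hi] at this
      have h4 : ({1, f x, x, x * f x} : Finset P₈).card ≤ 4 := Finset.card_le_four
      omega
    obtain ⟨q, hq, hqf, hq1, hqp⟩ : ∃ q ∈ (R8 F).map π, π n * q * (π n)⁻¹ = q ∧ q ≠ 1 ∧ q ≠ f x := by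
      by_cases e1 : f x' = 1
      · exact ⟨x', hx', (hf1 hx').1 e1, h1, h3⟩
      by_cases e2 : f x' = f x
      · refine ⟨x' * x, mul_mem hx' hx, ?_, fun e => h4 ?_, fun e => h5 ?_⟩
        · have a1 : π n * x * (π n)⁻¹ = x * f x := by rw [hf, ← mul_assoc, hsq hx, one_mul]
          have a2 : π n * x' * (π n)⁻¹ = x' * f x := by rw [← e2, hf, ← mul_assoc, hsq hx', one_mul]
          rw [show π n * (x' * x) * (π n)⁻¹ = π n * x' * (π n)⁻¹ * (π n * x * (π n)⁻¹) by group, a1, a2,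
            show x' * f x * (x * f x) = x' * (f x * x) * f x by group, hcomm (hfR hx) hx,
            show x' * (x * f x) * f x = x' * x * (f x * f x) by group, hsq (hfR hx), mul_one]
        · rw [eq_inv_of_mul_eq_one_left e, inv_eq_of_mul_eq_one_right (hsq hx)]
        · rw [← e, show x * (x' * x) = x * x' * x by group, hcomm hx hx', mul_assoc, hsq hx, mul_one]
      · exact ⟨f x', hfR hx', hfix hx', e1, e2⟩
    -- lifts
    obtain ⟨p0, hp0, hp⟩ := hfR hx
    obtain ⟨q0, hq0, hq'⟩ := hq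
    have hpf := hfix hx
    rw [← hp] at hpf hfx hqp
    rw [← hq'] at hqf hq1 hqp
    have hsign : ∀ {v : GL I8 F}, v ∈ R8 F → π n * π v * (π n)⁻¹ = π v → n * v * n⁻¹ = v ∨ n * v * n⁻¹ = -v := by
      intro v hv e
      refine eq_or_neg_of_pi (x := v) (by simp only [map_mul, map_inv]; exact e.symm) ?_
      rw [show n * v * n⁻¹ * (n * v * n⁻¹) = n * (v * v) * n⁻¹ by group]
      rcases h8.sq v hv with e | e <;> rw [e]
      · rw [mul_one, mul_inv_cancel]
      · rw [mul_neg, mul_one, neg_mul, mul_inv_cancel]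
    obtain ⟨v0, hv0, hv1, hvn⟩ : ∃ v ∈ R8 F, π v ≠ 1 ∧ n * v * n⁻¹ = v := by
      rcases hsign hp0 hpf with e | e
      · exact ⟨p0, hp0, hfx, e⟩
      rcases hsign hq0 hqf with e' | e'
      · exact ⟨q0, hq0, hq1, e'⟩
      refine ⟨p0 * q0, mul_mem hp0 hq0, fun h => hqp ?_, ?_⟩
      · rw [map_mul] at h
        rw [← inv_eq_of_mul_eq_one_right h]
        exact inv_eq_of_mul_eq_one_right (hsq ⟨p0, hp0, rfl⟩)
      · rw [show n * (p0 * q0) * n⁻¹ = n * p0 * n⁻¹ * (n * q0 * n⁻¹) by group, e, e', neg_mul_neg]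
    obtain ⟨v, hv, hvv, c, rfl⟩ := h8.exists_sq_neg hi hv0
    have hvn' : n * (sc c * v0) * n⁻¹ = sc c * v0 := by
      rw [← mul_assoc n, ← sc_comm, mul_assoc (sc c) n, mul_assoc (sc c), hvn]
    refine ⟨π v0, ⟨v0, hv0, rfl⟩, hv1, ?_, π (sc (cz hi h2) * rt h2 _ hvv),
      ⟨_, sp.root_mem hvv hv, rfl⟩, ?_, ?_⟩
    · rw [← map_mul, ← map_mul, mul_inv_eq_iff_eq_mul.1 hvn]
    · rw [pi_sc_mul, ← map_mul, ← map_mul, rt_comm h2 hvv (mul_inv_eq_iff_eq_mul.1 hvn')]
    · rw [pi_sc_mul, ← map_mul, rt_sq, pi_sc_mul, pi_sc_mul]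

theorem eq_normalizer : M = subgroupNormalizer (R8 F) ⊓ S8 := by
  classical
  have h8 := (pauli_R8 (F := F) h2).toPre
  have h := sp.fused hNM hMS hne
  obtain ⟨a, ha, b, hb, haa, hbb, hba⟩ := exists_pair (F := F) h2 hi
  have hab : a * b = -(b * a) := by rw [hba, neg_neg]
  obtain ⟨J, hJ⟩ : ∃ J, J = sc (cz hi h2) * rt h2 a haa * b := ⟨_, rfl⟩
  have hJN : J ∈ subgroupNormalizer (R8 F) ⊓ S8 :=
    hJ ▸ mul_mem (sp.root_mem haa ha) ⟨Subgroup.le_normalizer hb, sp.R8_le hb⟩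
  have hj : π J ∈ (subgroupNormalizer (R8 F) ⊓ S8).map π := ⟨J, hJN, rfl⟩
  have hact : ∀ {x : GL I8 F}, x ∈ R8 F →
      (x * a = a * x → π (J * x * J⁻¹) = π x) ∧ (x * a = -(a * x) → π (J * x * J⁻¹) = π (a * x)) := by
    intro x hx
    have hb' : b * x * b⁻¹ = x ∨ b * x * b⁻¹ = -x := by
      rcases h8.comm b hb x hx with e | e
      · left; rw [e, mul_inv_cancel_right]
      · right; rw [e, neg_mul, mul_inv_cancel_right]
    have e0 : π (J * x * J⁻¹) = π (rt h2 a haa * x * (rt h2 a haa)⁻¹) := by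
      rw [hJ, show sc (cz hi h2) * rt h2 a haa * b * x * (sc (cz hi h2) * rt h2 a haa * b)⁻¹ =
        sc (cz hi h2) * rt h2 a haa * (b * x * b⁻¹) * (sc (cz hi h2) * rt h2 a haa)⁻¹ by group, conj_sc_mul]
      rcases hb' with e | e <;> rw [e]
      rw [mul_neg, neg_mul, pi_neg]
    exact ⟨fun e => by rw [e0, rt_conj_comm h2 haa e], fun e => by rw [e0, rt_conj_anti h2 haa e]⟩
  have hjR : π J ∉ (R8 F).map π := by
    intro hh
    have h1 : π J * π b * (π J)⁻¹ = π b := by rw [h.comm _ hh _ ⟨b, hb, rfl⟩, mul_inv_cancel_right]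
    rw [← map_inv, ← map_mul, ← map_mul, (hact hb).2 hba, map_mul] at h1
    have : π a = 1 := mul_eq_right.1 h1
    obtain ⟨c, hc⟩ := eq_sc_mul_of_pi (show π 1 = π a by rw [map_one, this])
    rw [mul_one] at hc
    exact ne_of_anti h2 hab (by rw [hc]; exact sc_comm c b)
  have hj2 : π J * π J = 1 := by
    have e : rt h2 a haa * (b * rt h2 a haa * b⁻¹) = sc (Units.mk0 2 h2) := by
      have eb : b * a * b⁻¹ = -a := by rw [hba, neg_mul, mul_inv_cancel_right]
      rw [rt_conj, rt_congr h2 (conj_sq haa) (show -a * -a = -1 by rw [neg_mul_neg, haa]) eb]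
      refine Units.ext ?_
      have e : a.val * a.val = -1 := by rw [← Units.val_mul, haa]; simp
      rw [Units.val_mul, rt_val, rt_val, sc_val, Units.val_mk0, Units.val_neg, Matrix.add_mul, Matrix.mul_add,
        Matrix.mul_add, mul_neg, mul_neg, e, one_mul, one_mul, mul_one, two_smul]
      abel
    rw [← map_mul, hJ, show sc (cz hi h2) * rt h2 a haa * b * (sc (cz hi h2) * rt h2 a haa * b) =
      sc (cz hi h2) * rt h2 a haa * (b * sc (cz hi h2)) * rt h2 a haa * b by group, ← sc_comm,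
      show sc (cz hi h2) * rt h2 a haa * (sc (cz hi h2) * b) * rt h2 a haa * b =
      sc (cz hi h2) * (rt h2 a haa * sc (cz hi h2)) * (b * rt h2 a haa * b⁻¹) * (b * b) by group, ← sc_comm, hbb,
      show sc (cz hi h2) * (sc (cz hi h2) * rt h2 a haa) * (b * rt h2 a haa * b⁻¹) * -1 =
      sc (cz hi h2) * (sc (cz hi h2) * (rt h2 a haa * (b * rt h2 a haa * b⁻¹))) * -1 by group, e, mul_neg, mul_one,
      pi_neg, pi_sc_mul, pi_sc_mul, pi_sc]
  have hker : Nat.card (h.cm hj).ker = 32 := by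
    have hzA : π a ∈ (R8 F).map π := ⟨a, ha, rfl⟩
    obtain ⟨β, hβ⟩ : ∃ β, β = beta (F := F) := ⟨_, rfl⟩
    let χ : ((R8 F).map π) →* Multiplicative (ZMod 2) :=
      { toFun := fun r => Multiplicative.ofAdd (β (π a) r)
        map_one' := by
          rw [← ofAdd_zero, hβ]
          congr 1
          rw [show (((1 : (R8 F).map π)) : P₈) = π 1 by rw [OneMemClass.coe_one, map_one], beta_pi ha (one_mem _),
            if_pos (by rw [mul_one, one_mul])]
        map_mul' := by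
          rintro ⟨_, x, hx, rfl⟩ ⟨_, y, hy, rfl⟩
          rw [← ofAdd_add]
          congr 1
          show β (π a) (π x * π y) = β (π a) (π x) + β (π a) (π y)
          rw [hβ, ← map_mul, beta_pi ha (mul_mem hx hy), beta_pi ha hx, beta_pi ha hy]
          rcases h8.comm a ha x hx with e | e <;> rcases h8.comm a ha y hy with e' | e'
          · rw [if_pos e, if_pos e', if_pos (by rw [← mul_assoc, e, mul_assoc, e', mul_assoc]), add_zero]
          · rw [if_pos e, if_neg (ne_of_anti h2 e'), if_neg (ne_of_anti h2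
              (by rw [← mul_assoc, e, mul_assoc, e', mul_neg, mul_assoc])), zero_add]
          · rw [if_neg (ne_of_anti h2 e), if_pos e', if_neg (ne_of_anti h2
              (by rw [← mul_assoc, e, neg_mul, mul_assoc, e', mul_assoc])), add_zero]
          · rw [if_neg (ne_of_anti h2 e), if_neg (ne_of_anti h2 e'),
              if_pos (by rw [← mul_assoc, e, neg_mul, mul_assoc, e', mul_neg, neg_neg, mul_assoc])]
            decide }
    have hχ : (h.cm hj).ker = χ.ker := by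
      ext ⟨_, x, hx, rfl⟩
      rw [h.mem_ker, MonoidHom.mem_ker]
      show π x * π J = π J * π x ↔ Multiplicative.ofAdd (β (π a) (π x)) = 1
      rw [hβ, beta_pi ha hx, eq_comm (a := π x * π J), ← mul_inv_eq_iff_eq_mul, ← map_inv, ← map_mul, ← map_mul,
        ofAdd_eq_one]
      rcases h8.comm x hx a ha with e | e
      · rw [(hact hx).1 e, if_pos e.symm]
        exact ⟨fun _ => rfl, fun _ => rfl⟩
      · rw [(hact hx).2 e, if_neg (fun e' => ne_of_anti h2 e e'.symm)]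
        refine ⟨fun h1 => absurd ?_ (ne_of_anti h2 hab), fun h1 => absurd h1 (by decide)⟩
        rw [map_mul, mul_eq_right] at h1
        obtain ⟨c, hc⟩ := eq_sc_mul_of_pi (show π 1 = π a by rw [map_one, h1])
        rw [mul_one] at hc
        rw [hc]; exact sc_comm c b
    have hsurj : χ.range = ⊤ := by
      rw [MonoidHom.range_eq_top]
      intro z
      have hz : z = 1 ∨ z = Multiplicative.ofAdd 1 := by revert z; decide
      rcases hz with rfl | rfl
      · exact ⟨1, map_one _⟩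
      · refine ⟨⟨π b, b, hb, rfl⟩, ?_⟩
        show Multiplicative.ofAdd (β (π a) (π b)) = _
        rw [hβ, beta_pi ha hb, if_neg (ne_of_anti h2 hab)]
    have := Subgroup.card_mul_index χ.ker
    rw [Subgroup.index_ker, hsurj, Subgroup.card_top, h.card] at this
    rw [Nat.card_congr Multiplicative.toAdd, Nat.card_zmod] at this
    rw [hχ]
    omega
  have hle := h.le ⟨π J, hj, hjR, hj2, hker⟩
  refine le_antisymm (fun m hm => ⟨?_, hMS hm⟩) hNM
  obtain ⟨n, hn, e⟩ := hle ⟨m, hm, rfl⟩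
  obtain ⟨c, rfl⟩ := eq_sc_mul_of_pi e
  exact mul_mem (sc_mem_normalizer _ _) hn.1

omit hNM hMS hne in
/-- The normaliser is a maximal subgroup. -/
theorem isMaximalIn : IsMaximalIn S8 (subgroupNormalizer (R8 F) ⊓ S8) := by
  refine ⟨lt_of_le_of_ne inf_le_right fun hEq => ?_, fun M hNM hMS => ?_⟩
  · have h4 := (pauli_R4 (F := F) h2).toPre
    refine ne_of_lt sp.max4.1 (le_antisymm inf_le_right fun a ha => ⟨?_, ha⟩)
    have hN : bd a (1 : GL I4 F) ∈ subgroupNormalizer (R8 F) ⊓ S8 := by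
      rw [hEq]; exact sp.bd_mem _ ha _ (one_mem _)
    refine mem_normalizer_of fun x hx => ?_
    have h := conj_mem_of_normalizer hN.1 (dg_mem_ext hx)
    rw [dg_apply, bd_inv, bd_mul, bd_mul, inv_one, mul_one, one_mul] at h
    exact (bd_mem_ext h).1
  · by_cases hne : M = S8
    · exact Or.inr hne
    · exact Or.inl (sp.eq_normalizer hNM hMS hne)

end Spec

end Cfsg.Agent.Lib.ExtraEight
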