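import Cfsg.Agent.Lib.ExtraEight.Roots

/-!
The groups of Pauli type on `F ^ 4` and `F ^ 8`.
-/

set_option autoImplicit false
set_option linter.unusedSectionVars false

namespace Cfsg.Agent.Lib.ExtraEight

open Matrix Cfsg Cfsg.Geo

/-- Indices for one qubit. -/
abbrev I2 : Type := Fin 1 ⊕ Fin 1
/-- Indices for two qubits. -/
abbrev I4 : Type := I2 ⊕ I2
/-- Indices for three qubits. -/
abbrev I8 : Type := I4 ⊕ I4

variable (F : Type*) [Field F]

/-- The group on `F ^ 2`. -/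
def R2 : Subgroup (GL I2 F) := ext (mu (Fin 1) F)
/-- The group on `F ^ 4`. -/
def R4 : Subgroup (GL I4 F) := ext (R2 F)
/-- The group on `F ^ 8`. -/
def R8 : Subgroup (GL I8 F) := ext (R4 F)

variable {F} {ι : Type} [Fintype ι] [DecidableEq ι]

theorem pauli_R2 (h2 : (2 : F) ≠ 0) : Pauli (R2 F) := pauli_mu.ext' h2
theorem pauli_R4 (h2 : (2 : F) ≠ 0) : Pauli (R4 F) := (pauli_R2 h2).ext' h2
theorem pauli_R8 (h2 : (2 : F) ≠ 0) : Pauli (R8 F) := (pauli_R4 h2).ext' h2

theorem bd_mem_ext [Nonempty ι] {R : Subgroup (GL ι F)} {a b : GL ι F} (h : bd a b ∈ ext R) :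
    a ∈ R ∧ (b = a ∨ b = -a) := by
  obtain ⟨c, hc, d, hd, hcd, e | e⟩ := h
  · obtain ⟨rfl, rfl⟩ := bd_inj e; exact ⟨hc, hcd⟩
  · exact absurd e (bd_ne_sw_bd a b c d)

theorem sw_bd_mem_ext [Nonempty ι] {R : Subgroup (GL ι F)} {a b : GL ι F} (h : sw * bd a b ∈ ext R) :
    a ∈ R ∧ (b = a ∨ b = -a) := by
  have := mul_mem (sw_mem_ext R) h
  rw [← mul_assoc, sw_sq, one_mul] at this
  exact bd_mem_ext this

theorem mem_ext_of {R : Subgroup (GL ι F)} (h : Pre R) {a b : GL ι F} (ha : a ∈ R) (hab : b = a ∨ b = -a) :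
    bd a b ∈ ext R :=
  ⟨a, ha, b, by rcases hab with rfl | rfl; exacts [ha, h.neg_mem ha], hab, Or.inl rfl⟩

/-- An extension is generated by the two involutions and the diagonal. -/
theorem ext_le {R : Subgroup (GL ι F)} {S : Subgroup (GL (ι ⊕ ι) F)} (hs : sw ∈ S)
    (hX : bd (1 : GL ι F) (-1) ∈ S) (hd : ∀ a ∈ R, dg a ∈ S) : ext R ≤ S := by
  rintro g ⟨a, ha, b, hb, hab, hg⟩
  have h1 : bd a b ∈ S := by
    rcases hab with rfl | rfl
    · exact hd _ ha
    · have e : bd a (-a) = bd (1 : GL ι F) (-1) * dg a := by rw [dg_apply, bd_mul, one_mul, neg_one_mul]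
      rw [e]; exact mul_mem hX (hd _ ha)
  rcases hg with rfl | rfl
  · exact h1
  · exact mul_mem hs h1

theorem card_ext [Finite F] [Nonempty ι] (h2 : (2 : F) ≠ 0) {R : Subgroup (GL ι F)} (h : Pre R) :
    Nat.card (ext R) = 4 * Nat.card R := by
  let f : Bool × Bool × R → ext R := fun p =>
    ⟨(if p.1 then sw else 1) * bd (p.2.2 : GL ι F) (if p.2.1 then -(p.2.2 : GL ι F) else p.2.2), by
      refine mul_mem ?_ (mem_ext_of h p.2.2.2 (by cases p.2.1 <;> simp))
      cases p.1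
      · exact one_mem _
      · exact sw_mem_ext R⟩
  have hf : Function.Bijective f := by
    refine ⟨fun p q e => ?_, fun g => ?_⟩
    · obtain ⟨s, t, a, ha⟩ := p
      obtain ⟨s', t', a', ha'⟩ := q
      have e' := congrArg Subtype.val e
      simp only [f] at e'
      cases s <;> cases s' <;> simp only [Bool.false_eq_true, if_false, if_true, one_mul] at e'
      · obtain ⟨rfl, e2⟩ := bd_inj e'
        cases t <;> cases t' <;> simp only [Bool.false_eq_true, if_false, if_true] at e2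
        · rfl
        · exact absurd e2 (neg_ne h2 a)
        · exact absurd e2.symm (neg_ne h2 a)
        · rfl
      · exact absurd e' (bd_ne_sw_bd _ _ _ _)
      · exact absurd e'.symm (bd_ne_sw_bd _ _ _ _)
      · obtain ⟨rfl, e2⟩ := bd_inj (mul_left_cancel e')
        cases t <;> cases t' <;> simp only [Bool.false_eq_true, if_false, if_true] at e2
        · rfl
        · exact absurd e2 (neg_ne h2 a)
        · exact absurd e2.symm (neg_ne h2 a)
        · rfl
    · obtain ⟨g, a, ha, b, hb, hab, hg⟩ := g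
      rcases hg with rfl | rfl <;> rcases hab with rfl | rfl
      · exact ⟨(false, false, ⟨_, ha⟩), Subtype.ext (by simp [f])⟩
      · exact ⟨(false, true, ⟨_, ha⟩), Subtype.ext (by simp [f])⟩
      · exact ⟨(true, false, ⟨_, ha⟩), Subtype.ext (by simp [f])⟩
      · exact ⟨(true, true, ⟨_, ha⟩), Subtype.ext (by simp [f])⟩
  rw [← Nat.card_congr (Equiv.ofBijective f hf), Nat.card_prod, Nat.card_prod]
  simp [Nat.card_eq_fintype_card]
  omega

theorem sc_inj [Nonempty ι] {d e : Fˣ} (h : (sc d : GL ι F) = sc e) : d = e := Units.ext (by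
  obtain ⟨j⟩ := ‹Nonempty ι›
  have := congrArg (fun g : GL ι F => g.val j j) h
  simpa [sc_val] using this)

theorem card_mu [Finite F] (h2 : (2 : F) ≠ 0) {i : Fˣ} (hi : i * i = -1) : Nat.card (mu (Fin 1) F) = 4 := by
  classical
  haveI := Fintype.ofFinite F
  rw [mu, Nat.card_congr (Subgroup.equivMapOfInjective _ _ (fun d e he => sc_inj he)).toEquiv.symm]
  refine le_antisymm (card_rootsOfUnity F 4) ?_
  rw [Nat.card_eq_fintype_card]
  have h1 : (1 : Fˣ) ≠ -1 := fun e => h2 (by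
    have := congrArg Units.val e
    simp at this
    linear_combination this)
  have hi4 : i ^ 4 = 1 := by rw [pow_four', hi]; simp
  have hi1 : i ≠ 1 := fun e => h1 (by rw [← hi, e, one_mul])
  have hi2 : i ≠ -1 := fun e => h1 (by rw [← hi, e]; simp)
  have hi3 : i ≠ -i := fun e => h1 (by
    have := congrArg (fun x => x * i⁻¹) e
    simpa using this)
  have hT : ({⟨1, by simp⟩, ⟨-1, by simp [mem_rootsOfUnity, Even.neg_one_pow (by norm_num : Even 4)]⟩,
      ⟨i, hi4⟩, ⟨-i, by rw [mem_rootsOfUnity, Even.neg_pow (by norm_num : Even 4), hi4]⟩} :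
        Finset (rootsOfUnity 4 F)).card = 4 := by
    have hi5 : (-i : Fˣ) ≠ 1 := fun e => hi2 (by rw [← e, neg_neg])
    have hi6 : (-i : Fˣ) ≠ -1 := fun e => hi1 (neg_injective e)
    simp [Subtype.ext_iff, h1, hi1.symm, hi2.symm, hi3, hi5.symm, hi6.symm]
  exact hT.symm.le.trans (Finset.card_le_univ _)

theorem card_R4 [Finite F] (h2 : (2 : F) ≠ 0) {i : Fˣ} (hi : i * i = -1) : Nat.card (R4 F) = 64 := by
  rw [R4, card_ext h2 (pauli_R2 h2).toPre, R2, card_ext h2 pauli_mu.toPre, card_mu h2 hi]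

theorem card_R8 [Finite F] (h2 : (2 : F) ≠ 0) {i : Fˣ} (hi : i * i = -1) : Nat.card (R8 F) = 256 := by
  rw [R8, card_ext h2 (pauli_R4 h2).toPre, card_R4 h2 hi]

theorem map_conj_map (H : Subgroup (GL ι F)) (a b : GL ι F) :
    (H.map (MulAut.conj b).toMonoidHom).map (MulAut.conj a).toMonoidHom =
      H.map (MulAut.conj (a * b)).toMonoidHom := by
  rw [Subgroup.map_map]
  congr 1
  ext g
  simp [mul_assoc]

/-- All groups of Pauli type on `F ^ 8` are conjugate. -/
theorem exists_conj_R8 (h2 : (2 : F) ≠ 0) {i : F} (hi : i * i = -1) {R : Subgroup (GL I8 F)} (h : Pre R) :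
    ∃ P : GL I8 F, R = (R8 F).map (MulAut.conj P).toMonoidHom := by
  obtain ⟨P1, S1, h1, rfl⟩ := exists_split h2 hi h
  obtain ⟨P2, S2, h2', rfl⟩ := exists_split h2 hi h1
  obtain ⟨P3, S3, h3, rfl⟩ := exists_split h2 hi h2'
  obtain rfl := eq_mu h3
  refine ⟨P1 * dg (P2 * dg P3), ?_⟩
  rw [show R8 F = ext (ext (ext (mu (Fin 1) F))) from rfl]
  simp only [ext_map, map_conj_map]

/-- The permutation exchanging the first two qubits. -/
def wEquiv : I8 ≃ I8 := Equiv.sumSumSumComm I2 I2 I2 I2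

/-- The matrix of the permutation exchanging the first two qubits. -/
def WW : GL I8 F :=
  ⟨wEquiv.toPEquiv.toMatrix, wEquiv.symm.toPEquiv.toMatrix,
    by rw [← PEquiv.toMatrix_trans, ← Equiv.toPEquiv_trans, Equiv.self_trans_symm, Equiv.toPEquiv_refl,
      PEquiv.toMatrix_refl],
    by rw [← PEquiv.toMatrix_trans, ← Equiv.toPEquiv_trans, Equiv.symm_trans_self, Equiv.toPEquiv_refl,
      PEquiv.toMatrix_refl]⟩

theorem WW_conj_val (g : GL I8 F) :
    (WW * g * WW⁻¹ : GL I8 F).val = g.val.submatrix wEquiv wEquiv := by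
  show wEquiv.toPEquiv.toMatrix * g.val * wEquiv.symm.toPEquiv.toMatrix = _
  rw [PEquiv.toMatrix_toPEquiv_mul, PEquiv.mul_toMatrix_toPEquiv, Matrix.submatrix_submatrix]
  rfl

theorem WW_bd (p q p' q' : GL I2 F) :
    WW * bd (bd p q) (bd p' q') * WW⁻¹ = bd (bd p p') (bd q q') := by
  refine Units.ext ?_
  rw [WW_conj_val]
  ext (( a | a) | (a | a)) ((b | b) | (b | b)) <;> simp [bd_val, wEquiv]

theorem WW_sw : WW * (sw : GL I8 F) * WW⁻¹ = dg sw := by
  refine Units.ext ?_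
  rw [WW_conj_val]
  ext (( a | a) | (a | a)) ((b | b) | (b | b)) <;> simp [bd_val, dg_apply, sw_val, wEquiv, Matrix.one_apply]

theorem WW_dg_sw : WW * dg (sw : GL I4 F) * WW⁻¹ = sw := by
  refine Units.ext ?_
  rw [WW_conj_val]
  ext (( a | a) | (a | a)) ((b | b) | (b | b)) <;> simp [bd_val, dg_apply, sw_val, wEquiv, Matrix.one_apply]

theorem det_WW : (WW : GL I8 F).val.det = 1 := by
  show (wEquiv.toPEquiv.toMatrix : Matrix I8 I8 F).det = 1
  rw [show (wEquiv.toPEquiv.toMatrix : Matrix I8 I8 F) = Equiv.Perm.permMatrix F (wEquiv : Equiv.Perm I8) from rfl,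
    Matrix.det_permutation,
    show Equiv.Perm.sign wEquiv = 1 by decide]
  simp

theorem WW_mem_normalizer [Finite F] (h2 : (2 : F) ≠ 0) : (WW : GL I8 F) ∈ subgroupNormalizer (R8 F) := by
  have hR4 := (pauli_R4 (F := F) h2).toPre
  have hR2 := (pauli_R2 (F := F) h2).toPre
  refine mem_normalizer_of fun x hx => ?_
  have hle : R8 F ≤ (R8 F).comap (MulAut.conj (WW : GL I8 F)).toMonoidHom := by
    refine ext_le ?_ ?_ fun a ha => ?_
    · show WW * (sw : GL I8 F) * WW⁻¹ ∈ R8 F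
      rw [WW_sw]; exact dg_mem_ext (sw_mem_ext _)
    · show WW * bd (1 : GL I4 F) (-1) * WW⁻¹ ∈ R8 F
      rw [show bd (1 : GL I4 F) (-1) = bd (bd (1 : GL I2 F) 1) (bd (-1 : GL I2 F) (-1)) by rw [bd_neg, bd_one], WW_bd]
      exact dg_mem_ext (bd_one_neg_mem_ext hR2)
    · have hle4 : R4 F ≤ ((R8 F).comap (MulAut.conj (WW : GL I8 F)).toMonoidHom).comap dg := by
        refine ext_le ?_ ?_ fun b hb => ?_
        · show WW * dg (sw : GL I4 F) * WW⁻¹ ∈ R8 F
          rw [WW_dg_sw]; exact sw_mem_ext _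
        · show WW * dg (bd (1 : GL I2 F) (-1)) * WW⁻¹ ∈ R8 F
          rw [dg_apply, WW_bd, bd_one, bd_neg, bd_one]; exact bd_one_neg_mem_ext hR4
        · show WW * dg (dg b) * WW⁻¹ ∈ R8 F
          rw [dg_apply, dg_apply, WW_bd]; exact dg_mem_ext (dg_mem_ext hb)
      exact hle4 ha
  exact hle hx

end Cfsg.Agent.Lib.ExtraEight
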