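import Mathlib
import Cfsg.Prelude.Def_GeometricClasses

/-!
Groups of Pauli matrices: every absolutely irreducible 2-group whose elements commute up to sign, square to `±1` and
which contains the scalars of order dividing 4 is an iterated extension of the group of these scalars.
-/

set_option autoImplicit false
set_option linter.unusedSectionVars false

namespace Cfsg.Agent.Lib.ExtraEight

open Matrix Cfsg Cfsg.Geo

variable {F : Type*} [Field F] {ι κ : Type} [Fintype ι] [DecidableEq ι] [Fintype κ] [DecidableEq κ]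

theorem pow_four' {G : Type*} [Monoid G] (c : G) : c ^ 4 = c * c * (c * c) := by
  rw [show (4 : ℕ) = 2 + 2 from rfl, pow_add, pow_two]

/-- A scalar matrix. -/
def sc : Fˣ →* GL ι F := Units.map (Matrix.scalar ι : F →+* Matrix ι ι F).toMonoidHom

theorem sc_val (c : Fˣ) : ((sc c : GL ι F) : Matrix ι ι F) = (c : F) • (1 : Matrix ι ι F) := by
  simp [sc, Matrix.smul_one_eq_diagonal]

theorem sc_comm (c : Fˣ) (g : GL ι F) : sc c * g = g * sc c :=
  Units.ext (by rw [Units.val_mul, Units.val_mul, sc_val, Matrix.smul_mul, Matrix.one_mul, Matrix.mul_smul,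
    Matrix.mul_one])

theorem sc_neg_one : (sc (-1) : GL ι F) = -1 := Units.ext (by simp [sc_val])

theorem sc_mem_scalars (c : Fˣ) : (sc c : GL ι F) ∈ scalars ι F := ⟨c, rfl⟩

/-- A block diagonal matrix. -/
def bd (a b : GL ι F) : GL (ι ⊕ ι) F :=
  ⟨fromBlocks a.val 0 0 b.val, fromBlocks (a⁻¹).val 0 0 (b⁻¹).val,
    by simp [fromBlocks_multiply, ← fromBlocks_one], by simp [fromBlocks_multiply, ← fromBlocks_one]⟩

theorem bd_val (a b : GL ι F) : (bd a b : Matrix (ι ⊕ ι) (ι ⊕ ι) F) = fromBlocks a.val 0 0 b.val := rfl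

theorem bd_mul (a b c d : GL ι F) : bd a b * bd c d = bd (a * c) (b * d) :=
  Units.ext (by simp [bd_val, fromBlocks_multiply])

theorem bd_one : bd (1 : GL ι F) 1 = 1 := Units.ext (by simp [bd_val, ← fromBlocks_one])

theorem bd_inv (a b : GL ι F) : (bd a b)⁻¹ = bd a⁻¹ b⁻¹ := rfl

theorem bd_neg (a b : GL ι F) : bd (-a) (-b) = -bd a b := Units.ext (by simp [bd_val, fromBlocks_neg])

theorem bd_sc (c : Fˣ) : bd (sc c : GL ι F) (sc c) = sc c :=
  Units.ext (by simp [bd_val, sc_val, ← fromBlocks_one, fromBlocks_smul])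

theorem bd_inj {a b c d : GL ι F} (h : bd a b = bd c d) : a = c ∧ b = d := by
  have h' := congrArg (fun g : GL (ι ⊕ ι) F => (g : Matrix (ι ⊕ ι) (ι ⊕ ι) F)) h
  simp only [bd_val, fromBlocks_inj] at h'
  exact ⟨Units.ext h'.1, Units.ext h'.2.2.2⟩

theorem det_bd (a b : GL ι F) :
    ((bd a b : GL (ι ⊕ ι) F) : Matrix (ι ⊕ ι) (ι ⊕ ι) F).det = a.val.det * b.val.det := by
  rw [bd_val, det_fromBlocks_zero₂₁]

/-- The block swap. -/
def sw : GL (ι ⊕ ι) F :=
  ⟨fromBlocks 0 1 1 0, fromBlocks 0 1 1 0, by simp [fromBlocks_multiply, ← fromBlocks_one],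
    by simp [fromBlocks_multiply, ← fromBlocks_one]⟩

theorem sw_val : ((sw : GL (ι ⊕ ι) F) : Matrix (ι ⊕ ι) (ι ⊕ ι) F) = fromBlocks 0 1 1 0 := rfl

theorem sw_sq : (sw : GL (ι ⊕ ι) F) * sw = 1 :=
  Units.ext (by simp [sw_val, fromBlocks_multiply, ← fromBlocks_one])

theorem sw_inv : (sw : GL (ι ⊕ ι) F)⁻¹ = sw := rfl

theorem bd_sw (a b : GL ι F) : bd a b * sw = sw * bd b a :=
  Units.ext (by simp [bd_val, sw_val, fromBlocks_multiply])

theorem sw_bd_sw (a b : GL ι F) : sw * bd a b * sw = bd b a := by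
  rw [mul_assoc, bd_sw, ← mul_assoc, sw_sq, one_mul]

theorem bd_ne_sw_bd [Nonempty ι] (a b c d : GL ι F) : bd a b ≠ sw * bd c d := by
  intro h
  have h' := congrArg (fun g : GL (ι ⊕ ι) F => (g : Matrix (ι ⊕ ι) (ι ⊕ ι) F)) h
  simp only [Units.val_mul, bd_val, sw_val, fromBlocks_multiply, fromBlocks_inj] at h'
  exact a.ne_zero (by simpa using h'.1)

/-- The diagonal embedding. -/
def dg : GL ι F →* GL (ι ⊕ ι) F where
  toFun a := bd a a
  map_one' := bd_one
  map_mul' a b := (bd_mul a a b b).symm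

theorem dg_apply (a : GL ι F) : dg a = bd a a := rfl

/-- The extension of a group by a pair of anticommuting involutions. -/
def ext (R : Subgroup (GL ι F)) : Subgroup (GL (ι ⊕ ι) F) where
  carrier := {g | ∃ a ∈ R, ∃ b ∈ R, (b = a ∨ b = -a) ∧ (g = bd a b ∨ g = sw * bd a b)}
  one_mem' := ⟨1, one_mem R, 1, one_mem R, Or.inl rfl, Or.inl bd_one.symm⟩
  mul_mem' := by
    rintro g h ⟨a, ha, b, hb, hab, hg⟩ ⟨c, hc, d, hd, hcd, hh⟩
    have s1 : b * d = a * c ∨ b * d = -(a * c) := by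
      rcases hab with rfl | rfl <;> rcases hcd with rfl | rfl <;> simp
    have s2 : a * d = b * c ∨ a * d = -(b * c) := by
      rcases hab with rfl | rfl <;> rcases hcd with rfl | rfl <;> simp
    rcases hg with rfl | rfl <;> rcases hh with rfl | rfl
    · exact ⟨_, mul_mem ha hc, _, mul_mem hb hd, s1, Or.inl (bd_mul a b c d)⟩
    · exact ⟨_, mul_mem hb hc, _, mul_mem ha hd, s2, Or.inr (by rw [← mul_assoc, bd_sw, mul_assoc, bd_mul])⟩
    · exact ⟨_, mul_mem ha hc, _, mul_mem hb hd, s1, Or.inr (by rw [mul_assoc, bd_mul])⟩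
    · exact ⟨_, mul_mem hb hc, _, mul_mem ha hd, s2, Or.inl (by
        rw [← mul_assoc, sw_bd_sw, bd_mul])⟩
  inv_mem' := by
    rintro g ⟨a, ha, b, hb, hab, hg⟩
    rcases hg with rfl | rfl
    · refine ⟨a⁻¹, inv_mem ha, b⁻¹, inv_mem hb, ?_, Or.inl (bd_inv a b)⟩
      rcases hab with rfl | rfl <;> simp
    · refine ⟨b⁻¹, inv_mem hb, a⁻¹, inv_mem ha, ?_, Or.inr ?_⟩
      · rcases hab with rfl | rfl <;> simp
      · rw [_root_.mul_inv_rev, bd_inv, sw_inv, bd_sw]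

theorem dg_mem_ext {R : Subgroup (GL ι F)} {a : GL ι F} (ha : a ∈ R) : dg a ∈ ext R :=
  ⟨a, ha, a, ha, Or.inl rfl, Or.inl rfl⟩

theorem sw_mem_ext (R : Subgroup (GL ι F)) : sw ∈ ext R :=
  ⟨1, one_mem R, 1, one_mem R, Or.inl rfl, Or.inr (by rw [bd_one, mul_one])⟩

/-- The hypotheses on a group of Pauli type. -/
structure Pre (R : Subgroup (GL ι F)) : Prop where
  sq : ∀ x ∈ R, x * x = 1 ∨ x * x = -1
  comm : ∀ x ∈ R, ∀ y ∈ R, x * y = y * x ∨ x * y = -(y * x)
  mu : ∀ c : Fˣ, c ^ 4 = 1 → sc c ∈ R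
  cent : ∀ M : Matrix ι ι F, (∀ x ∈ R, M * (x : Matrix ι ι F) = (x : Matrix ι ι F) * M) → ∃ c : F, M = c • 1

/-- A group of Pauli type containing all the elements acting by signs on it. -/
structure Pauli (R : Subgroup (GL ι F)) : Prop extends Pre R where
  signs : ∀ g : GL ι F, (∀ x ∈ R, g * x * g⁻¹ = x ∨ g * x * g⁻¹ = -x) → ∃ c : Fˣ, ∃ r ∈ R, g = sc c * r

theorem Pre.neg_one {R : Subgroup (GL ι F)} (h : Pre R) : (-1 : GL ι F) ∈ R :=
  sc_neg_one (F := F) (ι := ι) ▸ h.mu (-1) (Units.ext (by norm_num))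

theorem Pre.neg_mem {R : Subgroup (GL ι F)} (h : Pre R) {x : GL ι F} (hx : x ∈ R) : -x ∈ R := by
  rw [← neg_one_mul]; exact mul_mem h.neg_one hx

theorem bd_one_neg_mem_ext {R : Subgroup (GL ι F)} (h : Pre R) : bd (1 : GL ι F) (-1) ∈ ext R :=
  ⟨1, one_mem R, -1, h.neg_one, Or.inr rfl, Or.inl rfl⟩

theorem ext_eq_dg (h2 : (2 : F) ≠ 0)
    {M : Matrix (ι ⊕ ι) (ι ⊕ ι) F}
    (hX : M * (bd (1 : GL ι F) (-1)).val = (bd (1 : GL ι F) (-1)).val * M)
    (hY : M * (sw : GL (ι ⊕ ι) F).val = (sw : GL (ι ⊕ ι) F).val * M) :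
    ∃ A : Matrix ι ι F, M = fromBlocks A 0 0 A := by
  rw [← M.fromBlocks_toBlocks] at hX hY ⊢
  simp only [bd_val, sw_val, Units.val_one, Units.val_neg, fromBlocks_multiply, fromBlocks_inj, mul_zero, zero_mul,
    mul_one, one_mul, mul_neg, neg_mul, add_zero, zero_add] at hX hY
  have hz : ∀ A : Matrix ι ι F, A = -A → A = 0 := fun A hA => by
    have : (2 : F) • A = 0 := by rw [two_smul]; nth_rw 2 [hA]; exact add_neg_cancel A
    exact (smul_eq_zero.1 this).resolve_left h2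
  exact ⟨M.toBlocks₁₁, by rw [hz _ hX.2.1.symm, hz _ hX.2.2.1, hY.2.1]⟩

theorem Pre.ext' {R : Subgroup (GL ι F)} (h2 : (2 : F) ≠ 0) (h : Pre R) : Pre (ext R) := by
  refine ⟨?_, ?_, fun c hc => ?_, fun M hM => ?_⟩
  · rintro g ⟨a, ha, b, hb, hab, hg⟩
    rcases hg with rfl | rfl
    · rw [bd_mul]
      rcases h.sq a ha with e | e <;> rcases hab with rfl | rfl <;> simp [e, bd_one, bd_neg]
    · rw [← mul_assoc, sw_bd_sw, bd_mul]
      rcases h.sq a ha with e | e <;> rcases hab with rfl | rfl <;> simp [e, bd_one, bd_neg]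
  · rintro g ⟨a, ha, b, hb, hab, hg⟩ g' ⟨c, hc, d, hd, hcd, hg'⟩
    have sneg : ∀ u : GL (ι ⊕ ι) F, sw * (-u) = -(sw * u) := fun u => mul_neg _ _
    have e1 : sw * bd a b * (sw * bd c d) = bd (b * c) (a * d) := by rw [← mul_assoc, sw_bd_sw, bd_mul]
    have e2 : sw * bd c d * (sw * bd a b) = bd (d * a) (c * b) := by rw [← mul_assoc, sw_bd_sw, bd_mul]
    have e3 : bd a b * (sw * bd c d) = sw * bd (b * c) (a * d) := by rw [← mul_assoc, bd_sw, mul_assoc, bd_mul]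
    have e4 : bd c d * (sw * bd a b) = sw * bd (d * a) (c * b) := by rw [← mul_assoc, bd_sw, mul_assoc, bd_mul]
    have e5 : sw * bd a b * bd c d = sw * bd (a * c) (b * d) := by rw [mul_assoc, bd_mul]
    have e6 : sw * bd c d * bd a b = sw * bd (c * a) (d * b) := by rw [mul_assoc, bd_mul]
    rcases hg with rfl | rfl <;> rcases hg' with rfl | rfl <;>
      simp only [e1, e2, e3, e4, e5, e6, bd_mul, ← sneg] <;>
      rcases h.comm a ha c hc with e | e <;> rcases hab with rfl | rfl <;> rcases hcd with rfl | rfl <;>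
      simp [e, ← bd_neg]
  · rw [← bd_sc]; exact dg_mem_ext (h.mu c hc)
  · obtain ⟨A, rfl⟩ := ext_eq_dg h2 (hM _ (bd_one_neg_mem_ext h)) (hM _ (sw_mem_ext R))
    obtain ⟨c, hc⟩ := h.cent A fun x hx => by
      have := hM _ (dg_mem_ext hx)
      simp only [dg_apply, bd_val, fromBlocks_multiply, fromBlocks_inj] at this
      simpa using this.1
    exact ⟨c, by rw [hc, ← fromBlocks_one, fromBlocks_smul]; simp⟩

theorem commute_of_conj_eq {G : Type*} [Group G] {g x : G} (h : g * x * g⁻¹ = x) : g * x = x * g :=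
  mul_inv_eq_iff_eq_mul.1 h

theorem Pauli.ext' {R : Subgroup (GL ι F)} (h2 : (2 : F) ≠ 0) (h : Pauli R) : Pauli (ext R) := by
  refine ⟨h.toPre.ext' h2, fun g hg => ?_⟩
  obtain ⟨X, hX⟩ : ∃ X : GL (ι ⊕ ι) F, X = bd (1 : GL ι F) (-1) := ⟨_, rfl⟩
  have hXR : X ∈ ext R := hX ▸ bd_one_neg_mem_ext h.toPre
  have hE := h.toPre.ext' h2
  have hsX : (sw : GL (ι ⊕ ι) F) * X * sw⁻¹ = -X := by
    rw [hX, sw_inv, sw_bd_sw, ← bd_neg (F := F) (ι := ι), neg_neg]
  have hXs : X * sw * X⁻¹ = -(sw : GL (ι ⊕ ι) F) := by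
    rw [mul_inv_eq_iff_eq_mul, neg_mul, hX, bd_sw, ← mul_neg, ← bd_neg (F := F) (ι := ι), neg_neg]
  have key : ∀ u ∈ ext R, ∀ x, g * x * g⁻¹ = x ∨ g * x * g⁻¹ = -x → x ∈ ext R →
      u * g * x * (u * g)⁻¹ = x ∨ u * g * x * (u * g)⁻¹ = -x := by
    intro u hu x hx hxR
    have e : u * g * x * (u * g)⁻¹ = u * (g * x * g⁻¹) * u⁻¹ := by group
    rw [e]
    rcases hx with hx | hx <;> rcases hE.comm u hu x hxR with hc | hc <;> rw [hx] <;>
      simp [hc]
  -- commute with the first involution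
  obtain ⟨u, hu, huX⟩ : ∃ u ∈ ext R, u * g * X * (u * g)⁻¹ = X := by
    rcases hg X hXR with e | e
    · exact ⟨1, one_mem _, by rw [one_mul, e]⟩
    · refine ⟨sw, sw_mem_ext R, ?_⟩
      rw [show sw * g * X * (sw * g)⁻¹ = sw * (g * X * g⁻¹) * sw⁻¹ by group, e, mul_neg, neg_mul, hsX, neg_neg]
  obtain ⟨v, hv, hvX, hvY⟩ : ∃ v ∈ ext R, v * g * X * (v * g)⁻¹ = X ∧ v * g * sw * (v * g)⁻¹ = sw := by
    rcases key u hu sw (hg sw (sw_mem_ext R)) (sw_mem_ext R) with e | e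
    · exact ⟨u, hu, huX, e⟩
    · refine ⟨X * u, mul_mem hXR hu, ?_, ?_⟩
      · rw [show X * u * g * X * (X * u * g)⁻¹ = X * (u * g * X * (u * g)⁻¹) * X⁻¹ by group, huX]; group
      · rw [show X * u * g * sw * (X * u * g)⁻¹ = X * (u * g * sw * (u * g)⁻¹) * X⁻¹ by group, e, mul_neg, neg_mul,
          hXs, neg_neg]
  obtain ⟨w, hw⟩ : ∃ w, w = v * g := ⟨_, rfl⟩
  rw [← hw] at hvX hvY
  obtain ⟨A, hA⟩ := ext_eq_dg h2 (M := w.val)
    (by rw [← hX, ← Units.val_mul, ← Units.val_mul, commute_of_conj_eq hvX])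
    (by rw [← Units.val_mul, ← Units.val_mul, commute_of_conj_eq hvY])
  have hAu : IsUnit A := by
    rw [Matrix.isUnit_iff_isUnit_det]
    have := w.isUnit
    rw [Matrix.isUnit_iff_isUnit_det, hA, det_fromBlocks_zero₂₁] at this
    exact isUnit_of_mul_isUnit_left this
  obtain ⟨a, rfl⟩ := hAu
  have hwa : w = dg a := Units.ext hA
  obtain ⟨c, r, hr, rfl⟩ := h.signs a fun x hx => by
    have h1 := key v hv (dg x) (hg _ (dg_mem_ext hx)) (dg_mem_ext hx)
    rw [← hw, hwa, ← map_mul, ← map_inv, ← map_mul] at h1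
    rcases h1 with e | e
    · exact Or.inl (bd_inj e).1
    · rw [dg_apply, dg_apply, ← bd_neg] at e; exact Or.inr (bd_inj e).1
  refine ⟨c, v⁻¹ * dg r, mul_mem (inv_mem hv) (dg_mem_ext hr), ?_⟩
  rw [← mul_assoc, sc_comm, mul_assoc, show (sc c : GL (ι ⊕ ι) F) = dg (sc c) from (bd_sc c).symm, ← map_mul, ← hwa,
    hw, inv_mul_cancel_left]

/-- The scalars of order dividing 4. -/
def mu (ι : Type) [Fintype ι] [DecidableEq ι] (F : Type*) [Field F] : Subgroup (GL ι F) :=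
  (rootsOfUnity 4 F).map sc

theorem mem_mu {g : GL ι F} : g ∈ mu ι F ↔ ∃ c : Fˣ, c ^ 4 = 1 ∧ sc c = g := by
  simp [mu, Subgroup.mem_map, mem_rootsOfUnity]

theorem exists_sc [Unique ι] (g : GL ι F) : ∃ c : Fˣ, g = sc c := by
  have h : (g.val default default : F) ≠ 0 := fun h0 => g.ne_zero (by
    ext a b; rw [Unique.eq_default a, Unique.eq_default b, h0]; rfl)
  exact ⟨Units.mk0 _ h, Units.ext (by ext a b; simp [sc_val, Unique.eq_default a, Unique.eq_default b])⟩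

theorem pauli_mu [Unique ι] : Pauli (mu ι F) := by
  refine ⟨⟨?_, ?_, fun c hc => mem_mu.2 ⟨c, hc, rfl⟩, fun M _ => ⟨M default default, ?_⟩⟩, fun g _ => ?_⟩
  · intro x hx
    obtain ⟨c, hc, rfl⟩ := mem_mu.1 hx
    have h1 : (c * c) * (c * c) = 1 := by
      rw [← hc, pow_four']
    have h2 : (c * c : Fˣ) = 1 ∨ (c * c : Fˣ) = -1 := by
      have := mul_self_eq_one_iff.1 (congrArg Units.val h1 : ((c * c : Fˣ) : F) * ((c * c : Fˣ) : F) = 1)
      exact this.imp (fun e => Units.ext e) (fun e => Units.ext e)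
    rcases h2 with e | e
    · left; rw [← map_mul, e, map_one]
    · right; rw [← map_mul, e, sc_neg_one]
  · intro x hx y _
    obtain ⟨c, _, rfl⟩ := mem_mu.1 hx
    exact Or.inl (sc_comm c y)
  · ext a b; simp [Unique.eq_default a, Unique.eq_default b]
  · obtain ⟨c, rfl⟩ := exists_sc g
    exact ⟨c, 1, one_mem _, by rw [mul_one]⟩

theorem eq_mu [Unique ι] {R : Subgroup (GL ι F)} (h : Pre R) : R = mu ι F := by
  apply le_antisymm
  · intro x hx
    obtain ⟨c, rfl⟩ := exists_sc x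
    refine mem_mu.2 ⟨c, ?_, rfl⟩
    have hinj : ∀ d e : Fˣ, (sc d : GL ι F) = sc e → d = e := fun d e he => Units.ext (by
      have := congrArg (fun g : GL ι F => g.val default default) he
      simpa [sc_val] using this)
    rcases h.sq _ hx with e | e
    · have := hinj (c * c) 1 (by rw [map_mul, map_one, e])
      rw [pow_four', this, one_mul]
    · have := hinj (c * c) (-1) (by rw [map_mul, sc_neg_one, e])
      rw [pow_four', this]; simp
  · intro x hx
    obtain ⟨c, hc, rfl⟩ := mem_mu.1 hx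
    exact h.mu c hc

/-- The matrix unit of a linear equivalence. -/
def ofEquivGL (f : (ι → F) ≃ₗ[F] (ι → F)) : GL ι F :=
  ⟨LinearMap.toMatrix' f.toLinearMap, LinearMap.toMatrix' f.symm.toLinearMap,
    by rw [← LinearMap.toMatrix'_comp, LinearEquiv.comp_symm, LinearMap.toMatrix'_id],
    by rw [← LinearMap.toMatrix'_comp, LinearEquiv.symm_comp, LinearMap.toMatrix'_id]⟩

theorem ofEquivGL_mulVec (f : (ι → F) ≃ₗ[F] (ι → F)) (w : ι → F) : (ofEquivGL f).val *ᵥ w = f w := by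
  show LinearMap.toMatrix' f.toLinearMap *ᵥ w = f w
  rw [LinearMap.toMatrix'_mulVec]; rfl

theorem Pre.map_equiv {R : Subgroup (GL ι F)} (h : Pre R) (e : GL ι F ≃* GL ι F)
    (he : ∃ P : GL ι F, ∀ x, e x = P * x * P⁻¹) : Pre (R.map e.toMonoidHom) := by
  obtain ⟨P, hP⟩ := he
  have hsc : ∀ c, e (sc c) = sc c := fun c => by rw [hP, ← sc_comm, mul_assoc, mul_inv_cancel, mul_one]
  have hneg : ∀ x, e (-x) = -e x := fun x => by rw [hP, hP, mul_neg, neg_mul]
  refine ⟨?_, ?_, fun c hc => ⟨sc c, h.mu c hc, hsc c⟩, fun M hM => ?_⟩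
  · rintro _ ⟨x, hx, rfl⟩
    rcases h.sq x hx with e' | e'
    · left; show e x * e x = 1; rw [← map_mul, e', map_one]
    · right; show e x * e x = -1; rw [← map_mul, e', hneg, map_one]
  · rintro _ ⟨x, hx, rfl⟩ _ ⟨y, hy, rfl⟩
    rcases h.comm x hx y hy with e' | e'
    · left; show e x * e y = e y * e x; rw [← map_mul, e', map_mul]
    · right; show e x * e y = -(e y * e x); rw [← map_mul, e', hneg, map_mul]
  · obtain ⟨c, hc⟩ := h.cent ((P⁻¹).val * M * P.val) fun x hx => by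
      have := hM (e x) ⟨x, hx, rfl⟩
      rw [hP, Units.val_mul, Units.val_mul] at this
      calc (P⁻¹).val * M * P.val * x.val = (P⁻¹).val * (M * (P.val * x.val * (P⁻¹).val)) * P.val := by
            simp only [Matrix.mul_assoc, Units.inv_mul, Matrix.mul_one]
        _ = (P⁻¹).val * ((P.val * x.val * (P⁻¹).val) * M) * P.val := by rw [this]
        _ = _ := by simp only [← Matrix.mul_assoc, Units.inv_mul, Matrix.one_mul]
    refine ⟨c, ?_⟩
    have := congrArg (fun N => P.val * N * (P⁻¹).val) hc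
    simp only [Matrix.mul_assoc, Units.mul_inv, Matrix.mul_one, Matrix.mul_smul, Matrix.smul_mul] at this
    rwa [← Matrix.mul_assoc, Units.mul_inv, Matrix.one_mul] at this

/-- Splitting off a pair of anticommuting involutions. -/
theorem exists_split [Nonempty ι] (h2 : (2 : F) ≠ 0) {i : F} (hi : i * i = -1)
    {R : Subgroup (GL (ι ⊕ ι) F)} (h : Pre R) :
    ∃ (P : GL (ι ⊕ ι) F) (R₀ : Subgroup (GL ι F)), Pre R₀ ∧ R = (ext R₀).map (MulAut.conj P).toMonoidHom := by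
  obtain ⟨ui, hui⟩ : ∃ u : Fˣ, (u : F) = i :=
    ⟨Units.mk0 i fun h0 => by rw [h0] at hi; simp at hi, rfl⟩
  have hu2 : ui * ui = -1 := Units.ext (by rw [Units.val_mul, hui, hi]; rfl)
  have hu4 : ui ^ 4 = 1 := by rw [pow_four', hu2]; simp
  have hnorm : ∀ x ∈ R, ∃ x' ∈ R, x' * x' = 1 ∧ ∃ c : Fˣ, x' = sc c * x := by
    intro x hx
    rcases h.sq x hx with e | e
    · exact ⟨x, hx, e, 1, by rw [map_one, one_mul]⟩
    · refine ⟨sc ui * x, mul_mem (h.mu _ hu4) hx, ?_, ui, rfl⟩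
      rw [mul_assoc, ← mul_assoc x, ← sc_comm, mul_assoc, ← mul_assoc (sc ui), ← map_mul, hu2, sc_neg_one, e]
      simp
  obtain ⟨x, hx, y, hy, hxy⟩ : ∃ x ∈ R, ∃ y ∈ R, x * y ≠ y * x := by
    by_contra hc
    push Not at hc
    obtain ⟨j⟩ := ‹Nonempty ι›
    have hall : ∀ M : Matrix (ι ⊕ ι) (ι ⊕ ι) F, ∃ c : F, M = c • 1 := fun M => by
      refine h.cent M fun x hx => ?_
      obtain ⟨c, hc'⟩ := h.cent x.val fun z hz => congrArg Units.val (hc x hx z hz)
      rw [hc']; simp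
    obtain ⟨c, hc'⟩ := hall (Matrix.single (Sum.inl j) (Sum.inr j) 1)
    have := congrFun (congrFun hc' (Sum.inl j)) (Sum.inr j)
    simp at this
  obtain ⟨a, ha, haa, c, hac⟩ := hnorm x hx
  obtain ⟨b, hb, hbb, d, hbd⟩ := hnorm y hy
  have hba : b * a = -(a * b) := by
    rcases h.comm b hb a ha with e | e
    · exfalso
      apply hxy
      rw [hac, hbd] at e
      have : sc d * (sc c * (y * x)) = sc d * (sc c * (x * y)) := by
        calc sc d * (sc c * (y * x)) = sc d * y * (sc c * x) := by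
              rw [← mul_assoc (sc c), sc_comm c y]; simp only [mul_assoc]
          _ = sc c * x * (sc d * y) := e
          _ = sc d * (sc c * (x * y)) := by
              rw [← mul_assoc (sc c * x), mul_assoc (sc c) x, ← sc_comm d x, ← mul_assoc, ← map_mul, mul_comm c d,
                map_mul]
              simp only [mul_assoc]
      exact (mul_left_cancel (mul_left_cancel this)).symm
    · exact e
  -- the eigenspace
  obtain ⟨A, hA⟩ : ∃ A, A = a.val := ⟨_, rfl⟩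
  obtain ⟨B, hB⟩ : ∃ B, B = b.val := ⟨_, rfl⟩
  have hAA : A * A = 1 := by rw [hA, ← Units.val_mul, haa, Units.val_one]
  have hBB : B * B = 1 := by rw [hB, ← Units.val_mul, hbb, Units.val_one]
  have hBA : B * A = -(A * B) := by rw [hA, hB, ← Units.val_mul, hba]; simp
  let E : Submodule F (ι ⊕ ι → F) := LinearMap.eqLocus (Matrix.toLin' A) LinearMap.id
  have hE : ∀ v, v ∈ E ↔ A *ᵥ v = v := fun v => by simp [E, LinearMap.mem_eqLocus]
  have hAB : ∀ v ∈ E, A *ᵥ (B *ᵥ v) = -(B *ᵥ v) := by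
    intro v hv
    have := (hE v).1 hv
    rw [Matrix.mulVec_mulVec, show A * B = -(B * A) by rw [hBA, neg_neg], Matrix.neg_mulVec,
      ← Matrix.mulVec_mulVec, this]
  let L : (E × E) →ₗ[F] (ι ⊕ ι → F) :=
    E.subtype ∘ₗ LinearMap.fst F E E + (Matrix.toLin' B ∘ₗ E.subtype) ∘ₗ LinearMap.snd F E E
  have hL : ∀ p : E × E, L p = (p.1 : ι ⊕ ι → F) + B *ᵥ (p.2 : ι ⊕ ι → F) := fun p => rfl
  have hz : ∀ v : ι ⊕ ι → F, v + v = 0 → v = 0 := fun v hv => by
    rw [← two_smul F] at hv; exact (smul_eq_zero.1 hv).resolve_left h2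
  have hinj : Function.Injective L := by
    intro p p' e
    rw [← sub_eq_zero] at e ⊢
    rw [← map_sub] at e
    obtain ⟨q, hq⟩ : ∃ q, q = p - p' := ⟨_, rfl⟩
    rw [← hq] at e ⊢
    rw [hL] at e
    have e' := congrArg (fun v => A *ᵥ v) e
    simp only [Matrix.mulVec_add, (hE _).1 q.1.2, hAB _ q.2.2, Matrix.mulVec_zero] at e'
    have h1 : (q.1 : ι ⊕ ι → F) = 0 := hz _ (by
      calc (q.1 : ι ⊕ ι → F) + q.1 = ((q.1 : ι ⊕ ι → F) + B *ᵥ q.2) + ((q.1 : ι ⊕ ι → F) + -(B *ᵥ q.2)) := by abel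
        _ = 0 := by rw [e, e', add_zero])
    rw [h1, zero_add] at e
    have h3 := congrArg (fun v => B *ᵥ v) e
    simp only [Matrix.mulVec_mulVec, hBB, Matrix.one_mulVec, Matrix.mulVec_zero] at h3
    exact Prod.ext (Subtype.ext h1) (Subtype.ext h3)
  have hsurj : Function.Surjective L := by
    intro v
    obtain ⟨u, hu⟩ : ∃ u : ι ⊕ ι → F, u = (2 : F)⁻¹ • (v + A *ᵥ v) := ⟨_, rfl⟩
    obtain ⟨w, hw⟩ : ∃ w : ι ⊕ ι → F, w = (2 : F)⁻¹ • (B *ᵥ v - B *ᵥ (A *ᵥ v)) := ⟨_, rfl⟩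
    have hu' : u ∈ E := by
      rw [hE, hu, Matrix.mulVec_smul, Matrix.mulVec_add, Matrix.mulVec_mulVec, hAA, Matrix.one_mulVec, add_comm]
    have hw' : w ∈ E := by
      rw [hE, hw, Matrix.mulVec_smul, Matrix.mulVec_sub, Matrix.mulVec_mulVec, Matrix.mulVec_mulVec,
        Matrix.mulVec_mulVec, show A * B * A = -B by rw [mul_assoc, hBA, mul_neg, ← mul_assoc, hAA, one_mul],
        show A * B = -(B * A) by rw [hBA, neg_neg], Matrix.neg_mulVec, Matrix.neg_mulVec]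
      congr 1; simp only [Matrix.mulVec_mulVec]; abel
    refine ⟨(⟨u, hu'⟩, ⟨w, hw'⟩), ?_⟩
    rw [hL]
    show u + B *ᵥ w = v
    rw [hu, hw, Matrix.mulVec_smul, Matrix.mulVec_sub, Matrix.mulVec_mulVec, Matrix.mulVec_mulVec,
      hBB, Matrix.one_mulVec, Matrix.one_mulVec, ← smul_add]
    rw [show v + A *ᵥ v + (v - A *ᵥ v) = (2 : F) • v by rw [two_smul]; abel, smul_smul, inv_mul_cancel₀ h2, one_smul]
  let Le := LinearEquiv.ofBijective L ⟨hinj, hsurj⟩
  have hk : Module.finrank F E = Fintype.card ι := by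
    have := Le.finrank_eq
    rw [Module.finrank_prod, Module.finrank_pi, Fintype.card_sum] at this
    omega
  let be : Module.Basis ι F E :=
    (Module.finBasisOfFinrankEq F E hk).reindex (Fintype.equivFin ι).symm
  let f : (ι ⊕ ι → F) ≃ₗ[F] (ι ⊕ ι → F) :=
    (LinearEquiv.sumArrowLequivProdArrow ι ι F F).trans ((be.equivFun.symm.prodCongr be.equivFun.symm).trans Le)
  have hf : ∀ w, f w = (be.equivFun.symm (w ∘ Sum.inl) : ι ⊕ ι → F) +
      B *ᵥ (be.equivFun.symm (w ∘ Sum.inr) : ι ⊕ ι → F) := fun w => rfl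
  obtain ⟨P, hP⟩ : ∃ P, P = ofEquivGL f := ⟨_, rfl⟩
  have hPw : ∀ w, P.val *ᵥ w = f w := fun w => by rw [hP, ofEquivGL_mulVec]
  have hPX : a * P = P * bd (1 : GL ι F) (-1) := Units.ext (Matrix.ext_iff_mulVec.2 fun w => by
    rw [Units.val_mul, Units.val_mul, ← Matrix.mulVec_mulVec, ← Matrix.mulVec_mulVec, hPw,
      hPw, ← hA, hf, hf, Matrix.mulVec_add, hAB _ (Subtype.coe_prop _),
      (hE _).1 (Subtype.coe_prop _)]
    have e1 : ((bd (1 : GL ι F) (-1)).val *ᵥ w) ∘ Sum.inl = w ∘ Sum.inl := by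
      funext k; simp [bd_val, fromBlocks_mulVec]
    have e2 : ((bd (1 : GL ι F) (-1)).val *ᵥ w) ∘ Sum.inr = -(w ∘ Sum.inr) := by
      funext k; simp [bd_val, fromBlocks_mulVec, Matrix.neg_mulVec]
    rw [e1, e2, map_neg, Submodule.coe_neg, Matrix.mulVec_neg])
  have hPY : b * P = P * sw := Units.ext (Matrix.ext_iff_mulVec.2 fun w => by
    rw [Units.val_mul, Units.val_mul, ← Matrix.mulVec_mulVec, ← Matrix.mulVec_mulVec, hPw,
      hPw, ← hB, hf, hf, Matrix.mulVec_add, Matrix.mulVec_mulVec, hBB, Matrix.one_mulVec]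
    have e1 : ((sw : GL (ι ⊕ ι) F).val *ᵥ w) ∘ Sum.inl = w ∘ Sum.inr := by
      funext k; simp [sw_val, fromBlocks_mulVec]
    have e2 : ((sw : GL (ι ⊕ ι) F).val *ᵥ w) ∘ Sum.inr = w ∘ Sum.inl := by
      funext k; simp [sw_val, fromBlocks_mulVec]
    rw [e1, e2, add_comm])
  obtain ⟨S, hS⟩ : ∃ S, S = R.map (MulAut.conj P⁻¹).toMonoidHom := ⟨_, rfl⟩
  have hSpre : Pre S := hS ▸ h.map_equiv (MulAut.conj P⁻¹) ⟨P⁻¹, fun x => rfl⟩
  have hRS : R = S.map (MulAut.conj P).toMonoidHom := by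
    rw [hS, Subgroup.map_map]
    ext g
    simp [MulAut.conj_apply, mul_assoc]
  have hXS : bd (1 : GL ι F) (-1) ∈ S := hS ▸ ⟨a, ha, by
    simp only [MulEquiv.coe_toMonoidHom, MulAut.conj_apply, inv_inv]
    rw [mul_assoc, hPX, inv_mul_cancel_left]⟩
  have hYS : (sw : GL (ι ⊕ ι) F) ∈ S := hS ▸ ⟨b, hb, by
    simp only [MulEquiv.coe_toMonoidHom, MulAut.conj_apply, inv_inv]
    rw [mul_assoc, hPY, inv_mul_cancel_left]⟩
  let R₀ : Subgroup (GL ι F) := S.comap dg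
  have hdec : ∀ g ∈ S, ∃ r, r ∈ R₀ ∧ (g = dg r ∨ g = bd r (-r) ∨ g = sw * dg r ∨ g = sw * bd r (-r)) := by
    intro g hg
    obtain ⟨X, hX⟩ : ∃ X : GL (ι ⊕ ι) F, X = bd (1 : GL ι F) (-1) := ⟨_, rfl⟩
    rw [← hX] at hXS
    have hXX : X * X = 1 := by rw [hX, bd_mul, neg_mul_neg, one_mul, bd_one]
    have hXsw : X * sw = -(sw * X) := by rw [hX, bd_sw, ← mul_neg, ← bd_neg, neg_neg]
    -- commute with the first involution
    obtain ⟨u, hu, huX, hgu⟩ : ∃ u ∈ S, u * X = X * u ∧ (g = u ∨ g = sw * u) := by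
      rcases hSpre.comm g hg X hXS with e | e
      · exact ⟨g, hg, e, Or.inl rfl⟩
      · refine ⟨sw * g, mul_mem hYS hg, ?_, Or.inr (by rw [← mul_assoc, sw_sq, one_mul])⟩
        rw [mul_assoc, e, mul_neg, ← mul_assoc, ← mul_assoc, hXsw, neg_mul]
    obtain ⟨v, hv, hvX, hvY, huv⟩ : ∃ v ∈ S, v * X = X * v ∧ v * sw = sw * v ∧ (u = v ∨ u = X * v) := by
      rcases hSpre.comm u hu sw hYS with e | e
      · exact ⟨u, hu, huX, e, Or.inl rfl⟩
      · refine ⟨X * u, mul_mem hXS hu, ?_, ?_, Or.inr (by rw [← mul_assoc, hXX, one_mul])⟩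
        · rw [mul_assoc, huX]
        · rw [mul_assoc, e, mul_neg, ← mul_assoc, hXsw, neg_mul, neg_neg, mul_assoc]
    obtain ⟨M, hM⟩ := ext_eq_dg h2 (M := v.val)
      (by rw [← hX, ← Units.val_mul, ← Units.val_mul, hvX]) (by rw [← Units.val_mul, ← Units.val_mul, hvY])
    have hMu : IsUnit M := by
      rw [Matrix.isUnit_iff_isUnit_det]
      have := v.isUnit
      rw [Matrix.isUnit_iff_isUnit_det, hM, det_fromBlocks_zero₂₁] at this
      exact isUnit_of_mul_isUnit_left this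
    obtain ⟨r, rfl⟩ := hMu
    have hvr : v = dg r := Units.ext hM
    refine ⟨r, show dg r ∈ S from hvr ▸ hv, ?_⟩
    have hXr : X * v = bd r (-r) := by rw [hX, hvr, dg_apply, bd_mul, one_mul, neg_one_mul]
    rcases hgu with rfl | rfl <;> rcases huv with rfl | rfl
    · exact Or.inl hvr
    · exact Or.inr (Or.inl hXr)
    · exact Or.inr (Or.inr (Or.inl (by rw [hvr])))
    · exact Or.inr (Or.inr (Or.inr (by rw [hXr])))
  refine ⟨P, R₀, ⟨fun x hx => ?_, fun x hx z hz => ?_, fun c hc => ?_, fun M hM => ?_⟩, ?_⟩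
  · rcases hSpre.sq _ hx with e | e <;> rw [← map_mul, dg_apply] at e
    · rw [← bd_one] at e; exact Or.inl (bd_inj e).1
    · rw [← bd_one, ← bd_neg] at e; exact Or.inr (bd_inj e).1
  · rcases hSpre.comm _ hx _ hz with e | e <;> rw [← map_mul, ← map_mul, dg_apply, dg_apply] at e
    · exact Or.inl (bd_inj e).1
    · rw [← bd_neg] at e; exact Or.inr (bd_inj e).1
  · show dg (sc c) ∈ S
    rw [dg_apply, bd_sc]; exact hSpre.mu c hc
  · obtain ⟨c, hc⟩ := hSpre.cent (fromBlocks M 0 0 M) fun g hg => by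
      obtain ⟨r, hr, hg⟩ := hdec g hg
      have hMr := hM r hr
      rcases hg with rfl | rfl | rfl | rfl <;>
        simp [dg_apply, bd_val, sw_val, fromBlocks_multiply, hMr]
    refine ⟨c, ?_⟩
    rw [← fromBlocks_one, fromBlocks_smul, fromBlocks_inj] at hc
    exact hc.1
  · rw [hRS]
    congr 1
    apply le_antisymm
    · intro g hg
      obtain ⟨r, hr, hg⟩ := hdec g hg
      have hnr : -r ∈ R₀ := by
        show dg (-r) ∈ S
        rw [dg_apply, bd_neg, ← dg_apply]; exact hSpre.neg_mem hr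
      rcases hg with rfl | rfl | rfl | rfl
      · exact dg_mem_ext hr
      · exact ⟨r, hr, -r, hnr, Or.inr rfl, Or.inl rfl⟩
      · exact mul_mem (sw_mem_ext R₀) (dg_mem_ext hr)
      · exact ⟨r, hr, -r, hnr, Or.inr rfl, Or.inr rfl⟩
    · rintro g ⟨r, hr, s, hs, hrs, hg⟩
      have hbd : bd r s ∈ S := by
        rcases hrs with rfl | rfl
        · exact hr
        · have : bd r (-r) = bd (1 : GL ι F) (-1) * dg r := by rw [dg_apply, bd_mul, one_mul, neg_one_mul]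
          rw [this]; exact mul_mem hXS hr
      rcases hg with rfl | rfl
      · exact hbd
      · exact mul_mem hYS hbd

theorem ext_map (Q : GL ι F) (S : Subgroup (GL ι F)) :
    ext (S.map (MulAut.conj Q).toMonoidHom) = (ext S).map (MulAut.conj (dg Q)).toMonoidHom := by
  have e : ∀ a b : GL ι F, dg Q * bd a b * (dg Q)⁻¹ = bd (Q * a * Q⁻¹) (Q * b * Q⁻¹) := fun a b => by
    rw [dg_apply, bd_inv, bd_mul, bd_mul]
  have e' : ∀ a b : GL ι F, dg Q * (sw * bd a b) * (dg Q)⁻¹ = sw * bd (Q * a * Q⁻¹) (Q * b * Q⁻¹) := fun a b => by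
    rw [← e, ← mul_assoc, dg_apply, bd_sw]; simp only [mul_assoc]
  ext g
  constructor
  · rintro ⟨_, ⟨a, ha, rfl⟩, _, ⟨b, hb, rfl⟩, hab, hg⟩
    simp only [MulEquiv.coe_toMonoidHom, MulAut.conj_apply] at hab hg
    have hab' : b = a ∨ b = -a := by
      rcases hab with h | h
      · exact Or.inl (by simpa using h)
      · right
        have := congrArg (fun z => Q⁻¹ * z * Q) h
        simpa [mul_assoc] using this
    rcases hg with rfl | rfl
    · exact ⟨bd a b, ⟨a, ha, b, hb, hab', Or.inl rfl⟩, e a b⟩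
    · exact ⟨sw * bd a b, ⟨a, ha, b, hb, hab', Or.inr rfl⟩, e' a b⟩
  · rintro ⟨_, ⟨a, ha, b, hb, hab, hg⟩, rfl⟩
    refine ⟨_, ⟨a, ha, rfl⟩, _, ⟨b, hb, rfl⟩, ?_, ?_⟩
    · rcases hab with rfl | rfl <;> simp
    · rcases hg with rfl | rfl
      · exact Or.inl (e a b)
      · exact Or.inr (e' a b)

end Cfsg.Agent.Lib.ExtraEight
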