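import Cfsg.Agent.Lib.ExtraEight.Pauli

/-!
Square roots of the elements of square `-1` of a group of Pauli type, and the movements they give.
-/

set_option autoImplicit false
set_option linter.unusedSectionVars false

namespace Cfsg.Agent.Lib.ExtraEight

open Matrix Cfsg Cfsg.Geo

variable {F : Type*} [Field F] {ι : Type} [Fintype ι] [DecidableEq ι]

theorem mem_normalizer_of [Finite F] {R : Subgroup (GL ι F)} {g : GL ι F} (h : ∀ x ∈ R, g * x * g⁻¹ ∈ R) :
    g ∈ subgroupNormalizer R := by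
  rw [subgroupNormalizer, Subgroup.mem_normalizer_iff]
  intro x
  refine ⟨h x, fun hx => ?_⟩
  have hf : Function.Injective (fun a : R => (⟨g * a * g⁻¹, h _ a.2⟩ : R)) := fun a b e => by
    have := congrArg Subtype.val e
    exact Subtype.ext (by simpa using this)
  obtain ⟨b, hb⟩ := (Finite.injective_iff_surjective.mp hf) ⟨_, hx⟩
  have := congrArg Subtype.val hb
  simp at this
  rw [← this]; exact b.2

theorem conj_mem_of_normalizer {R : Subgroup (GL ι F)} {g x : GL ι F} (h : g ∈ subgroupNormalizer R) (hx : x ∈ R) :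
    g * x * g⁻¹ ∈ R :=
  (Subgroup.mem_normalizer_iff.1 h x).1 hx

theorem conj_sc_mul (c : Fˣ) (g x : GL ι F) : sc c * g * x * (sc c * g)⁻¹ = g * x * g⁻¹ := by
  rw [show sc c * g * x * (sc c * g)⁻¹ = sc c * (g * x * g⁻¹) * (sc c)⁻¹ by group, sc_comm, mul_inv_cancel_right]

theorem sc_sq_neg {i : Fˣ} (hi : i * i = -1) : (sc i * sc i : GL ι F) = -1 := by
  rw [← map_mul, hi, sc_neg_one]

theorem neg_ne [Nonempty ι] (h2 : (2 : F) ≠ 0) (x : GL ι F) : x ≠ -x := by
  intro e
  have e' : x.val = -x.val := (congrArg Units.val e).trans (Units.val_neg x)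
  have : (2 : F) • x.val = 0 := by rw [two_smul]; nth_rw 2 [e']; exact add_neg_cancel _
  exact x.ne_zero ((smul_eq_zero.1 this).resolve_left h2)

/-- The element `1 + u`. -/
def rt (h2 : (2 : F) ≠ 0) (u : GL ι F) (hu : u * u = -1) : GL ι F where
  val := 1 + u.val
  inv := (2 : F)⁻¹ • (1 - u.val)
  val_inv := by
    have e : u.val * u.val = -1 := by rw [← Units.val_mul, hu]; simp
    rw [Matrix.mul_smul, add_mul, mul_sub, mul_sub, e, one_mul, one_mul, mul_one,
      show (1 - u.val + (u.val - -1) : Matrix ι ι F) = (2 : F) • 1 by rw [two_smul]; abel,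
      smul_smul, inv_mul_cancel₀ h2, one_smul]
  inv_val := by
    have e : u.val * u.val = -1 := by rw [← Units.val_mul, hu]; simp
    rw [Matrix.smul_mul, sub_mul, mul_add, mul_add, e, one_mul, one_mul, mul_one,
      show (1 + u.val - (u.val + -1) : Matrix ι ι F) = (2 : F) • 1 by rw [two_smul]; abel,
      smul_smul, inv_mul_cancel₀ h2, one_smul]

variable (h2 : (2 : F) ≠ 0)

theorem rt_val (u : GL ι F) (hu : u * u = -1) : (rt h2 u hu : Matrix ι ι F) = 1 + u.val := rfl

theorem rt_inv_val (u : GL ι F) (hu : u * u = -1) :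
    ((rt h2 u hu)⁻¹ : GL ι F).val = (2 : F)⁻¹ • (1 - u.val) := rfl

theorem rt_congr {u v : GL ι F} (hu : u * u = -1) (hv : v * v = -1) (e : u = v) : rt h2 u hu = rt h2 v hv := by
  subst e; rfl

theorem conj_sq {g u : GL ι F} (hu : u * u = -1) : g * u * g⁻¹ * (g * u * g⁻¹) = -1 := by
  rw [show g * u * g⁻¹ * (g * u * g⁻¹) = g * (u * u) * g⁻¹ by group, hu, mul_neg, neg_mul, mul_one, mul_inv_cancel]

theorem rt_conj (g : GL ι F) {u : GL ι F} (hu : u * u = -1) :
    g * rt h2 u hu * g⁻¹ = rt h2 (g * u * g⁻¹) (conj_sq hu) :=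
  Units.ext (by rw [Units.val_mul, Units.val_mul, rt_val, rt_val, Matrix.mul_add, mul_one, Matrix.add_mul,
    ← Units.val_mul, ← Units.val_mul, ← Units.val_mul, mul_inv_cancel, Units.val_one])

theorem rt_comm {u x : GL ι F} (hu : u * u = -1) (h : x * u = u * x) : rt h2 u hu * x = x * rt h2 u hu :=
  Units.ext (by rw [Units.val_mul, Units.val_mul, rt_val, Matrix.add_mul, Matrix.mul_add, one_mul, mul_one,
    ← Units.val_mul, ← Units.val_mul, h])

theorem rt_conj_comm {u x : GL ι F} (hu : u * u = -1) (h : x * u = u * x) :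
    rt h2 u hu * x * (rt h2 u hu)⁻¹ = x := by
  rw [rt_comm h2 hu h, mul_inv_cancel_right]

theorem rt_conj_anti {u x : GL ι F} (hu : u * u = -1) (h : x * u = -(u * x)) :
    rt h2 u hu * x * (rt h2 u hu)⁻¹ = u * x := by
  rw [mul_inv_eq_iff_eq_mul]
  apply Units.ext
  have e : (u * x * u).val = x.val := by
    rw [mul_assoc, h, mul_neg, ← mul_assoc, hu, neg_one_mul, neg_neg]
  rw [Units.val_mul, Units.val_mul (u * x), rt_val, Matrix.add_mul, Matrix.mul_add, one_mul, mul_one,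
    ← Units.val_mul, ← Units.val_mul, e, add_comm]

theorem rt_sq {u : GL ι F} (hu : u * u = -1) : rt h2 u hu * rt h2 u hu = sc (Units.mk0 2 h2) * u :=
  Units.ext (by
    have e : u.val * u.val = -1 := by rw [← Units.val_mul, hu]; simp
    rw [Units.val_mul, Units.val_mul, rt_val, sc_val, Matrix.add_mul, Matrix.mul_add, Matrix.mul_add, e, one_mul,
      one_mul, mul_one, Matrix.smul_mul, one_mul]
    rw [Units.val_mk0, two_smul]; abel)

theorem bd_sq {a b : GL ι F} (ha : a * a = -1) (hb : b * b = -1) : bd a b * bd a b = -1 := by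
  rw [bd_mul, ha, hb, bd_neg, bd_one]

theorem rt_bd {a b : GL ι F} (ha : a * a = -1) (hb : b * b = -1) :
    rt h2 (bd a b) (bd_sq ha hb) = bd (rt h2 a ha) (rt h2 b hb) :=
  Units.ext (by simp [rt_val, bd_val, ← fromBlocks_one, fromBlocks_add])

/-- An element conjugating `u` to `w`, for anticommuting `u` and `w` of square `-1`. -/
def tt (u w : GL ι F) (hu : u * u = -1) (hw : w * w = -1) : GL ι F :=
  sc (Units.mk0 2 h2)⁻¹ * (rt h2 u hu * rt h2 w hw)

theorem tt_conj {u w : GL ι F} (hu : u * u = -1) (hw : w * w = -1) (h : w * u = -(u * w)) :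
    tt h2 u w hu hw * u * (tt h2 u w hu hw)⁻¹ = w := by
  rw [tt, conj_sc_mul, show rt h2 u hu * rt h2 w hw * u * (rt h2 u hu * rt h2 w hw)⁻¹ =
    rt h2 u hu * (rt h2 w hw * u * (rt h2 w hw)⁻¹) * (rt h2 u hu)⁻¹ by group,
    rt_conj_anti h2 hw (by rw [h, neg_neg]), rt_conj_anti h2 hu (by rw [h, neg_mul, mul_assoc u w u, h]),
    ← mul_assoc, ← neg_neg (u * w), ← h, neg_mul, mul_assoc, hu, mul_neg, mul_one, neg_neg]

namespace Pre

variable {R : Subgroup (GL ι F)} (h : Pre R)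
include h

theorem conj_mem_rt [Finite F] {u : GL ι F} (hu : u * u = -1) (huR : u ∈ R) :
    rt h2 u hu ∈ subgroupNormalizer R := by
  refine mem_normalizer_of fun x hx => ?_
  rcases h.comm x hx u huR with e | e
  · rw [rt_conj_comm h2 hu e]; exact hx
  · rw [rt_conj_anti h2 hu e]; exact mul_mem huR hx

theorem tt_mem [Finite F] {u w : GL ι F} (hu : u * u = -1) (hw : w * w = -1) (huR : u ∈ R) (hwR : w ∈ R) :
    tt h2 u w hu hw ∈ subgroupNormalizer R := by
  refine mem_normalizer_of fun x hx => ?_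
  rw [tt, conj_sc_mul]
  exact conj_mem_of_normalizer (mul_mem (h.conj_mem_rt h2 hu huR) (h.conj_mem_rt h2 hw hwR)) hx

theorem scalar_or_anti {x : GL ι F} (hx : x ∈ R) : (∃ c : Fˣ, x = sc c) ∨ ∃ y ∈ R, y * x = -(x * y) := by
  by_cases hA : ∃ y ∈ R, y * x = -(x * y)
  · exact Or.inr hA
  push Not at hA
  left
  obtain ⟨c, hc⟩ := h.cent x.val fun y hy => by
    rw [← Units.val_mul, ← Units.val_mul, ((h.comm y hy x hx).resolve_right (hA y hy))]
  rcases isEmpty_or_nonempty ι with hι | ⟨⟨j⟩⟩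
  · exact ⟨1, Units.ext (Subsingleton.elim _ _)⟩
  have hc0 : c ≠ 0 := fun h0 => by
    haveI : Nonempty ι := ⟨j⟩
    exact x.ne_zero (by rw [hc, h0, zero_smul])
  exact ⟨Units.mk0 c hc0, Units.ext (by rw [hc, sc_val, Units.val_mk0])⟩

theorem sc_mem_of {x : GL ι F} [Nonempty ι] {c : Fˣ} (hx : x ∈ R) (e : x = sc c) : c ^ 4 = 1 := by
  have hinj : ∀ d f : Fˣ, (sc d : GL ι F) = sc f → d = f := fun d f he => Units.ext (by
    obtain ⟨j⟩ := ‹Nonempty ι›
    have := congrArg (fun g : GL ι F => g.val j j) he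
    simpa [sc_val] using this)
  subst e
  rcases h.sq _ hx with e | e
  · have := hinj (c * c) 1 (by rw [map_mul, map_one, e])
    rw [pow_four', this, one_mul]
  · have := hinj (c * c) (-1) (by rw [map_mul, sc_neg_one, e])
    rw [pow_four', this]; simp

variable {i : Fˣ} (hi : i * i = -1)
include hi

theorem i_mem : sc i ∈ R := h.mu i (by rw [pow_four', hi]; simp)

/-- A multiple of square `-1`. -/
theorem exists_sq_neg {y : GL ι F} (hy : y ∈ R) :
    ∃ y' ∈ R, y' * y' = -1 ∧ ∃ c : Fˣ, y' = sc c * y := by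
  rcases h.sq y hy with e | e
  · refine ⟨sc i * y, mul_mem (h.i_mem hi) hy, ?_, i, rfl⟩
    rw [mul_assoc, ← mul_assoc y, ← sc_comm, mul_assoc, e, mul_one, sc_sq_neg hi]
  · exact ⟨y, hy, e, 1, by rw [map_one, one_mul]⟩

theorem exists_anti_sq {x : GL ι F} (hx : ∃ y ∈ R, y * x = -(x * y)) :
    ∃ y ∈ R, y * y = -1 ∧ y * x = -(x * y) := by
  obtain ⟨y, hy, e⟩ := hx
  obtain ⟨y', hy', e', c, rfl⟩ := h.exists_sq_neg hi hy
  exact ⟨_, hy', e', by rw [mul_assoc, e, mul_neg, ← mul_assoc, sc_comm c x, mul_assoc]⟩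

theorem exists_anti_both {a b : GL ι F} (ha : a ∈ R) (hb : b ∈ R) (hA : ∃ y ∈ R, y * a = -(a * y))
    (hB : ∃ y ∈ R, y * b = -(b * y)) : ∃ w ∈ R, w * w = -1 ∧ w * a = -(a * w) ∧ w * b = -(b * w) := by
  obtain ⟨u, hu, hua⟩ := hA
  obtain ⟨v, hv, hvb⟩ := hB
  suffices ∃ w ∈ R, w * a = -(a * w) ∧ w * b = -(b * w) by
    obtain ⟨w, hw, e1, e2⟩ := this
    obtain ⟨w', hw', e', c, rfl⟩ := h.exists_sq_neg hi hw
    exact ⟨_, hw', e', by rw [mul_assoc, e1, mul_neg, ← mul_assoc, sc_comm c a, mul_assoc],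
      by rw [mul_assoc, e2, mul_neg, ← mul_assoc, sc_comm c b, mul_assoc]⟩
  rcases h.comm u hu b hb with e | e
  · rcases h.comm v hv a ha with e' | e'
    · refine ⟨u * v, mul_mem hu hv, ?_, ?_⟩
      · rw [mul_assoc, e', ← mul_assoc, hua, neg_mul, mul_assoc]
      · rw [mul_assoc, hvb, mul_neg, ← mul_assoc, e, mul_assoc]
    · exact ⟨v, hv, e', hvb⟩
  · exact ⟨u, hu, hua, e⟩

/-- Two commuting elements of square `-1` which differ by more than a sign are separated by anticommutation. -/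
theorem exists_sep {a b : GL ι F} [Nonempty ι] (ha : a ∈ R) (hb : b ∈ R) (haa : a * a = -1) (hbb : b * b = -1)
    (hab : a * b = b * a) (hA : ∃ y ∈ R, y * a = -(a * y)) (h1 : a ≠ b) (h1' : a ≠ -b) :
    ∃ e ∈ R, e * e = -1 ∧ e * a = -(a * e) ∧ e * b = b * e := by
  suffices ∃ e ∈ R, e * a = -(a * e) ∧ e * b = b * e by
    obtain ⟨w, hw, e1, e2⟩ := this
    obtain ⟨w', hw', e', c, rfl⟩ := h.exists_sq_neg hi hw
    exact ⟨_, hw', e', by rw [mul_assoc, e1, mul_neg, ← mul_assoc, sc_comm c a, mul_assoc],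
      by rw [mul_assoc, e2, ← mul_assoc, sc_comm c b, mul_assoc]⟩
  by_contra hno
  push Not at hno
  obtain ⟨u, hu, hua⟩ := hA
  have hub : u * b = -(b * u) := (h.comm u hu b hb).resolve_left (hno u hu hua)
  have hall : ∀ y ∈ R, y * (a * b) = a * b * y := by
    intro y hy
    rcases h.comm y hy a ha with e | e
    · rcases h.comm y hy b hb with e' | e'
      · rw [← mul_assoc, e, mul_assoc, e', mul_assoc]
      · exfalso
        refine hno (y * u) (mul_mem hy hu) ?_ ?_
        · rw [mul_assoc, hua, mul_neg, ← mul_assoc, e, mul_assoc]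
        · rw [mul_assoc, hub, mul_neg, ← mul_assoc, e', neg_mul, neg_neg, mul_assoc]
    · have e' : y * b = -(b * y) := (h.comm y hy b hb).resolve_left (hno y hy e)
      rw [← mul_assoc, e, neg_mul, mul_assoc, e', mul_neg, neg_neg, mul_assoc]
  obtain ⟨c, hc⟩ := h.cent (a * b).val fun y hy => by rw [← Units.val_mul, ← Units.val_mul, hall y hy]
  have hab2 : (a * b) * (a * b) = 1 := by
    rw [mul_assoc, ← mul_assoc b, ← hab, mul_assoc a b b, hbb, mul_neg, mul_one, mul_neg, haa, neg_neg]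
  have hcc : c * c = 1 := by
    have e := congrArg Units.val hab2
    rw [Units.val_mul, hc, Matrix.smul_mul, one_mul, smul_smul, Units.val_one] at e
    obtain ⟨j⟩ := ‹Nonempty ι›
    simpa using congrFun (congrFun e j) j
  have e : a * b = 1 ∨ a * b = -1 := by
    rcases mul_self_eq_one_iff.1 hcc with rfl | rfl
    · exact Or.inl (Units.ext (by rw [hc]; simp))
    · exact Or.inr (Units.ext (by rw [hc]; simp))
  have hb' : a * (a * b) = -b := by rw [← mul_assoc, haa, neg_one_mul]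
  rcases e with e | e <;> rw [e] at hb'
  · exact h1' (by rw [← hb', mul_one])
  · rw [mul_neg, mul_one, neg_inj] at hb'; exact h1 hb'

omit hi in
/-- Movements of single elements. -/
theorem move {N : Subgroup (GL ι F)}
    (step : ∀ a ∈ R, ∀ b ∈ R, a * a = -1 → b * b = -1 → b * a = -(a * b) → ∃ n ∈ N, n * a * n⁻¹ = b)
    {i : Fˣ} (hi : i * i = -1) {a b : GL ι F} (ha : a ∈ R) (hb : b ∈ R) (haa : a * a = -1) (hbb : b * b = -1)
    (hA : ∃ y ∈ R, y * a = -(a * y)) (hB : ∃ y ∈ R, y * b = -(b * y)) : ∃ n ∈ N, n * a * n⁻¹ = b := by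
  obtain ⟨w, hw, hww, hwa, hwb⟩ := h.exists_anti_both hi ha hb hA hB
  obtain ⟨n, hn, e⟩ := step a ha w hw haa hww hwa
  obtain ⟨m, hm, e'⟩ := step w hw b hb hww hbb (by rw [hwb, neg_neg])
  exact ⟨m * n, mul_mem hm hn, by rw [← e', ← e]; group⟩

omit hi in
/-- Movements fixing an element. -/
theorem move_fix {N : Subgroup (GL ι F)}
    (step : ∀ e, ∀ he : e * e = -1, e ∈ R → ∃ c : Fˣ, sc c * rt h2 e he ∈ N)
    {a b b' : GL ι F} (ha : a ∈ R) (hb : b ∈ R) (hb' : b' ∈ R) (haa : a * a = -1) (hbb : b * b = -1)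
    (hbb' : b' * b' = -1) (hba : b * a = -(a * b)) (hba' : b' * a = -(a * b')) :
    ∃ n ∈ N, n * a * n⁻¹ = a ∧ n * b * n⁻¹ = b' := by
  have one : ∀ x ∈ R, ∀ y ∈ R, x * x = -1 → y * y = -1 → x * a = -(a * x) → y * a = -(a * y) →
      y * x = -(x * y) → ∃ n ∈ N, n * a * n⁻¹ = a ∧ n * x * n⁻¹ = y := by
    intro x hx y hy hxx hyy hxa hya hyx
    obtain ⟨e, he⟩ : ∃ e, e = -(y * x) := ⟨_, rfl⟩
    have heR : e ∈ R := he ▸ h.neg_mem (mul_mem hy hx)
    have hee : e * e = -1 := by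
      rw [he, neg_mul_neg, mul_assoc, ← mul_assoc x, ← neg_neg (x * y), ← hyx, neg_mul, mul_assoc, hxx, mul_neg,
        mul_neg, mul_neg, mul_one, neg_neg, hyy]
    obtain ⟨c, hc⟩ := step e hee heR
    refine ⟨_, hc, ?_, ?_⟩ <;> rw [conj_sc_mul]
    · refine rt_conj_comm h2 hee ?_
      rw [he, mul_neg, neg_mul, mul_assoc y x a, hxa, mul_neg, ← mul_assoc y a x, hya, neg_mul, neg_neg, mul_assoc]
    · have ex : x * e = -(e * x) := by
        rw [he, mul_neg, neg_mul, neg_neg, ← mul_assoc, ← neg_neg (x * y), ← hyx, neg_mul, neg_neg, mul_assoc]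
      rw [rt_conj_anti h2 hee ex, he, neg_mul, mul_assoc, hxx, mul_neg, mul_one, neg_neg]
  have hw : a * b * a = -(a * (a * b)) := by rw [mul_assoc, hba, mul_neg]
  have hww : a * b * (a * b) = -1 := by
    rw [mul_assoc, ← mul_assoc b, hba, neg_mul, mul_assoc, hbb, mul_neg, mul_neg, mul_one, mul_neg, neg_neg, haa]
  have hwb : a * b * b = -(b * (a * b)) := by rw [← mul_assoc b, hba, neg_mul, neg_neg]
  obtain ⟨n, hn, n1, n2⟩ := one b hb (a * b) (mul_mem ha hb) hbb hww hba hw hwb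
  have hba'' : a * b' = -(b' * a) := by rw [hba', neg_neg]
  rcases h.comm b' hb' b hb with e | e
  · have hwb' : b' * (a * b) = -(a * b * b') := by rw [← mul_assoc, hba', neg_mul, mul_assoc, e, mul_assoc]
    obtain ⟨m, hm, m1, m2⟩ := one (a * b) (mul_mem ha hb) b' hb' hww hbb' hw hba' hwb'
    refine ⟨m * n, mul_mem hm hn, ?_, ?_⟩
    · rw [show m * n * a * (m * n)⁻¹ = m * (n * a * n⁻¹) * m⁻¹ by group, n1, m1]
    · rw [show m * n * b * (m * n)⁻¹ = m * (n * b * n⁻¹) * m⁻¹ by group, n2, m2]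
  · exact one b hb b' hb' hbb hbb' hba hba' e

end Pre

theorem det_rt_eq {u w : GL ι F} (hu : u * u = -1) (hw : w * w = -1) (h : w * u = -(u * w)) :
    (rt h2 u hu).val.det = (rt h2 w hw).val.det := by
  rw [rt_congr h2 hw (conj_sq hu) (tt_conj h2 hu hw h).symm, ← rt_conj h2 _ hu, Units.val_mul, Units.val_mul,
    Matrix.det_mul_comm, ← mul_assoc, ← Units.val_mul, inv_mul_cancel, Units.val_one, one_mul]

theorem det_rt_sq {u w : GL ι F} (hu : u * u = -1) (h : w * u = -(u * w)) :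
    (rt h2 u hu).val.det * (rt h2 u hu).val.det = (2 : F) ^ Fintype.card ι := by
  have e : w * u * w⁻¹ = -u := by rw [h, neg_mul, mul_inv_cancel_right]
  have hn : -u * -u = -1 := by rw [neg_mul_neg, hu]
  have e1 : (rt h2 u hu).val.det = (rt h2 (-u) hn).val.det := by
    rw [rt_congr h2 hn (conj_sq hu) e.symm, ← rt_conj h2 _ hu, Units.val_mul, Units.val_mul,
      Matrix.det_mul_comm, ← mul_assoc, ← Units.val_mul, inv_mul_cancel, Units.val_one, one_mul]
  have e2 : (rt h2 u hu).val * (rt h2 (-u) hn).val = (2 : F) • 1 := by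
    have e : u.val * u.val = -1 := by rw [← Units.val_mul, hu]; simp
    rw [rt_val, rt_val, Units.val_neg, Matrix.add_mul, Matrix.mul_add, Matrix.mul_add, mul_neg, mul_neg, e,
      one_mul, one_mul, mul_one, two_smul]
    abel
  nth_rw 2 [e1]
  rw [← Matrix.det_mul, e2, Matrix.det_smul, Matrix.det_one, mul_one]

theorem det_tt {u w : GL ι F} (hu : u * u = -1) (hw : w * w = -1) (h : w * u = -(u * w)) :
    (tt h2 u w hu hw).val.det = 1 := by
  rw [tt, Units.val_mul, Units.val_mul, Matrix.det_mul, Matrix.det_mul, ← det_rt_eq h2 hu hw h,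
    det_rt_sq h2 hu h, sc_val, Matrix.det_smul, Matrix.det_one, mul_one, Units.val_inv_eq_inv_val, Units.val_mk0,
    ← mul_pow, inv_mul_cancel₀ h2, one_pow]

end Cfsg.Agent.Lib.ExtraEight
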