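import Cfsg.Agent.Lib.ExtraEight.Blocks
import Cfsg.Agent.Lib.SLExtraFour.Unitary
import Cfsg.Agent.Lib.GeoTypesSU.Basic

/-!
The normaliser of a group of symplectic type is maximal in `SU₈(p)`, `p ≡ 3 mod 4`.
-/

set_option autoImplicit false
set_option linter.unusedSectionVars false

namespace Cfsg.Agent.Lib.ExtraEight

open Matrix Cfsg Cfsg.Geo

variable {F : Type*} [Field F] {ι κ : Type} [Fintype ι] [DecidableEq ι] [Fintype κ] [DecidableEq κ]

/-- The unitary group of the standard form. -/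
def uni (σ : F →+* F) (ι : Type) [Fintype ι] [DecidableEq ι] : Subgroup (GL ι F) where
  carrier := {g | (g.val.map σ)ᵀ * g.val = 1}
  one_mem' := by simp [Matrix.map_one]
  mul_mem' := fun {a b} ha hb => by
    simp only [Set.mem_ofPred_eq] at ha hb ⊢
    rw [Units.val_mul, Matrix.map_mul, Matrix.transpose_mul,
      show (b.val.map σ)ᵀ * (a.val.map σ)ᵀ * (a.val * b.val) =
        (b.val.map σ)ᵀ * ((a.val.map σ)ᵀ * a.val) * b.val by simp only [Matrix.mul_assoc], ha, Matrix.mul_one, hb]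
  inv_mem' := fun {a} ha => by
    simp only [Set.mem_ofPred_eq] at ha ⊢
    have e : ((a⁻¹).val.map σ)ᵀ = a.val := by
      have h1 : ((a⁻¹).val.map σ)ᵀ * (a.val.map σ)ᵀ = 1 := by
        rw [← Matrix.transpose_mul, ← Matrix.map_mul, Units.mul_inv, Matrix.map_one _ (map_zero σ) (map_one σ),
          Matrix.transpose_one]
      calc ((a⁻¹).val.map σ)ᵀ = ((a⁻¹).val.map σ)ᵀ * ((a.val.map σ)ᵀ * a.val) := by rw [ha, Matrix.mul_one]
        _ = a.val := by rw [← Matrix.mul_assoc, h1, Matrix.one_mul]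
    rw [e, Units.mul_inv]

variable {σ : F →+* F}

theorem mem_uni {g : GL ι F} : g ∈ uni σ ι ↔ (g.val.map σ)ᵀ * g.val = 1 := Iff.rfl

theorem mem_uni_inv {g : GL ι F} : g ∈ uni σ ι ↔ (g.val.map σ)ᵀ = (g⁻¹).val := by
  rw [mem_uni]
  constructor
  · intro h
    calc (g.val.map σ)ᵀ = (g.val.map σ)ᵀ * (g.val * (g⁻¹).val) := by rw [Units.mul_inv, Matrix.mul_one]
      _ = (g⁻¹).val := by rw [← Matrix.mul_assoc, h, Matrix.one_mul]
  · intro h; rw [h, Units.inv_mul]

theorem map_reindex_uni (e : ι ≃ κ) : (uni σ ι).map (glReindex e).toMonoidHom = uni σ κ := by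
  ext g
  rw [mem_map_reindex, mem_uni, mem_uni, reindex_val, Equiv.symm_symm, ← Matrix.submatrix_map,
    Matrix.transpose_submatrix, Matrix.submatrix_mul_equiv]
  constructor
  · intro h
    have := congrArg (fun N : Matrix ι ι F => N.submatrix e.symm e.symm) h
    simpa using this
  · intro h; rw [h, Matrix.submatrix_one_equiv]

theorem map_reindex_inf (e : ι ≃ κ) (S T : Subgroup (GL ι F)) :
    (S ⊓ T).map (glReindex e).toMonoidHom = S.map (glReindex e).toMonoidHom ⊓ T.map (glReindex e).toMonoidHom :=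
  Subgroup.map_inf _ _ _ (glReindex e).injective

theorem bd_mem_uni {a b : GL ι F} : bd a b ∈ uni σ (ι ⊕ ι) ↔ a ∈ uni σ ι ∧ b ∈ uni σ ι := by
  rw [mem_uni, mem_uni, mem_uni, bd_val, fromBlocks_map, fromBlocks_transpose, fromBlocks_multiply, ← fromBlocks_one,
    fromBlocks_inj]
  simp

theorem sw_mem_uni : (sw : GL (ι ⊕ ι) F) ∈ uni σ (ι ⊕ ι) := by
  rw [mem_uni, sw_val, fromBlocks_map, fromBlocks_transpose, fromBlocks_multiply, ← fromBlocks_one]
  simp

theorem WW_mem_uni : (WW : GL I8 F) ∈ uni σ I8 := by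
  rw [mem_uni_inv]
  show ((wEquiv.toPEquiv.toMatrix : Matrix I8 I8 F).map σ)ᵀ = wEquiv.symm.toPEquiv.toMatrix
  ext x y
  simp only [Matrix.transpose_apply, Matrix.map_apply, PEquiv.toMatrix_apply, Equiv.toPEquiv_apply, Option.mem_def,
    Option.some.injEq]
  by_cases h : wEquiv y = x
  · rw [if_pos h, if_pos (by rw [← h, Equiv.symm_apply_apply]), map_one]
  · rw [if_neg h, if_neg (fun e => h (by rw [← e, Equiv.apply_symm_apply])), map_zero]

theorem sc_mem_uni {c : Fˣ} (h : σ c * c = 1) : (sc c : GL ι F) ∈ uni σ ι := by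
  rw [mem_uni, sc_val, Matrix.map_smul' _ _ _ (map_mul σ), Matrix.map_one _ (map_zero σ) (map_one σ),
    Matrix.transpose_smul, Matrix.transpose_one, Matrix.smul_mul, Matrix.one_mul, smul_smul, h, one_smul]

theorem ext_le_uni {R : Subgroup (GL ι F)} (h : R ≤ uni σ ι) : ext R ≤ uni σ (ι ⊕ ι) := by
  refine ext_le sw_mem_uni (bd_mem_uni.2 ⟨one_mem _, ?_⟩) fun a ha => bd_mem_uni.2 ⟨h ha, h ha⟩
  rw [mem_uni, Units.val_neg, Units.val_one, Matrix.map_neg _ (map_neg σ), Matrix.map_one _ (map_zero σ) (map_one σ),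
    Matrix.transpose_neg, Matrix.transpose_one, neg_mul_neg, Matrix.one_mul]

theorem sigma_det {g : GL ι F} (h : g ∈ uni σ ι) : σ g.val.det * g.val.det = 1 := by
  have e := congrArg Matrix.det (mem_uni.1 h)
  rwa [det_mul, det_transpose, det_one, show (g.val.map σ).det = σ g.val.det from (RingHom.map_det σ g.val).symm] at e

section

variable [Fintype F] {p : ℕ} (hF : Fintype.card F = p ^ 2)

theorem gu_eq (n : ℕ) : Cfsg.GU n F p = uni (Forms.qPowHom hF) (Fin n) := by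
  ext g
  rw [FormConj.mem_GU_iff_twist hF, mem_uni]
  simp [FormConj.twist]

variable [Fact p.Prime] [CharP F p] (h4 : p % 4 = 3) (h2 : (2 : F) ≠ 0) {i : Fˣ} (hi : i * i = -1)
include hF h4 h2 hi

theorem qPow_val_i : Forms.qPowHom hF (i : F) = -(i : F) :=
  SLExtraFour.qPow_i hF h4 (by rw [← Units.val_mul, hi]; rfl)

theorem R8_le_uni : R4 F ≤ uni (Forms.qPowHom hF) I4 ∧ R8 F ≤ uni (Forms.qPowHom hF) I8 := by
  have hmu : mu (Fin 1) F ≤ uni (Forms.qPowHom hF) (Fin 1) := by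
    rintro g hg
    obtain ⟨c, hc, rfl⟩ := mem_mu.1 hg
    refine sc_mem_uni ?_
    have hi' : (i : F) * i = -1 := by rw [← Units.val_mul, hi]; rfl
    have hσ := qPow_val_i hF h4 h2 hi
    have hcF : (c : F) ^ 4 = 1 := by rw [← Units.val_pow_eq_pow_val, hc, Units.val_one]
    have : ((c : F) - 1) * ((c : F) + 1) * (((c : F) - i) * ((c : F) + i)) = 0 := by
      linear_combination hcF - ((c : F) * c - 1) * hi'
    rcases mul_eq_zero.1 this with h | h <;> rcases mul_eq_zero.1 h with h | h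
    · rw [sub_eq_zero.1 h, map_one, one_mul]
    · rw [eq_neg_of_add_eq_zero_left h, map_neg, map_one, neg_mul_neg, one_mul]
    · rw [sub_eq_zero.1 h, hσ, neg_mul, hi', neg_neg]
    · rw [eq_neg_of_add_eq_zero_left h, map_neg, hσ, neg_neg, mul_neg, hi', neg_neg]
  exact ⟨ext_le_uni (ext_le_uni hmu), ext_le_uni (ext_le_uni (ext_le_uni hmu))⟩

theorem conj_sq_two {ι : Type} [Fintype ι] [DecidableEq ι] {u : GL ι F} (hu : u * u = -1)
    (huU : u ∈ uni (Forms.qPowHom hF) ι) :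
    ((rt h2 u hu).val.map (Forms.qPowHom hF))ᵀ * (rt h2 u hu).val = (2 : F) • 1 := by
  have e : ((u.val).map (Forms.qPowHom hF))ᵀ = -u.val := by
    rw [mem_uni_inv.1 huU, inv_eq_of_mul_eq_one_right (by rw [mul_neg, hu, neg_neg] : u * -u = 1), Units.val_neg]
  have e' : u.val * u.val = -1 := by rw [← Units.val_mul, hu]; simp
  rw [rt_val, Matrix.map_add _ (map_add (Forms.qPowHom hF)), Matrix.map_one _ (map_zero _) (map_one _),
    Matrix.transpose_add, Matrix.transpose_one, e, Matrix.add_mul, one_mul, neg_mul, mul_add, e', mul_one, two_smul]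
  abel

theorem spec_unitary (hp3 : 3 ≤ p) :
    Spec h2 hi (uni (Forms.qPowHom hF) I4 ⊓ specialLinear I4 F) (uni (Forms.qPowHom hF) I8 ⊓ specialLinear I8 F) := by
  have hi' : (i : F) * i = -1 := by rw [← Units.val_mul, hi]; rfl
  have hσ := qPow_val_i hF h4 h2 hi
  have hG := SLExtraFour.good_unitary hF h4 hi' h2 hp3
  have hU := R8_le_uni hF h4 h2 hi
  have hS4 : (uni (Forms.qPowHom hF) I4 ⊓ specialLinear I4 F).map (glReindex e4).toMonoidHom =
      Cfsg.GU 4 F p ⊓ specialLinear (Fin 4) F := by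
    rw [map_reindex_inf, map_reindex_uni, map_reindex_sl, gu_eq hF]
  have hS8 : (uni (Forms.qPowHom hF) I8 ⊓ specialLinear I8 F).map (glReindex e8).toMonoidHom =
      Cfsg.GU 8 F p ⊓ specialLinear (Fin 8) F := by
    rw [map_reindex_inf, map_reindex_uni, map_reindex_sl, gu_eq hF]
  refine ⟨le_inf hU.1 (det_R4 h2), le_inf hU.2 (det_R8 h2), ⟨WW_mem_uni, mem_sl_iff.2 det_WW⟩,
    fun a ha b hb => ⟨bd_mem_uni.2 ⟨ha.1, hb.1⟩, ?_⟩, fun a ha => ⟨(bd_mem_uni.1 ha.1).1, ?_⟩,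
    fun a b hab c hc => ?_, fun a b hab => ?_, fun u hu huR => ⟨?_, mem_sl_iff.2 (det_cz_rt h2 hi hu huR)⟩,
    fun u hu w hw huR hwR h => ⟨?_, mem_sl_iff.2 (det_tt h2 hu hw h)⟩,
    max_transport hG hS4 (by rw [ZMod.card]; exact Fact.out),
    fun K hK hn hR => gen_transport hG hS4 K hK hn hR, fun M hMS hbd hswM hex => ?_⟩
  · show bd a b ∈ specialLinear I8 F
    rw [mem_sl_iff, det_bd, mem_sl_iff.1 ha.2, mem_sl_iff.1 hb.2, one_mul]
  · show a ∈ specialLinear I4 F
    have h := mem_sl_iff.1 ha.2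
    rw [det_bd, Units.val_one, det_one, mul_one] at h
    exact mem_sl_iff.2 h
  · refine ⟨(uni (Forms.qPowHom hF) I4).mul_mem ((uni (Forms.qPowHom hF) I4).mul_mem (bd_mem_uni.1 hab.1).1 hc.1) ((uni (Forms.qPowHom hF) I4).inv_mem (bd_mem_uni.1 hab.1).1), ?_⟩
    haveI : (specialLinear I4 F).Normal := MonoidHom.normal_ker _
    exact Subgroup.Normal.conj_mem inferInstance c hc.2 a
  · obtain ⟨hU', hD⟩ := hab
    obtain ⟨ha, hb⟩ := bd_mem_uni.1 hU'
    have hD' := mem_sl_iff.1 hD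
    rw [det_bd] at hD'
    obtain ⟨δ, hδ⟩ : ∃ δ : Fˣ, (δ : F) = a.val.det := ⟨(a.isUnit.map Matrix.detMonoidHom).unit, rfl⟩
    have hδ1 : Forms.qPowHom hF (δ : F) * δ = 1 := by rw [hδ]; exact sigma_det ha
    have hb' : b.val.det = (δ : F)⁻¹ := by rw [hδ]; exact eq_inv_of_mul_eq_one_right hD'
    obtain ⟨d, hd⟩ : ∃ d : GL I2 F, d = bd (sc δ) 1 := ⟨_, rfl⟩
    have hdU : d ∈ uni (Forms.qPowHom hF) I2 := hd ▸ bd_mem_uni.2 ⟨sc_mem_uni hδ1, one_mem _⟩
    have hdd : d.val.det = δ := by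
      rw [hd, det_bd, det_sc, Units.val_one, det_one, mul_one, Fintype.card_fin, pow_one]
    have hinv : ∀ {ι : Type} [Fintype ι] [DecidableEq ι] (g : GL ι F), (g⁻¹).val.det = g.val.det⁻¹ := fun g =>
      eq_inv_of_mul_eq_one_left (by rw [← det_mul, Units.inv_mul, det_one])
    refine ⟨d, ⟨bd_mem_uni.2 ⟨hdU, inv_mem hdU⟩, ?_⟩, ⟨(uni (Forms.qPowHom hF) I4).mul_mem ha ((uni (Forms.qPowHom hF) I4).inv_mem (bd_mem_uni.2 ⟨hdU, one_mem _⟩)), ?_⟩,
      ⟨(uni (Forms.qPowHom hF) I4).mul_mem hb ((uni (Forms.qPowHom hF) I4).inv_mem (bd_mem_uni.2 ⟨inv_mem hdU, one_mem _⟩)), ?_⟩⟩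
    · show bd d d⁻¹ ∈ specialLinear I4 F
      rw [mem_sl_iff, det_bd, hinv, hdd, mul_inv_cancel₀ δ.ne_zero]
    · show a * (bd d 1)⁻¹ ∈ specialLinear I4 F
      rw [mem_sl_iff, Units.val_mul, det_mul, hinv, det_bd, hdd, Units.val_one, det_one, mul_one, ← hδ,
        mul_inv_cancel₀ δ.ne_zero]
    · show b * (bd d⁻¹ 1)⁻¹ ∈ specialLinear I4 F
      rw [mem_sl_iff, Units.val_mul, det_mul, hinv, det_bd, hinv, hdd, Units.val_one, det_one, mul_one, hb',
        inv_inv, inv_mul_cancel₀ δ.ne_zero]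
  · show sc (cz hi h2) * rt h2 u hu ∈ uni (Forms.qPowHom hF) I8
    have hc : Forms.qPowHom hF ((cz hi h2 : Fˣ) : F) * (cz hi h2 : Fˣ) * 2 = 1 := by
      have h1 : (1 : F) - i ≠ 0 := by
        intro e
        refine h2 ?_
        linear_combination (1 + (i : F)) * e + hi'
      rw [cz, Units.val_inv_eq_inv_val, Units.val_mk0, map_inv₀, map_add, map_one, hσ, ← sub_eq_add_neg]
      field_simp [one_add_ne hi h2]
      linear_combination hi'
    rw [mem_uni, Units.val_mul, sc_val, Matrix.smul_mul, one_mul,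
      Matrix.map_smul' _ _ _ (map_mul (Forms.qPowHom hF)), Matrix.transpose_smul, Matrix.smul_mul, Matrix.mul_smul,
      conj_sq_two hF h4 h2 hi hu (hU.2 huR), smul_smul, smul_smul, hc, one_smul]
  · show tt h2 u w hu hw ∈ uni (Forms.qPowHom hF) I4
    rw [mem_uni, tt, Units.val_mul, Units.val_mul, sc_val, Matrix.smul_mul, one_mul,
      Matrix.map_smul' _ _ _ (map_mul (Forms.qPowHom hF)), Matrix.map_mul, Matrix.transpose_smul,
      Matrix.transpose_mul, Matrix.smul_mul, Matrix.mul_smul, smul_smul,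
      show ((rt h2 w hw).val.map (Forms.qPowHom hF))ᵀ * ((rt h2 u hu).val.map (Forms.qPowHom hF))ᵀ *
          ((rt h2 u hu).val * (rt h2 w hw).val) =
        ((rt h2 w hw).val.map (Forms.qPowHom hF))ᵀ * (((rt h2 u hu).val.map (Forms.qPowHom hF))ᵀ *
          (rt h2 u hu).val) * (rt h2 w hw).val by simp only [Matrix.mul_assoc],
      conj_sq_two hF h4 h2 hi hu (hU.1 huR), Matrix.mul_smul, Matrix.mul_one, Matrix.smul_mul,
      conj_sq_two hF h4 h2 hi hw (hU.1 hwR), smul_smul, smul_smul, Units.val_inv_eq_inv_val, Units.val_mk0,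
      map_inv₀, map_ofNat]
    rw [show (2 : F)⁻¹ * (2 : F)⁻¹ * 2 * 2 = 1 by field_simp, one_smul]
  · refine eq_top_of_blocks ?_ ?_ hMS hbd hswM hex
    · rw [hS8]
      refine GeoTypesSU.isMaximalIn_decomp hF (by norm_num) (by norm_num) (fun h => absurd h (by norm_num))
        ⟨isMDecomposition_dec, fun j w hw hw0 => ?_, fun a b hab u hu v hv => ?_⟩
      · obtain ⟨k, hk⟩ : ∃ k, w k ≠ 0 := Function.ne_iff.1 hw0
        have hkj : half k = j := by by_contra h; exact hk (hw k h)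
        have hm : (Pi.single k 1 : Fin 8 → F) ∈ dec F j := fun l hl =>
          Pi.single_eq_of_ne (fun e => hl (by rw [e, hkj])) _
        refine ⟨⟨_, hm, ?_⟩, ⟨_, hm, ?_⟩⟩
        · simp [Cfsg.hermForm, Pi.single_apply, (Fact.out : p.Prime).ne_zero, hk, ite_pow]
        · simp [Cfsg.hermForm, Pi.single_apply, (Fact.out : p.Prime).ne_zero, hk, ite_pow]
      · refine Finset.sum_eq_zero fun k _ => ?_
        by_cases h : half k = a
        · rw [hv k (by rw [h]; exact hab), zero_pow (Fact.out : p.Prime).ne_zero, mul_zero]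
        · rw [hu k h, zero_mul]
    · exact ⟨sw_mem_uni, mem_sl_iff.2 (by rw [det_sw]; norm_num)⟩

omit hi in
/-- Clause 11: the normaliser of a group of symplectic type is maximal in `SU₈(p)`. -/
theorem isMaximalIn_normalizer_unitary {R : Subgroup (GL (Fin 8) F)} (hS : IsSymplecticTypeGroup 2 R)
    (hirr : ActsAbsolutelyIrreducibly (matrixSet R)) (hGU : R ≤ Cfsg.GU 8 F p)
    (hZ : Nat.card (Subgroup.center R) = 4) :
    IsMaximalIn (Cfsg.GU 8 F p ⊓ specialLinear (Fin 8) F)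
      (subgroupNormalizer R ⊓ (Cfsg.GU 8 F p ⊓ specialLinear (Fin 8) F)) := by
  obtain ⟨i, hi, hpre⟩ := pre_of_data hS hirr hZ h2
  have hi0 : i ≠ 0 := fun h0 => by rw [h0] at hi; simp at hi
  have hiu : Units.mk0 i hi0 * Units.mk0 i hi0 = -1 := Units.ext (by simpa using hi)
  have hp3 : 3 ≤ p := by omega
  obtain ⟨P, hP⟩ := exists_conj_R8 h2 hi (hpre.map_reindex e8.symm)
  obtain ⟨σ, hσ⟩ : ∃ σ, σ = Forms.qPowHom hF := ⟨_, rfl⟩
  have hmax := (spec_unitary hF h4 h2 hiu hp3).isMaximalIn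
  rw [← hσ] at hmax
  have hU8 : R8 F ≤ uni σ I8 := hσ ▸ (R8_le_uni hF h4 h2 hiu).2
  have hRU : (R8 F).map (MulAut.conj P).toMonoidHom ≤ uni σ I8 := by
    rw [← hP, ← map_reindex_uni (σ := σ) e8.symm]
    refine Subgroup.map_mono ?_
    rw [hσ, ← gu_eq hF]
    exact hGU
  obtain ⟨A, hA⟩ : ∃ A, A = (P.val.map σ)ᵀ * P.val := ⟨_, rfl⟩
  have eP : ((P⁻¹).val.map σ)ᵀ * A * (P⁻¹).val = 1 := by
    rw [hA, ← Matrix.mul_assoc, ← Matrix.transpose_mul, ← Matrix.map_mul, Units.mul_inv,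
      Matrix.map_one _ (map_zero σ) (map_one σ), Matrix.transpose_one, Matrix.one_mul, Units.mul_inv]
  have hcommA : ∀ x ∈ R8 F, A * x.val = x.val * A := by
    intro x hx
    have h := mem_uni.1 (hRU ⟨x, hx, rfl⟩)
    simp only [MulEquiv.coe_toMonoidHom, MulAut.conj_apply, Units.val_mul, Matrix.map_mul, Matrix.transpose_mul] at h
    have h1 := congrArg (fun N => (P.val.map σ)ᵀ * N * P.val) h
    have e : (P.val.map σ)ᵀ * ((P⁻¹).val.map σ)ᵀ = 1 := by
      rw [← Matrix.transpose_mul, ← Matrix.map_mul, Units.inv_mul, Matrix.map_one _ (map_zero σ) (map_one σ),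
        Matrix.transpose_one]
    simp only [Matrix.mul_assoc, Matrix.mul_one, Units.inv_mul] at h1
    rw [← Matrix.mul_assoc (P.val.map σ)ᵀ, e, Matrix.one_mul] at h1
    have h3 : (x.val.map σ)ᵀ * (A * x.val) = A := by rw [hA]; simpa only [Matrix.mul_assoc] using h1
    calc A * x.val = x.val * ((x.val.map σ)ᵀ * (A * x.val)) := by
          rw [mem_uni_inv.1 (hU8 hx), ← Matrix.mul_assoc x.val, Units.mul_inv, Matrix.one_mul]
      _ = x.val * A := by rw [h3]
  obtain ⟨c, hc⟩ := (pauli_R8 h2).cent A hcommA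
  have hmem : ∀ g ∈ uni σ I8, P * g * P⁻¹ ∈ uni σ I8 := by
    intro g hg
    rw [mem_uni] at hg ⊢
    simp only [Units.val_mul, Matrix.map_mul, Matrix.transpose_mul]
    calc _ = ((P⁻¹).val.map σ)ᵀ * ((g.val.map σ)ᵀ * A * g.val) * (P⁻¹).val := by
          rw [hA]; simp only [Matrix.mul_assoc]
      _ = 1 := by
          rw [hc, Matrix.mul_smul, Matrix.mul_one, Matrix.smul_mul, hg, ← hc, eP]
  have hn : (uni σ I8 ⊓ specialLinear I8 F).map (MulAut.conj P).toMonoidHom = uni σ I8 ⊓ specialLinear I8 F := by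
    haveI : (specialLinear I8 F).Normal := MonoidHom.normal_ker _
    refine Subgroup.eq_of_le_of_card_ge ?_
      (Subgroup.card_map_of_injective (K := uni σ I8 ⊓ specialLinear I8 F) (MulAut.conj P).injective).ge
    rintro _ ⟨g, hg, rfl⟩
    exact ⟨hmem g hg.1, Subgroup.Normal.conj_mem inferInstance g hg.2 P⟩
  have h1 := isMaximalIn_map (MulAut.conj P) hmax
  rw [← hP, hn] at h1
  have h3 := isMaximalIn_map (glReindex (F := F) e8) h1
  rw [map_reindex_inf, map_reindex_uni, map_reindex_sl, hσ, ← gu_eq hF,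
    show (R.map (glReindex e8.symm).toMonoidHom).map (glReindex e8).toMonoidHom = R from
      map_reindex_symm e8.symm R] at h3
  exact h3

end

end Cfsg.Agent.Lib.ExtraEight
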